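import Mathlib
import Cfsg.Agent.H7.Quot
import Cfsg.Agent.H1.Cores
import Cfsg.Agent.H8.Princ
import Cfsg.Agent.H8.Induced
import Cfsg.Agent.H8.Ord1
import Cfsg.Agent.H19.BD9
import Cfsg.Agent.S0928

/-!
# Groups with a single block; norm estimates for characters of defect zero
-/

namespace Cfsg.Agent.H8

open Cfsg Cfsg.Agent.H4 Cfsg.Agent.H5
open scoped ComplexConjugate

section one
variable {G : Type*} [Group G] [Finite G] {p : ℕ} [hp : Fact p.Prime] {M : Ideal AlgInt}

theorem isPGroup_of_prime_order {H : Subgroup G}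
    (h : ∀ y ∈ H, (orderOf y).Prime → orderOf y = p) : IsPGroup p H := by
  rw [IsPGroup.iff_card]
  refine ⟨_, Nat.eq_prime_pow_of_unique_prime_dvd Nat.card_pos.ne' fun {q} hq hd => ?_⟩
  haveI := Fact.mk hq
  obtain ⟨y, hy⟩ := exists_prime_orderOf_dvd_card' q hd
  rw [← Subgroup.orderOf_coe] at hy
  exact hy ▸ h y y.2 (hy ▸ hq)

theorem principal_eq_univ_of_centralizer (hM : IsPModular p M) {Q : Subgroup G} [Q.Normal]
    (hQ : IsPGroup p Q) (hC : IsPGroup p (Subgroup.centralizer (Q : Set G))) :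
    principalBlock M G = Set.univ := by
  haveI := hM.2.1
  haveI := H6.charP_res hM
  have hC' : Subgroup.centralizer (pCore p G : Set G) ≤ pCore p G :=
    (Subgroup.centralizer_le (H1.le_pCore hQ)).trans (H1.le_pCore hC)
  have key : ∀ B : Set (IrrCharacter G), IsPBlock M B → H6.eB M B = 1 := fun B hB => by
    have h1 := H7.supp_centralizer_of_idem (L := ⊤) (H1.isPGroup_pCore p G) le_top
      Subgroup.le_normalizer_of_normal (H7.eB_mem_Fix (M := M) B) (H7.blk_eB hB).idem
    exact (H7.idem_eq_zero_or_one_of_supp (H1.isPGroup_pCore p G)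
      ⟨h1.mono hC', (H7.eB_mem_Fix B).2.mono le_top⟩ (H7.blk_eB hB).idem).resolve_left
      (H7.blk_eB hB).ne_zero
  refine Set.eq_univ_of_forall fun χ => ?_
  have h := H6.eB_injective (H6.isPBlock_blockOf (M := M) χ) H6.isPBlock_principal
    ((key _ (H6.isPBlock_blockOf χ)).trans (key _ H6.isPBlock_principal).symm)
  exact h ▸ H6.mem_blockOf_self (M := M) χ

/-- characters outside the principal block vanish at `p`-elements with constrained centralizer -/
theorem apply_eq_zero_of_not_mem_principal (hM : IsPModular p M) {u : G}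
    (hu : ∃ k, orderOf u = p ^ k) {Q : Subgroup G} (hQ : IsPGroup p Q)
    (hQC : Q ≤ Subgroup.centralizer {u})
    (hN : ∀ c ∈ Subgroup.centralizer {u}, ∀ q ∈ Q, c * q * c⁻¹ ∈ Q)
    (hC : ∀ y ∈ Subgroup.centralizer {u}, (orderOf y).Prime → orderOf y ≠ p →
      ¬ Q ≤ Subgroup.centralizer {y})
    {χ : IrrCharacter G} (hχ : χ ∉ principalBlock M G) : (χ : G → ℂ) u = 0 := by
  haveI := hM.2.1
  haveI := Fintype.ofFinite G
  haveI := Fintype.ofFinite (Subgroup.centralizer ({u} : Set G))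
  haveI : (Q.subgroupOf (Subgroup.centralizer {u})).Normal :=
    ⟨fun q hq c => hN c c.2 q hq⟩
  have h1 : principalBlock M (Subgroup.centralizer ({u} : Set G)) = Set.univ := by
    refine principal_eq_univ_of_centralizer hM (Q := Q.subgroupOf _) (hQ.comap_subtype)
      (isPGroup_of_prime_order fun y hy hy' => ?_)
    by_contra h2
    rw [← Subgroup.orderOf_coe] at hy' h2
    refine hC y y.2 hy' h2 fun q hq => Subgroup.mem_centralizer_singleton_iff.2 ?_
    exact congrArg Subtype.val (Subgroup.mem_centralizer_iff.1 hy ⟨q, hQC hq⟩ hq)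
  have h2 := H6.principal_section_of_not_mem hM hu hχ (y := 1)
    (by rw [orderOf_one]; exact hp.out.one_lt.ne' ∘ Nat.dvd_one.1)
  have h3 := (secData_centralizer hu).isClassFunction_sec χ.2.isClassFunction
  rw [h1, blockPart_apply, show bfin Set.univ = Finset.univ from by ext; simp] at h2
  have h4 := h3.apply_eq_sum 1
  rw [sec_apply] at h4
  simpa using h4.trans h2

theorem sameBlock_of_vanish (hM : IsPModular p M)
    (h : ∀ u : G, orderOf u = p → ∀ χ ∉ principalBlock M G, (χ : G → ℂ) u = 0)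
    (h0 : ∀ χ : IrrCharacter G,
      (charDegree (χ : G → ℂ)).factorization p ≠ (Nat.card G).factorization p)
    (χ ψ : IrrCharacter G) : SameBlock M (χ : G → ℂ) (ψ : G → ℂ) := by
  haveI := hM.2.1
  have h1 : ∀ χ : IrrCharacter G, χ ∈ principalBlock M G := fun χ => by
    by_contra hc
    exact h0 χ (S0928.result p χ fun g hg => h g hg χ hc)
  have h2 := H6.block_eq_blockOf H6.isPBlock_principal (h1 χ)
  have h3 := h1 ψ
  rw [h2] at h3
  exact h3

end one

section norm
variable {G : Type*} [Group G] [Finite G] {θ : G → ℂ}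

theorem card_mul_le_sum_normSq (h : IsGeneralizedCharacter G θ) (S : Finset G)
    (hS : ∀ g ∈ S, ∀ m : ℕ, m.Coprime (Nat.card G) → g ^ m ∈ S) (h0 : ∀ g ∈ S, θ g ≠ 0) {c : ℕ}
    (hc : c ≠ 0) (hi : ∀ g ∈ S, IsIntegral ℤ (θ g / c)) :
    (S.card : ℝ) * c ^ 2 ≤ ∑ g ∈ S, ‖θ g‖ ^ 2 := by
  have : NeZero (Nat.card G) := ⟨Nat.card_pos.ne'⟩
  let U := (ZMod (Nat.card G))ˣ
  have hU : (0 : ℝ) < Fintype.card U := by exact_mod_cast Fintype.card_pos
  have hc' : (c : ℂ) ≠ 0 := Nat.cast_ne_zero.2 hc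
  have hc'' : (0 : ℝ) < c := by exact_mod_cast Nat.pos_of_ne_zero hc
  have h3 : ∀ g ∈ S, (Fintype.card U : ℝ) ≤
      ∑ u : U, ‖θ (g ^ (u : ZMod (Nat.card G)).val) / c‖ ^ 2 := fun g hg => by
    obtain ⟨z, hz⟩ := exists_int_prod_pow (fun g => θ g / c) g (pow_card_eq_one' (x := g))
      (hi g hg) (fun σ m hσ k => by
        rw [map_div₀, map_natCast, h.map_apply_eq_pow hσ pow_card_eq_one'])
    have hz0 : z ≠ 0 := by
      rintro rfl
      rw [Int.cast_zero, Finset.prod_eq_zero_iff] at hz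
      obtain ⟨u, -, hu⟩ := hz
      exact h0 _ (hS g hg _ (ZMod.val_coe_unit_coprime u)) ((div_eq_zero_iff.1 hu).resolve_right hc')
    refine card_le_sum_of_one_le_prod _ (fun _ => by positivity) ?_
    rw [Finset.prod_pow, ← norm_prod, hz, Complex.norm_intCast, ← Int.cast_abs]
    exact one_le_pow₀ (by exact_mod_cast Int.one_le_abs hz0)
  have h4 := Finset.sum_le_sum h3
  rw [Finset.sum_comm] at h4
  have h5 : ∀ u : U, ∑ g ∈ S, ‖θ (g ^ (u : ZMod (Nat.card G)).val) / c‖ ^ 2 =
      (∑ g ∈ S, ‖θ g‖ ^ 2) / c ^ 2 := fun u => by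
    rw [sum_pow_eq_of_closed S hS (fun g => ‖θ g / c‖ ^ 2) (ZMod.val_coe_unit_coprime u),
      Finset.sum_div]
    simp [div_pow]
  simp only [h5, Finset.sum_const, Finset.card_univ, nsmul_eq_mul] at h4
  rw [mul_comm] at h4
  exact (le_div_iff₀ (by positivity)).1 (le_of_mul_le_mul_left h4 hU)

open Classical in
/-- the elements of order `q` contribute to the norm of a character of `p`-defect zero -/
theorem le_sum_normSq_order [Fintype G] {p q k : ℕ} [Fact p.Prime] (hq : q.Prime) {χ : G → ℂ}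
    (hχ : IsCharacter G χ) (hv : ∀ g, p ∣ orderOf g → χ g = 0) (hd : ¬ q ∣ charDegree χ)
    (hk : ∀ g : G, orderOf g = q → p ^ k ∣ Nat.card (Subgroup.centralizer ({g} : Set G))) {x : G}
    (hx : orderOf x = q) :
    ((Subgroup.centralizer ({x} : Set G)).index : ℝ) * (p ^ k) ^ 2 ≤
      ∑ g with orderOf g = q, ‖χ g‖ ^ 2 := by
  have hp : p.Prime := Fact.out
  have := card_mul_le_sum_normSq hχ.isGen (Finset.univ.filter fun g => orderOf g = q)
    (fun g hg m hm => by
      rw [Finset.mem_filter] at hg ⊢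
      refine ⟨Finset.mem_univ _, ?_⟩
      rw [Nat.Coprime.orderOf_pow (hm.coprime_dvd_right (orderOf_dvd_natCard g)).symm, hg.2])
    (fun g hg h0 => hd (H19.dvd_degree_of_apply_eq_zero hχ (k := 1) hq
      (by rw [pow_one, ← (Finset.mem_filter.1 hg).2, pow_orderOf_eq_one]) h0))
    (c := p ^ k) (pow_ne_zero _ hp.ne_zero) (fun g hg => by
      obtain ⟨j, hj⟩ := Nat.exists_eq_add_of_le ((hp.pow_dvd_iff_le_factorization
        Nat.card_pos.ne').1 (hk g (Finset.mem_filter.1 hg).2))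
      have h1 := (isIntegral_div_of_vanish hχ.isGen hv g).mul
        (isIntegral_algebraMap (R := ℤ) (x := ((p ^ j : ℕ) : ℤ)))
      rw [hj] at h1
      have : (p : ℂ) ≠ 0 := Nat.cast_ne_zero.2 hp.ne_zero
      have e : χ g / ((p ^ k : ℕ) : ℂ) = χ g / ((p ^ (k + j) : ℕ) : ℂ) *
          algebraMap ℤ ℂ ((p ^ j : ℕ) : ℤ) := by
        rw [eq_intCast]
        push_cast
        field_simp
        ring
      rwa [e])
  refine le_trans ?_ this
  push_cast
  gcongr
  rw [← H19.card_class_eq_index, Nat.card_eq_fintype_card, Fintype.card_subtype]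
  exact Finset.card_le_card fun g hg => by
    obtain ⟨c, rfl⟩ := isConj_iff.1 (Finset.mem_filter.1 hg).2
    refine Finset.mem_filter.2 ⟨Finset.mem_univ _, ?_⟩
    rw [← MulAut.conj_apply, MulEquiv.orderOf_eq, hx]

omit [Finite G] in
theorem sum_normSq_eq_card [Fintype G] {χ : G → ℂ} (hχ : IsIrrCharacter G χ) :
    ∑ g, ‖χ g‖ ^ 2 = Nat.card G := by
  have := classInner_self_re (φ := χ)
  rw [hχ.classInner_self, Complex.one_re, eq_inv_mul_iff_mul_eq₀ (by
    exact_mod_cast Nat.card_pos.ne'), mul_one] at this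
  exact this.symm

omit [Finite G] in
open Classical in
theorem sum_singular_bot [Fintype G] {p : ℕ} [Fact p.Prime] {x : G} (h : H19.PO p x ⊥)
    {θ : G → ℂ} (hθ : IsClassFunction G θ) :
    (p * H19.eN h.ord : ℂ) * ∑ g with orderOf g = p, θ g =
      Nat.card G * ∑ i : (ZMod p)ˣ, θ (H19.xp x (i : ZMod p)) := by
  haveI := Fintype.ofFinite (⊥ : Subgroup G)
  have h1 := h.sum_singular hθ
  rw [← H19.sum_AA_sub, H19.sum_zmod_eq_units, add_sub_cancel_left, h.card_N, Subgroup.card_bot,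
    mul_one] at h1
  simp only [H19.AA, Fintype.sum_unique] at h1
  rw [Finset.sum_filter]
  convert h1 using 3 with g
  · push_cast; rfl
  · refine if_congr ⟨fun e => e ▸ dvd_rfl, fun e => ?_⟩ rfl rfl
    obtain ⟨t, i, hi, y, hy, rfl⟩ := h.exists_conj_of_dvd e
    rw [Subgroup.mem_bot.1 hy, mul_one, ← MulAut.conj_apply, MulEquiv.orderOf_eq,
      H19.orderOf_xp h.ord hi]
  · rw [show ((default : (⊥ : Subgroup G)) : G) = 1 from rfl, mul_one]

theorem po_bot_of_card {p : ℕ} [Fact p.Prime] {x : G} (hx : orderOf x = p)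
    (hC : Nat.card (Subgroup.centralizer ({x} : Set G)) = p) : H19.PO p x ⊥ :=
  H19.po_bot hx (Subgroup.eq_of_le_of_card_ge
    ((Subgroup.zpowers_le).2 (Subgroup.mem_centralizer_singleton_iff.2 rfl))
    (by rw [hC, Nat.card_zpowers, hx])).symm

theorem eN_facts {p : ℕ} [Fact p.Prime] {x : G} (h : H19.PO p x ⊥) :
    ∃ n, Nat.card G = p * (H19.eN h.ord * (n * p + 1)) ∧ H19.eN h.ord < p := by
  obtain ⟨n, hn⟩ := H19.exists_sN_eq h.ord h.nsq
  refine ⟨n, by rw [h.card_G, Subgroup.card_bot, mul_one, hn], ?_⟩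
  have := H19.eN_mul' h.ord
  have := H19.tN_pos h.ord
  nlinarith

omit [Finite G] in
open Classical in
theorem sum_order_le [Fintype G] (T : Finset ℕ) {f : G → ℝ} (hf : ∀ g, 0 ≤ f g) :
    ∑ q ∈ T, ∑ g with orderOf g = q, f g ≤ ∑ g, f g := by
  rw [Finset.sum_fiberwise_eq_sum_filter]
  exact Finset.sum_le_sum_of_subset_of_nonneg (Finset.filter_subset _ _) fun g _ _ => hf g

omit [Finite G] in
open Classical in
theorem le_sum_normSq_bot [Fintype G] {p : ℕ} [hp : Fact p.Prime] {x : G} (h : H19.PO p x ⊥)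
    {χ : G → ℂ} (hχ : IsCharacter G χ) (hd : ¬ p ∣ charDegree χ) :
    Nat.card G * (p - 1 : ℝ) ≤ p * H19.eN h.ord * ∑ g with orderOf g = p, ‖χ g‖ ^ 2 := by
  have h1 := card_le_sum_normSq hχ.isGen (Finset.univ.filter fun g => orderOf g = p)
    (fun g hg m hm => by
      rw [Finset.mem_filter] at hg ⊢
      refine ⟨Finset.mem_univ _, ?_⟩
      rw [Nat.Coprime.orderOf_pow (hm.coprime_dvd_right (orderOf_dvd_natCard g)).symm, hg.2])
    (fun g hg h0 => hd (H19.dvd_degree_of_apply_eq_zero hχ (k := 1) hp.out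
      (by rw [pow_one, ← (Finset.mem_filter.1 hg).2, pow_orderOf_eq_one]) h0))
  have h2 := sum_singular_bot h (θ := fun _ => 1) fun _ _ => rfl
  simp only [Finset.sum_const, nsmul_eq_mul, mul_one, Finset.card_univ, ZMod.card_units] at h2
  rw [Nat.cast_sub hp.out.one_le] at h2
  have h3 : (p * H19.eN h.ord : ℝ) * (Finset.univ.filter fun g : G => orderOf g = p).card =
      Nat.card G * (p - 1 : ℝ) := by exact_mod_cast h2
  rw [← h3]
  gcongr

end norm

end Cfsg.Agent.H8
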