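import Mathlib
import Cfsg.Agent.H8.Ord1

/-!
# Characters on a coset of a normal subgroup; the core of the Glauberman correspondence
-/

namespace Cfsg.Agent.H8

open Cfsg Cfsg.Agent.H4 Cfsg.Agent.H5
open scoped ComplexConjugate

section Rigid
variable {L : Type*} [Group L] [Finite L]

/-- Galois rigidity: a family of generalized characters with `∑ |η i s|² = 1`. -/
theorem exists_unique_of_sum_normSq_eq_one {ι : Type*} [Fintype ι] (η : ι → L → ℂ)
    (hη : ∀ i, IsGeneralizedCharacter L (η i)) (s : L)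
    (h : ∑ i, η i s * conj (η i s) = 1) :
    ∃ i₀, ‖η i₀ s‖ = 1 ∧ ∀ i, i ≠ i₀ → η i s = 0 := by
  classical
  have : NeZero (Nat.card L) := ⟨Nat.card_pos.ne'⟩
  set U := (ZMod (Nat.card L))ˣ
  have hU : (0 : ℝ) < Fintype.card U := by exact_mod_cast Fintype.card_pos
  have h1 : ∀ m : ℕ, m.Coprime (Nat.card L) → ∑ i, ‖η i (s ^ m)‖ ^ 2 = 1 := by
    intro m hm
    obtain ⟨σ, hσ⟩ := exists_ringEquiv_char_pow (G := L) hm
    have h2 := congrArg σ h
    rw [map_sum, map_one] at h2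
    apply Complex.ofReal_injective
    push_cast
    rw [← h2]
    refine Finset.sum_congr rfl fun i _ => ?_
    have h3 := (hη i).map_conj (σ : ℂ →+* ℂ) s
    simp only [RingHom.coe_coe] at h3
    rw [map_mul, h3, hσ _ (hη i), Complex.mul_conj, Complex.normSq_eq_norm_sq]
    push_cast; rfl
  set T := Finset.univ.filter (fun i => η i s ≠ 0) with hT
  have h4 : ∑ i ∈ T, (Fintype.card U : ℝ) ≤
      ∑ i ∈ T, ∑ u : U, ‖η i (s ^ (u : ZMod (Nat.card L)).val)‖ ^ 2 :=
    Finset.sum_le_sum fun i hi =>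
      card_units_le_sum_normSq_pow (hη i) pow_card_eq_one' (Finset.mem_filter.mp hi).2
  have h5 : ∑ i ∈ T, ∑ u : U, ‖η i (s ^ (u : ZMod (Nat.card L)).val)‖ ^ 2 ≤
      ∑ i, ∑ u : U, ‖η i (s ^ (u : ZMod (Nat.card L)).val)‖ ^ 2 :=
    Finset.sum_le_sum_of_subset_of_nonneg (Finset.subset_univ _) (fun _ _ _ => by positivity)
  rw [Finset.sum_comm (s := Finset.univ)] at h5
  simp only [h1 _ (ZMod.val_coe_unit_coprime _), Finset.sum_const, Finset.card_univ,
    nsmul_eq_mul, mul_one] at h4 h5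
  have h6 : (T.card : ℝ) ≤ 1 := by
    have := h4.trans h5
    nlinarith
  have h7 : T.card ≤ 1 := by exact_mod_cast h6
  have h8 := h1 1 (Nat.coprime_one_left _)
  simp only [pow_one] at h8
  have h9 : T.Nonempty := by
    by_contra hc
    rw [Finset.not_nonempty_iff_eq_empty, hT, Finset.filter_eq_empty_iff] at hc
    have : ∀ i, η i s = 0 := fun i => not_not.mp (hc (Finset.mem_univ i))
    simp [this] at h8
  obtain ⟨i₀, hi₀⟩ := h9
  have h10 : ∀ i, i ≠ i₀ → η i s = 0 := fun i hi => by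
    by_contra hc
    exact hi (Finset.card_le_one.mp h7 i (by simp [hT, hc]) i₀ hi₀)
  refine ⟨i₀, ?_, h10⟩
  rw [Finset.sum_eq_single i₀ (fun i _ hi => by simp [h10 i hi]) (by simp)] at h8
  exact (pow_eq_one_iff_of_nonneg (norm_nonneg _) two_ne_zero).mp h8

end Rigid

open Classical in
/-- indicator of the coset `B s` -/
noncomputable def cosInd {B L : Type*} [Group B] [Group L] (E : NEmb B L) (s : L) : L → ℂ :=
  fun l => if l * s⁻¹ ∈ E.f.range then 1 else 0

section Cos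
variable {B L : Type*} [Group B] [Group L] [Fintype B] [Fintype L] (E : NEmb B L)
  {F F' ψ φ : L → ℂ}

/-- inner product on the coset `B x` -/
noncomputable def cosIn (F ψ : L → ℂ) (x : L) : ℂ :=
  classInner (fun b : B => F (E.f b * x)) (fun b : B => ψ (E.f b * x))

omit [Fintype L] in
theorem cosIn_one (F ψ : L → ℂ) :
    cosIn E F ψ 1 = classInner (fun b : B => F (E.f b)) (fun b : B => ψ (E.f b)) := by
  simp [cosIn]

omit [Fintype L] in
theorem cosIn_conj (F ψ : L → ℂ) (x : L) : conj (cosIn E F ψ x) = cosIn E ψ F x :=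
  classInner_conj_symm _ _

theorem cosIn_eq_fixPart (hF : IsClassFunction L F) (hψ : IsClassFunction L ψ) :
    cosIn E F ψ = fixPart E.f.range (fun g => F g * conj (ψ g)) := by
  classical
  ext x
  have : Fintype E.f.range := Fintype.ofFinite _
  have h1 := sum_normal_mul_eq_fixPart E.f.range (hF.mul hψ.conj) x
  have h2 : Nat.card E.f.range = Nat.card B :=
    (Nat.card_congr (MonoidHom.ofInjective E.inj).toEquiv).symm
  apply mul_left_cancel₀ (card_ne_zero_C B)
  rw [cosIn, card_mul_classInner, ← h2]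
  refine Eq.trans ?_ h1
  exact Equiv.sum_comp (MonoidHom.ofInjective E.inj).toEquiv
    (fun n : E.f.range => F (n * x) * conj (ψ (n * x)))

theorem isCharacter_cosIn (hF : IsCharacter L F) (hψ : IsCharacter L ψ) :
    IsCharacter L (cosIn E F ψ) := by
  rw [cosIn_eq_fixPart E hF.isClassFunction hψ.isClassFunction]
  exact isCharacter_fixPart _ (hF.mul hψ.conj)

theorem cosIn_f_mul (hF : IsClassFunction L F) (hψ : IsClassFunction L ψ) (n : B) (x : L) :
    cosIn E F ψ (E.f n * x) = cosIn E F ψ x := by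
  rw [cosIn_eq_fixPart E hF hψ]
  exact fixPart_mul E.f.range _ (MonoidHom.mem_range.mpr ⟨n, rfl⟩) x

theorem cosIn_self (hψ : IsCharacter L ψ) (h : IsIrrCharacter B (fun b => ψ (E.f b))) (x : L) :
    cosIn E ψ ψ x = 1 := by
  have h1 := isCharacter_cosIn E hψ hψ
  have h2 : cosIn E ψ ψ 1 = 1 := by rw [cosIn_one, h.classInner_self]
  have h3 := mul_conj_eq_one_of_linear h1 h2 x
  rw [Complex.mul_conj, Complex.normSq_eq_norm_sq] at h3
  have h4 : ‖cosIn E ψ ψ x‖ = 1 :=
    (pow_eq_one_iff_of_nonneg (norm_nonneg _) two_ne_zero).mp (by exact_mod_cast h3)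
  rw [cosIn, classInner_self_eq_ofReal] at h4 ⊢
  rw [Complex.norm_real, Real.norm_of_nonneg (by positivity)] at h4
  rw [h4, Complex.ofReal_one]

theorem cosIn_eq_zero (hF : IsCharacter L F) (hψ : IsCharacter L ψ)
    (h : classInner (fun b : B => F (E.f b)) (fun b : B => ψ (E.f b)) = 0) (x : L) :
    cosIn E F ψ x = 0 := by
  rw [(isCharacter_cosIn E hF hψ).eq_zero_of_apply_one (by rw [cosIn_one, h])]; rfl

omit [Fintype L] in
theorem cosIn_of_eq_mul {c : ℂ} {s : L} (h : ∀ b, F (E.f b * s) = c * φ (E.f b * s))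
    (ψ : L → ℂ) : cosIn E F ψ s = c * cosIn E φ ψ s := by
  rw [cosIn, cosIn, ← classInner_smul_left]
  congr 1; ext b; simp [h]

omit [Fintype L] in
theorem cosIn_of_eq_mul_right {c : ℂ} {s : L} (h : ∀ b, F (E.f b * s) = c * φ (E.f b * s))
    (ψ : L → ℂ) : cosIn E ψ F s = conj c * cosIn E ψ φ s := by
  rw [← cosIn_conj, cosIn_of_eq_mul E h, map_mul, cosIn_conj]

variable {s : L}

omit [Fintype B] [Fintype L] in
theorem comm_of_gen (htop : ∀ l : L, ∃ (b : B) (n : ℕ), l = E.f b * s ^ n) (a b : L) :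
    a * b * a⁻¹ * b⁻¹ ∈ E.f.range := by
  obtain ⟨x, n, rfl⟩ := htop a
  obtain ⟨y, m, rfl⟩ := htop b
  rw [← QuotientGroup.eq_one_iff]
  have hx : ((E.f x : L) : L ⧸ E.f.range) = 1 := (QuotientGroup.eq_one_iff _).mpr ⟨x, rfl⟩
  have hy : ((E.f y : L) : L ⧸ E.f.range) = 1 := (QuotientGroup.eq_one_iff _).mpr ⟨y, rfl⟩
  simp only [QuotientGroup.mk_mul, QuotientGroup.mk_inv, QuotientGroup.mk_pow, hx, hy, one_mul]
  group

omit [Fintype B] [Fintype L] in
theorem isCyclic_of_gen (htop : ∀ l : L, ∃ (b : B) (n : ℕ), l = E.f b * s ^ n) :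
    IsCyclic (L ⧸ E.f.range) := by
  refine ⟨⟨(s : L ⧸ E.f.range), fun q => ?_⟩⟩
  obtain ⟨a, rfl⟩ := QuotientGroup.mk_surjective q
  obtain ⟨x, n, rfl⟩ := htop a
  have hx : ((E.f x : L) : L ⧸ E.f.range) = 1 := (QuotientGroup.eq_one_iff _).mpr ⟨x, rfl⟩
  exact ⟨n, by simp [hx]⟩

omit [Fintype B] [Fintype L] in
theorem invariant_of_gen (htop : ∀ l : L, ∃ (b : B) (n : ℕ), l = E.f b * s ^ n) {θ : B → ℂ}
    (hθ : IsClassFunction B θ) (h : ∀ b, θ (E.act s b) = θ b) (g : L) (b : B) :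
    θ (E.act g b) = θ b := by
  obtain ⟨x, n, rfl⟩ := htop g
  exact E.mem_inertia.mp ((E.inertia θ).mul_mem (E.f_mem_inertia hθ x)
    ((E.inertia θ).pow_mem (E.mem_inertia.mpr h) n)) b

omit [Fintype B] in
theorem exists_ext_of_gen (htop : ∀ l : L, ∃ (b : B) (n : ℕ), l = E.f b * s ^ n) {θ : B → ℂ}
    (hθ : IsIrrCharacter B θ) (h : ∀ b, θ (E.act s b) = θ b) :
    ∃ χ : L → ℂ, IsIrrCharacter L χ ∧ ∀ n, χ (E.f n) = θ n :=
  E.exists_ext_of_isCyclic hθ (invariant_of_gen E htop hθ.isClassFunction h)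
    (isCyclic_of_gen E htop)

/-- an irreducible character not vanishing on the generating coset restricts irreducibly -/
theorem isIrr_res_of_ne_zero (htop : ∀ l : L, ∃ (b : B) (n : ℕ), l = E.f b * s ^ n)
    (hψ : IsIrrCharacter L ψ) {b : B} (h : ψ (E.f b * s) ≠ 0) :
    IsIrrCharacter B (fun b => ψ (E.f b)) := by
  obtain ⟨θ, hθ, hne⟩ := exists_irr_under_hom E.f hψ
  by_cases hs : s ∈ E.inertia θ
  · obtain ⟨χ, hχ, hext⟩ := exists_ext_of_gen E htop hθ (E.mem_inertia.mp hs)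
    obtain ⟨β, hβ, h1, rfl⟩ := E.gallagher_surj hθ hχ.isCharacter hext hψ hne
    have h2 := E.degree_eq_one_of_ab (comm_of_gen E htop) hβ h1
    simpa [h1, h2, hext] using hθ
  · exfalso
    obtain ⟨η, -, rfl, -⟩ := E.exists_indFun_eq_of_inertia_le hθ (E.inertia θ)
      (E.f_mem_inertia hθ.isClassFunction) le_rfl hψ hne
    refine h (indFun_eq_zero_of_not_conj _ _ fun x hx => hs ?_)
    have h1 := E.range_le_inertia hθ.isClassFunction (comm_of_gen E htop x (E.f b * s))
    have h2 := (E.inertia θ).mul_mem ((E.inertia θ).inv_mem h1) hx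
    have h3 : (x * (E.f b * s) * x⁻¹ * (E.f b * s)⁻¹)⁻¹ * (x * (E.f b * s) * x⁻¹) =
        E.f b * s := by group
    rw [h3] at h2
    exact ((E.inertia θ).mul_mem_cancel_left (E.f_mem_inertia hθ.isClassFunction b)).mp h2

/-- two extensions of the same irreducible character differ by a scalar of norm one on a coset -/
theorem exists_eq_mul_of_ext (hψ : IsCharacter L ψ) (hφ : IsCharacter L φ)
    (h : IsIrrCharacter B (fun b => φ (E.f b))) (he : ∀ b, ψ (E.f b) = φ (E.f b)) (x : L) :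
    ∃ c : ℂ, ‖c‖ = 1 ∧ ∀ b, ψ (E.f b * x) = c * φ (E.f b * x) := by
  obtain ⟨lam, h1, h2⟩ := E.exists_linear_of_ext h hφ (fun _ => rfl) hψ he
  refine ⟨lam x, linear_norm lam x, fun b => ?_⟩
  rw [h2]; simp [h1]

omit [Fintype B] [Fintype L] in
theorem cosInd_f_mul (b : B) : cosInd E s (E.f b * s) = 1 := by
  simp [cosInd]

omit [Fintype B] [Fintype L] in
theorem isClassFunction_cosInd (htop : ∀ l : L, ∃ (b : B) (n : ℕ), l = E.f b * s ^ n) :
    IsClassFunction L (cosInd E s) := by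
  intro g h
  have h1 := comm_of_gen E htop h g
  have h2 : h * g * h⁻¹ * s⁻¹ = h * g * h⁻¹ * g⁻¹ * (g * s⁻¹) := by group
  have h3 : h * g * h⁻¹ * s⁻¹ ∈ E.f.range ↔ g * s⁻¹ ∈ E.f.range := by
    rw [h2, E.f.range.mul_mem_cancel_left h1]
  unfold cosInd
  by_cases h4 : g * s⁻¹ ∈ E.f.range
  · rw [if_pos h4, if_pos (h3.mpr h4)]
  · rw [if_neg h4, if_neg (mt h3.mp h4)]

theorem sum_mul_cosInd (Φ : L → ℂ) : ∑ l, cosInd E s l * Φ l = ∑ b, Φ (E.f b * s) := by
  classical
  rw [← Equiv.sum_comp (Equiv.mulRight s), E.sum_eq_sum_res_add,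
    Finset.sum_eq_zero (s := Finset.univ.filter _), add_zero]
  · simp [cosInd]
  · intro x hx
    simp [cosInd, (Finset.mem_filter.mp hx).2]

theorem inner_cosInd_mul (F ψ : L → ℂ) :
    classInner (cosInd E s * F) ψ = (Nat.card B : ℂ) / Nat.card L * cosIn E F ψ s := by
  rw [classInner_def, cosIn, div_mul_eq_mul_div, card_mul_classInner,
    ← sum_mul_cosInd E (fun l => F l * conj (ψ l)), div_eq_inv_mul]
  simp only [Pi.mul_apply, mul_assoc]

/-- completeness on the generating coset -/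
theorem eq_zero_of_forall_cosIn (htop : ∀ l : L, ∃ (b : B) (n : ℕ), l = E.f b * s ^ n)
    (hF : IsClassFunction L F)
    (h : ∀ ψ, IsIrrCharacter L ψ → IsIrrCharacter B (fun b => ψ (E.f b)) → cosIn E F ψ s = 0)
    (b : B) : F (E.f b * s) = 0 := by
  have h1 : cosInd E s * F = 0 :=
      ((isClassFunction_cosInd E htop).mul hF).eq_zero_of_forall_irr fun ψ hψ => by
    rw [inner_cosInd_mul]
    by_cases h2 : ∀ b, ψ (E.f b * s) = 0
    · have : (fun b => ψ (E.f b * s)) = 0 := funext h2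
      rw [cosIn, this, classInner_zero_right, mul_zero]
    · push Not at h2
      obtain ⟨b, hb⟩ := h2
      rw [h ψ hψ (isIrr_res_of_ne_zero E htop hψ hb), mul_zero]
  simpa [cosInd_f_mul] using congrFun h1 (E.f b * s)

/-- a character of norm one on the generating coset is a multiple of one irreducible there -/
theorem exists_eq_mul_of_cosIn_self (htop : ∀ l : L, ∃ (b : B) (n : ℕ), l = E.f b * s ^ n)
    (hF : IsCharacter L F) (h : cosIn E F F s = 1) :
    ∃ φ : L → ℂ, IsIrrCharacter L φ ∧ IsIrrCharacter B (fun b => φ (E.f b)) ∧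
      ∃ c : ℂ, ‖c‖ = 1 ∧ ∀ b, F (E.f b * s) = c * φ (E.f b * s) := by
  classical
  let I := {ξ : IrrCharacter B // ∀ b, (ξ : B → ℂ) (E.act s b) = (ξ : B → ℂ) b}
  choose e he he' using fun ξ : I => exists_ext_of_gen E htop ξ.1.2 ξ.2
  have hirr : ∀ ξ : I, IsIrrCharacter B (fun b => e ξ (E.f b)) := fun ξ => by
    simpa [he'] using ξ.1.2
  have horth : ∀ ξ ξ' : I, cosIn E (e ξ) (e ξ') s = if ξ = ξ' then 1 else 0 := by
    intro ξ ξ'
    split_ifs with h1
    · subst h1; exact cosIn_self E (he ξ).isCharacter (hirr ξ) s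
    · refine cosIn_eq_zero E (he ξ).isCharacter (he ξ').isCharacter ?_ s
      simp only [he']
      exact ξ.1.2.classInner_of_ne ξ'.1.2 fun h2 => h1 (Subtype.ext (Subtype.ext h2))
  have hlin : ∀ ψ : L → ℂ, cosIn E (F - ∑ ξ : I, cosIn E F (e ξ) s • e ξ) ψ s =
      cosIn E F ψ s - ∑ ξ : I, cosIn E F (e ξ) s * cosIn E (e ξ) ψ s := by
    intro ψ
    simp only [cosIn, ← classInner_smul_left, ← classInner_sum_left, ← classInner_sub_left]
    congr 1; ext b; simp
  have hexp := eq_zero_of_forall_cosIn E htop (F := F - ∑ ξ : I, cosIn E F (e ξ) s • e ξ)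
    (hF.isClassFunction.sub (isClassFunction_sum _ _ fun ξ _ => (he ξ).isClassFunction.smul _))
    (fun ψ hψ hψ' => by
      let ξ : I := ⟨⟨_, hψ'⟩, fun b => by
        change ψ (E.f (E.act s b)) = ψ (E.f b)
        rw [E.f_act, hψ.isClassFunction]⟩
      obtain ⟨c, -, hc⟩ := exists_eq_mul_of_ext E hψ.isCharacter (he ξ).isCharacter (hirr ξ)
        (fun b => (he' ξ b).symm) s
      rw [cosIn_of_eq_mul_right E hc, hlin]
      have h9 : ∑ x : I, cosIn E F (e x) s * cosIn E (e x) (e ξ) s = cosIn E F (e ξ) s := by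
        rw [Finset.sum_eq_single ξ (fun x _ hx => by rw [horth, if_neg hx, mul_zero]) (by simp),
          horth, if_pos rfl, mul_one]
      rw [h9, sub_self, mul_zero])
  have hz : cosIn E (F - ∑ ξ : I, cosIn E F (e ξ) s • e ξ) F s = 0 := by
    have : (fun b => (F - ∑ ξ : I, cosIn E F (e ξ) s • e ξ) (E.f b * s)) = 0 := funext hexp
    rw [cosIn, this, classInner_zero_left]
  rw [hlin, h, sub_eq_zero] at hz
  obtain ⟨ξ₀, h1, h2⟩ := exists_unique_of_sum_normSq_eq_one (fun ξ : I => cosIn E F (e ξ))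
    (fun ξ => (isCharacter_cosIn E hF (he ξ).isCharacter).isGen) s
    (by simp only [cosIn_conj]; exact hz.symm)
  refine ⟨e ξ₀, he ξ₀, hirr ξ₀, _, h1, fun b => ?_⟩
  have h3 := hexp b
  simp only [Pi.sub_apply, Finset.sum_apply, Pi.smul_apply, smul_eq_mul] at h3
  rw [Finset.sum_eq_single ξ₀ (fun ξ _ hξ => by rw [h2 ξ hξ, zero_mul]) (by simp)] at h3
  exact sub_eq_zero.mp h3

end Cos

/-- Data for one step of the Glauberman correspondence. -/
structure GStep (K B Γ L : Type*) [Group K] [Group B] [Group Γ] [Group L] where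
  E : NEmb K Γ
  E' : NEmb B L
  i : B →* K
  j : L →* Γ
  jinj : Function.Injective j
  comm : ∀ b, j (E'.f b) = E.f (i b)
  s : L
  topK : ∀ g : Γ, ∃ (k : K) (n : ℕ), g = E.f k * j s ^ n
  topB : ∀ l : L, ∃ (b : B) (n : ℕ), l = E'.f b * s ^ n
  ti : ∀ (k : K) (b b' : B),
    E.f k * j (E'.f b * s) * (E.f k)⁻¹ = j (E'.f b' * s) → k ∈ i.range

namespace GStep
variable {K B Γ L : Type*} [Group K] [Group B] [Group Γ] [Group L] (D : GStep K B Γ L)

theorem iinj : Function.Injective D.i := fun a b h =>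
  D.E'.inj (D.jinj (by rw [D.comm, D.comm, h]))

theorem i_act (b : B) : D.i (D.E'.act D.s b) = D.E.act (D.j D.s) (D.i b) :=
  D.E.inj (by rw [← D.comm, D.E'.f_act, D.E.f_act, ← D.comm]; simp)

theorem ti' (g : Γ) (b b' : B)
    (h : g * D.j (D.E'.f b * D.s) * g⁻¹ = D.j (D.E'.f b' * D.s)) : g ∈ D.j.range := by
  obtain ⟨k, n, rfl⟩ := D.topK g
  have h1 : D.j D.s ^ n * D.j (D.E'.f b * D.s) * (D.j D.s ^ n)⁻¹ =
      D.j (D.E'.f (D.E'.act (D.s ^ n) b) * D.s) := by
    rw [D.E'.f_act]; simp only [map_mul, map_pow, map_inv]; group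
  obtain ⟨c, rfl⟩ := D.ti k (D.E'.act (D.s ^ n) b) b' (by rw [← h1, ← h]; group)
  exact ⟨D.E'.f c * D.s ^ n, by rw [map_mul, map_pow, D.comm]⟩

variable [Fintype K] [Fintype B] [Fintype Γ] [Fintype L]

omit [Fintype Γ] [Fintype L] in
theorem sum_coset {F : Γ → ℂ} (hF : IsClassFunction Γ F) :
    (Nat.card B : ℂ) * ∑ k, F (D.E.f k * D.j D.s) =
      Nat.card K * ∑ b, F (D.j (D.E'.f b * D.s)) := by
  classical
  let Φ : K × B → K := fun x => x.1 * D.i x.2 * D.E.act (D.j D.s) x.1⁻¹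
  have hΦ : ∀ x, D.E.f (Φ x) * D.j D.s =
      D.E.f x.1 * D.j (D.E'.f x.2 * D.s) * (D.E.f x.1)⁻¹ := by
    intro x
    simp only [Φ, map_mul, D.E.f_act, D.comm, map_inv]; group
  have hle : ∀ y, (Finset.univ.filter (fun x => Φ x = y)).card ≤ Fintype.card B := by
    intro y
    rcases (Finset.univ.filter (fun x => Φ x = y)).eq_empty_or_nonempty with h | ⟨x₀, hx₀⟩
    · simp [h]
    have key : ∀ x ∈ Finset.univ.filter (fun x => Φ x = y), x₀.1⁻¹ * x.1 ∈ D.i.range := by
      intro x hx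
      refine D.ti _ x.2 x₀.2 ?_
      have h1 := hΦ x
      rw [(Finset.mem_filter.mp hx).2, ← (Finset.mem_filter.mp hx₀).2, hΦ x₀] at h1
      simp only [map_mul, map_inv] at h1 ⊢
      calc _ = (D.E.f x₀.1)⁻¹ * (D.E.f x.1 * (D.j (D.E'.f x.2) * D.j D.s) * (D.E.f x.1)⁻¹) *
            D.E.f x₀.1 := by group
        _ = _ := by rw [← h1]; group
    choose! c hc using key
    rw [← Finset.card_univ]
    refine Finset.card_le_card_of_injOn c (fun _ _ => Finset.mem_univ _) fun x hx x' hx' h => ?_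
    have h1 : x.1 = x'.1 := by
      have := hc x hx
      rw [h, hc x' hx'] at this
      exact (mul_left_cancel this).symm
    have h2 := (Finset.mem_filter.mp hx).2.trans (Finset.mem_filter.mp hx').2.symm
    simp only [Φ, h1] at h2
    exact Prod.ext h1 (D.iinj (mul_left_cancel (mul_right_cancel h2)))
  have htot : ∑ y, (Finset.univ.filter (fun x => Φ x = y)).card = ∑ _y : K, Fintype.card B := by
    rw [← Finset.card_eq_sum_card_fiberwise (s := Finset.univ) (t := Finset.univ) (f := Φ)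
      (fun _ _ => Finset.mem_univ _)]
    simp
  have heq := (Finset.sum_eq_sum_iff_of_le (fun y _ => hle y)).mp htot
  have h1 : ∑ x : K × B, F (D.E.f (Φ x) * D.j D.s) =
      ∑ y, (Fintype.card B : ℂ) * F (D.E.f y * D.j D.s) := by
    rw [← Finset.sum_fiberwise_of_maps_to (g := Φ) (fun _ _ => Finset.mem_univ _)]
    refine Finset.sum_congr rfl fun y _ => ?_
    rw [Finset.sum_congr rfl (fun x hx => by rw [(Finset.mem_filter.mp hx).2]),
      Finset.sum_const, heq y (Finset.mem_univ _), nsmul_eq_mul]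
  rw [← Finset.mul_sum, Fintype.card_eq_nat_card] at h1
  rw [← h1]
  simp only [hΦ, hF _ _, Fintype.sum_prod_type, Finset.sum_const, Finset.card_univ,
    nsmul_eq_mul, Fintype.card_eq_nat_card]

omit [Fintype Γ] [Fintype L] in
theorem cosIn_eq {F F' : Γ → ℂ} (hF : IsClassFunction Γ F) (hF' : IsClassFunction Γ F') :
    cosIn D.E' (fun l => F (D.j l)) (fun l => F' (D.j l)) D.s = cosIn D.E F F' (D.j D.s) := by
  have h1 := D.sum_coset (hF.mul hF'.conj)
  simp only [Pi.mul_apply] at h1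
  have hB := card_ne_zero_C B
  have hK := card_ne_zero_C K
  rw [cosIn, cosIn, classInner_def, classInner_def]
  field_simp
  linear_combination -h1

theorem row {χ : Γ → ℂ} (hχ : IsCharacter Γ χ) (h : IsIrrCharacter K (fun k => χ (D.E.f k))) :
    ∃ φ : L → ℂ, IsIrrCharacter L φ ∧ IsIrrCharacter B (fun b => φ (D.E'.f b)) ∧
      ∃ c : ℂ, ‖c‖ = 1 ∧ ∀ b, χ (D.j (D.E'.f b * D.s)) = c * φ (D.E'.f b * D.s) :=
  exists_eq_mul_of_cosIn_self D.E' D.topB (hχ.comp D.j) (by
    rw [D.cosIn_eq hχ.isClassFunction hχ.isClassFunction, cosIn_self D.E hχ h])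

theorem orth {χ χ' : Γ → ℂ} (hχ : IsCharacter Γ χ) (h : IsIrrCharacter K (fun k => χ (D.E.f k)))
    (hχ' : IsCharacter Γ χ') (h' : IsIrrCharacter K (fun k => χ' (D.E.f k)))
    {φ : L → ℂ} (hφ : IsCharacter L φ) (hφ' : IsIrrCharacter B (fun b => φ (D.E'.f b)))
    (h1 : cosIn D.E' (fun l => χ (D.j l)) φ D.s ≠ 0)
    (h2 : cosIn D.E' (fun l => χ' (D.j l)) φ D.s ≠ 0) :
    (fun k => χ (D.E.f k)) = fun k => χ' (D.E.f k) := by
  by_contra hne
  have h3 := cosIn_eq_zero D.E hχ hχ' (h.classInner_of_ne h' hne) (D.j D.s)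
  rw [← D.cosIn_eq hχ.isClassFunction hχ'.isClassFunction] at h3
  obtain ⟨φ₁, hφ₁, hφ₁', c, hc, hc'⟩ := D.row hχ h
  rw [cosIn_of_eq_mul D.E' hc'] at h1 h3
  have h4 : (fun b => φ₁ (D.E'.f b)) = fun b => φ (D.E'.f b) := by
    by_contra h5
    exact h1 (by rw [cosIn_eq_zero D.E' hφ₁.isCharacter hφ (hφ₁'.classInner_of_ne hφ' h5),
      mul_zero])
  obtain ⟨d, hd, hd'⟩ := exists_eq_mul_of_ext D.E' hφ₁.isCharacter hφ hφ'
    (fun b => congrFun h4 b) D.s
  rw [cosIn_of_eq_mul D.E' hd', ← cosIn_conj] at h3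
  have hc0 : c ≠ 0 := by rintro rfl; simp at hc
  have hd0 : d ≠ 0 := by rintro rfl; simp at hd
  simp [hc0, hd0, h2] at h3

theorem col {φ : L → ℂ} (hφ : IsCharacter L φ)
    (hφ' : IsIrrCharacter B (fun b => φ (D.E'.f b))) :
    ∃ χ : Γ → ℂ, IsIrrCharacter Γ χ ∧ IsIrrCharacter K (fun k => χ (D.E.f k)) ∧
      cosIn D.E' (fun l => χ (D.j l)) φ D.s ≠ 0 := by
  classical
  by_contra hc
  push Not at hc
  have hcl : IsClassFunction L (cosInd D.E' D.s * φ) :=
    (isClassFunction_cosInd D.E' D.topB).mul hφ.isClassFunction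
  have h1 : indHom D.j (cosInd D.E' D.s * φ) = 0 :=
    (indHom_isClassFunction D.j (cosInd D.E' D.s * φ)).eq_zero_of_forall_irr fun χ hχ => by
      rw [inner_indHom_left _ _ hχ.isClassFunction, inner_cosInd_mul, ← cosIn_conj]
      by_cases h2 : ∀ k, χ (D.E.f k * D.j D.s) = 0
      · have : (fun b => χ (D.j (D.E'.f b * D.s))) = 0 := by
          ext b; rw [map_mul, D.comm, h2]; rfl
        rw [cosIn, this, classInner_zero_left, map_zero, mul_zero]
      · push Not at h2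
        obtain ⟨k, hk⟩ := h2
        rw [hc χ hχ (isIrr_res_of_ne_zero D.E D.topK hχ hk), map_zero, mul_zero]
  have h2 : ∀ b, φ (D.E'.f b * D.s) = 0 := by
    intro b
    have h3 := congrFun h1 (D.j (D.E'.f b * D.s))
    rw [indHom_apply] at h3
    have h4 : ∀ x : Γ, (∑ l : L, if D.j l = x * D.j (D.E'.f b * D.s) * x⁻¹ then
        (cosInd D.E' D.s * φ) l else 0) =
        if x ∈ D.j.range then φ (D.E'.f b * D.s) else 0 := by
      intro x
      split_ifs with hx
      · obtain ⟨y, rfl⟩ := hx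
        rw [Finset.sum_eq_single (y * (D.E'.f b * D.s) * y⁻¹)]
        · rw [if_pos (by simp), hcl]; simp [cosInd_f_mul]
        · intro l _ hl
          rw [if_neg fun h => hl (D.jinj (by rw [h]; simp))]
        · simp
      · refine Finset.sum_eq_zero fun l _ => ?_
        split_ifs with h5
        · by_cases h6 : l * D.s⁻¹ ∈ D.E'.f.range
          · obtain ⟨b', hb'⟩ := h6
            exact absurd (D.ti' x b b' (by rw [← h5, hb']; simp)) hx
          · simp [cosInd, h6]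
        · rfl
    simp only [h4, ← Finset.sum_filter, Finset.sum_const, nsmul_eq_mul, Pi.zero_apply,
      mul_eq_zero, Nat.cast_eq_zero, Finset.card_eq_zero] at h3
    refine (h3.resolve_left (inv_ne_zero (card_ne_zero_C L))).resolve_left fun h7 => ?_
    have : (1 : Γ) ∈ Finset.univ.filter (fun x => x ∈ D.j.range) :=
      Finset.mem_filter.mpr ⟨Finset.mem_univ _, one_mem _⟩
    rw [h7] at this
    simp at this
  have h3 := cosIn_self D.E' hφ hφ' D.s
  have : (fun b => φ (D.E'.f b * D.s)) = 0 := funext h2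
  rw [cosIn, this, classInner_zero_left] at h3
  exact zero_ne_one h3

end GStep

end Cfsg.Agent.H8
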