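import Mathlib
import Cfsg.Agent.H8.Glaub1
import Cfsg.Agent.H8.Val
import Cfsg.Agent.H7.GAlg
import Cfsg.Agent.H3.PGroup1
import Cfsg.Agent.H1.Coprime

/-!
# The (relative) Glauberman correspondence for `p`-groups
-/

namespace Cfsg.Agent.H8

open Cfsg Cfsg.Agent.H4 Cfsg.Agent.H5
open scoped ComplexConjugate commutatorElement

section Nin
variable {G : Type*} [Group G] [Finite G] {θ η : G → ℂ}

/-- inner product of two characters as a natural number -/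
noncomputable def nin (θ η : G → ℂ) : ℕ := ⌊(@classInner G _ (Fintype.ofFinite G) θ η).re⌋₊

theorem nin_eq_of [Fintype G] {n : ℕ} (h : classInner θ η = n) : nin θ η = n := by
  rw [nin, classInner_congr_fintype (Fintype.ofFinite G) ‹_›, h]; simp

theorem nin_cast [Fintype G] (hθ : IsCharacter G θ) (hη : IsCharacter G η) :
    (nin θ η : ℂ) = classInner θ η := by
  obtain ⟨n, hn⟩ := hθ.classInner_nat hη
  rw [nin_eq_of hn, hn]

theorem nin_ne_zero_iff [Fintype G] (hθ : IsCharacter G θ) (hη : IsCharacter G η) :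
    nin θ η ≠ 0 ↔ classInner θ η ≠ 0 := by
  rw [← nin_cast hθ hη, Nat.cast_ne_zero]

theorem nin_irr (χ ψ : IrrCharacter G) [Decidable (χ = ψ)] :
    nin (χ : G → ℂ) ψ = if χ = ψ then 1 else 0 := by
  have := Fintype.ofFinite G
  apply nin_eq_of
  rw [irr_classInner]; split_ifs <;> simp

theorem nin_comp_equiv {H : Type*} [Group H] [Finite H] (e : H ≃ G) (θ η : G → ℂ) :
    nin (fun x => θ (e x)) (fun x => η (e x)) = nin θ η := by
  rw [nin, nin, @classInner_comp_equiv G _ (Fintype.ofFinite G) θ η H _ (Fintype.ofFinite H) e]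

/-- transitivity of multiplicities -/
theorem nin_comp_eq_sum {H : Type*} [Group H] [Finite H] (f : H →* G) (hθ : IsCharacter G θ)
    {ξ : H → ℂ} (hξ : IsCharacter H ξ) :
    nin (fun x => θ (f x)) ξ = ∑ η : IrrCharacter G, nin θ η * nin (fun x => (η : G → ℂ) (f x)) ξ := by
  have := Fintype.ofFinite G
  have := Fintype.ofFinite H
  apply nin_eq_of
  push_cast
  simp only [fun η : IrrCharacter G => nin_cast hθ η.2.isCharacter,
    fun η : IrrCharacter G => nin_cast (η.2.isCharacter.comp f) hξ, ← classInner_smul_left,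
    ← classInner_sum_left]
  congr 1; ext x
  rw [hθ.isClassFunction.apply_eq_sum (f x)]; simp

theorem charDegree_eq_sum_nin (hθ : IsCharacter G θ) :
    charDegree θ = ∑ η : IrrCharacter G, nin θ η * charDegree (η : G → ℂ) := by
  have := Fintype.ofFinite G
  apply charDegree_eq_of
  rw [hθ.isClassFunction.apply_eq_sum 1]
  push_cast
  simp only [fun η : IrrCharacter G => nin_cast hθ η.2.isCharacter,
    fun η : IrrCharacter G => η.2.isCharacter.charDegree_cast]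

variable {p : ℕ} [hp : Fact p.Prime] {s : G} {k : ℕ}

theorem dvd_of_apply_eq_zero (hη : IsCharacter G η) (hs : s ^ p ^ k = 1) (h : η s = 0) {n : ℕ}
    (hn : η 1 = n) : p ∣ n := by
  obtain ⟨M, hM⟩ := H6.exists_isPModular hp.out
  have := hM.2.1
  have h2 := redC_char_pElem hM hη hs
  rwa [h, H6.redC_zero, hn, H6.redC_natCast, eq_comm, H6.natCast_res_eq_zero_iff hM] at h2

theorem sq_eq_one_of_norm_eq_one (hη : IsCharacter G η) (hs : s ^ p ^ k = 1) (h : ‖η s‖ = 1)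
    {n : ℕ} (hn : η 1 = n) : (n : ZMod p) ^ 2 = 1 := by
  obtain ⟨M, hM⟩ := H6.exists_isPModular hp.out
  have := hM.2.1
  have h2 := redC_char_pElem hM (hη.mul hη.conj) hs
  simp only [Pi.mul_apply, Complex.mul_conj, Complex.normSq_eq_norm_sq, h, hn] at h2
  have h3 : ((n ^ 2 : ℕ) : H6.Res M) = ((1 : ℕ) : H6.Res M) := by
    rw [← H6.redC_natCast, ← H6.redC_natCast]
    simpa using h2.symm
  have := H6.charP_res hM
  rw [CharP.natCast_eq_natCast _ p, ← ZMod.natCast_eq_natCast_iff] at h3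
  simpa using h3

theorem not_dvd_of_sq_eq_one {n : ℕ} (h : (n : ZMod p) ^ 2 = 1) : ¬ p ∣ n := fun hd => by
  rw [(ZMod.natCast_eq_zero_iff n p).mpr hd] at h
  simp at h

end Nin

namespace GStep
variable {K B Γ L : Type*} [Group K] [Group B] [Group Γ] [Group L] (D : GStep K B Γ L)
  [Fintype K] [Fintype B] [Fintype Γ] [Fintype L] {p : ℕ} [Fact p.Prime] {k : ℕ}

omit [Fintype K] [Fintype Γ] [Fintype L] in
theorem cosIn_one_eq {χh : Γ → ℂ} {χ : K → ℂ} (hχ : IsCharacter K χ)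
    (he : ∀ n, χh (D.E.f n) = χ n) {φ : L → ℂ} {ξ : B → ℂ} (hξ : IsCharacter B ξ)
    (he' : ∀ n, φ (D.E'.f n) = ξ n) :
    cosIn D.E' (fun l => χh (D.j l)) φ 1 = nin (fun b => χ (D.i b)) ξ := by
  rw [cosIn_one, nin_cast (hχ.comp D.i) hξ]
  simp only [D.comm, he, he']

theorem step1 (hs : D.s ^ p ^ k = 1) {χ : K → ℂ} (hχ : IsIrrCharacter K χ)
    (hinv : ∀ x, χ (D.E.act (D.j D.s) x) = χ x) :
    ∃ ξ : B → ℂ, IsIrrCharacter B ξ ∧ (∀ b, ξ (D.E'.act D.s b) = ξ b) ∧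
      (nin (fun b => χ (D.i b)) ξ : ZMod p) ^ 2 = 1 ∧
      ∀ ξ', IsIrrCharacter B ξ' → (∀ b, ξ' (D.E'.act D.s b) = ξ' b) → ξ' ≠ ξ →
        p ∣ nin (fun b => χ (D.i b)) ξ' := by
  obtain ⟨χh, hχh, he⟩ := exists_ext_of_gen D.E D.topK hχ hinv
  obtain ⟨φ, hφ, hφ', c, hc, hc'⟩ := D.row hχh.isCharacter (by simpa [he] using hχ)
  refine ⟨_, hφ', fun b => by rw [D.E'.f_act, hφ.isClassFunction], ?_, fun ξ' hξ' hi hne => ?_⟩
  · refine sq_eq_one_of_norm_eq_one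
      (isCharacter_cosIn D.E' (hχh.isCharacter.comp D.j) hφ.isCharacter) hs ?_
      (D.cosIn_one_eq hχ.isCharacter he hφ'.isCharacter fun _ => rfl)
    rw [cosIn_of_eq_mul D.E' hc', cosIn_self D.E' hφ.isCharacter hφ', mul_one, hc]
  · obtain ⟨φ', h1, h2⟩ := exists_ext_of_gen D.E' D.topB hξ' hi
    refine dvd_of_apply_eq_zero
      (isCharacter_cosIn D.E' (hχh.isCharacter.comp D.j) h1.isCharacter) hs ?_
      (D.cosIn_one_eq hχ.isCharacter he hξ'.isCharacter h2)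
    rw [cosIn_of_eq_mul D.E' hc', cosIn_eq_zero D.E' hφ.isCharacter h1.isCharacter, mul_zero]
    simp only [h2]
    exact hφ'.classInner_of_ne hξ' hne.symm

theorem step2 (hs : D.s ^ p ^ k = 1) {ξ : B → ℂ} (hξ : IsIrrCharacter B ξ)
    (hinv : ∀ b, ξ (D.E'.act D.s b) = ξ b) :
    ∃ χ : K → ℂ, IsIrrCharacter K χ ∧ (∀ x, χ (D.E.act (D.j D.s) x) = χ x) ∧
      ¬ p ∣ nin (fun b => χ (D.i b)) ξ ∧
      ∀ χ', IsIrrCharacter K χ' → (∀ x, χ' (D.E.act (D.j D.s) x) = χ' x) →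
        ¬ p ∣ nin (fun b => χ' (D.i b)) ξ → χ' = χ := by
  obtain ⟨φ, hφ, he⟩ := exists_ext_of_gen D.E' D.topB hξ hinv
  have hφ' : IsIrrCharacter B fun b => φ (D.E'.f b) := by simpa [he] using hξ
  obtain ⟨χh, hχh, hχ, hne⟩ := D.col hφ.isCharacter hφ'
  refine ⟨_, hχ, fun x => by rw [D.E.f_act, hχh.isClassFunction], ?_, fun χ' hχ' hi hnd => ?_⟩
  · obtain ⟨φ₁, hφ₁, hφ₁', c, hc, hc'⟩ := D.row hχh.isCharacter hχ
    have h4 : (fun b => φ₁ (D.E'.f b)) = fun b => φ (D.E'.f b) := by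
      by_contra h5
      exact hne (by rw [cosIn_of_eq_mul D.E' hc', cosIn_eq_zero D.E' hφ₁.isCharacter
        hφ.isCharacter (hφ₁'.classInner_of_ne hφ' h5), mul_zero])
    obtain ⟨d, hd, hd'⟩ := exists_eq_mul_of_ext D.E' hφ₁.isCharacter hφ.isCharacter hφ'
      (fun b => congrFun h4 b) D.s
    refine not_dvd_of_sq_eq_one (sq_eq_one_of_norm_eq_one
      (isCharacter_cosIn D.E' (hχh.isCharacter.comp D.j) hφ.isCharacter) hs ?_
      (D.cosIn_one_eq hχ.isCharacter (fun _ => rfl) hξ.isCharacter he))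
    rw [cosIn_of_eq_mul D.E' hc', cosIn_of_eq_mul D.E' hd', cosIn_self D.E' hφ.isCharacter hφ',
      mul_one, norm_mul, hc, hd, mul_one]
  · obtain ⟨χh', h1, h2⟩ := exists_ext_of_gen D.E D.topK hχ' hi
    have h3 := D.orth h1.isCharacter (by simpa [h2] using hχ') hχh.isCharacter hχ
      hφ.isCharacter hφ' (fun h0 => hnd (dvd_of_apply_eq_zero
        (isCharacter_cosIn D.E' (h1.isCharacter.comp D.j) hφ.isCharacter) hs h0
        (D.cosIn_one_eq hχ'.isCharacter h2 hξ.isCharacter he))) hne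
    rw [← h3]; ext x; rw [h2]

end GStep

section Amb
variable {Γ : Type*} [Group Γ]

/-- invariance of a function on `K` under conjugation by `S` -/
def SInv (S : Subgroup Γ) {K : Subgroup Γ} (χ : K → ℂ) : Prop :=
  ∀ s ∈ S, ∀ g g' : K, (g' : Γ) = s * g * s⁻¹ → χ g' = χ g

theorem SInv.mono {S T K : Subgroup Γ} {χ : K → ℂ} (h : SInv S χ) (hTS : T ≤ S) : SInv T χ :=
  fun s hs => h s (hTS hs)

/-- conjugation automorphism of `K` by an element of its normalizer -/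
def cjE {K : Subgroup Γ} {x : Γ} (hx : x ∈ Subgroup.normalizer (K : Set Γ)) : K ≃* K where
  toFun k := ⟨x * k * x⁻¹, (hx k).mp k.2⟩
  invFun k := ⟨x⁻¹ * k * x, (Subgroup.mem_normalizer_iff''.mp hx k).mp k.2⟩
  left_inv k := Subtype.ext (by simp [mul_assoc])
  right_inv k := Subtype.ext (by simp [mul_assoc])
  map_mul' a b := Subtype.ext (by simp [mul_assoc])

@[simp] theorem coe_cjE {K : Subgroup Γ} {x : Γ} (hx : x ∈ Subgroup.normalizer (K : Set Γ))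
    (k : K) : (cjE hx k : Γ) = x * k * x⁻¹ := rfl

/-- conjugate character `k ↦ χ (x k x⁻¹)` -/
def cjI {K : Subgroup Γ} {x : Γ} (hx : x ∈ Subgroup.normalizer (K : Set Γ))
    (χ : IrrCharacter K) : IrrCharacter K := ⟨fun k => χ.1 (cjE hx k), χ.2.comp_equiv _⟩

theorem cjI_apply {K : Subgroup Γ} {x : Γ} (hx : x ∈ Subgroup.normalizer (K : Set Γ))
    (χ : IrrCharacter K) (k : K) : (cjI hx χ : K → ℂ) k = χ.1 (cjE hx k) := rfl

theorem cjI_eq_iff {K : Subgroup Γ} {x : Γ} (hx : x ∈ Subgroup.normalizer (K : Set Γ))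
    (χ : IrrCharacter K) :
    cjI hx χ = χ ↔ ∀ g g' : K, (g' : Γ) = x * g * x⁻¹ → χ.1 g' = χ.1 g := by
  constructor
  · intro h g g' hg
    rw [show g' = cjE hx g from Subtype.ext hg, ← cjI_apply, h]
  · intro h
    exact Subtype.ext (funext fun k => h _ _ rfl)

theorem sInv_iff {S K : Subgroup Γ} (hS : S ≤ Subgroup.normalizer (K : Set Γ))
    (χ : IrrCharacter K) : SInv S χ.1 ↔ ∀ x (hx : x ∈ S), cjI (hS hx) χ = χ := by
  simp only [cjI_eq_iff, SInv]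

theorem cjI_injective {K : Subgroup Γ} {x : Γ} (hx : x ∈ Subgroup.normalizer (K : Set Γ)) :
    Function.Injective (cjI hx) := fun χ ψ h => Subtype.ext (funext fun k => by
  obtain ⟨k, rfl⟩ := (cjE hx).surjective k
  rw [← cjI_apply, h, cjI_apply])

theorem SInv.cjI {S K : Subgroup Γ} {χ : IrrCharacter K} (h : SInv S χ.1) {x : Γ}
    (hx : x ∈ Subgroup.normalizer (K : Set Γ)) (hxS : ∀ s ∈ S, x * s * x⁻¹ ∈ S) :
    SInv S (cjI hx χ).1 := fun s hs g g' hg =>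
  h _ (hxS s hs) _ _ (by simp [hg, mul_assoc])

theorem sInv_zpowers {K : Subgroup Γ} {z : Γ} (hz : z ∈ Subgroup.normalizer (K : Set Γ))
    {χ : K → ℂ} (h : ∀ k, χ (cjE hz k) = χ k) : SInv (Subgroup.zpowers z) χ := by
  let T : Subgroup Γ :=
    { carrier := {s | s ∈ Subgroup.normalizer (K : Set Γ) ∧
        ∀ g g' : K, (g' : Γ) = s * g * s⁻¹ → χ g' = χ g}
      one_mem' := ⟨one_mem _, fun g g' hg => by rw [show g' = g from Subtype.ext (by simpa using hg)]⟩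
      mul_mem' := fun {a b} ha hb => ⟨mul_mem ha.1 hb.1, fun g g' hg => by
        rw [ha.2 (cjE hb.1 g) g' (by simp [hg, mul_assoc]), hb.2 g _ rfl]⟩
      inv_mem' := fun {a} ha => ⟨inv_mem ha.1, fun g g' hg =>
        (ha.2 g' g (by simp [hg, mul_assoc])).symm⟩ }
  have : Subgroup.zpowers z ≤ T := Subgroup.zpowers_le.mpr ⟨hz, fun g g' hg => by
    rw [show g' = cjE hz g from Subtype.ext hg, h]⟩
  exact fun s hs => (this hs).2

/-- the conjugation action on irreducible characters -/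
@[reducible] def actIrr {S K : Subgroup Γ} (hS : S ≤ Subgroup.normalizer (K : Set Γ)) :
    MulAction S (IrrCharacter K) where
  smul x χ := cjI (hS (S.inv_mem x.2)) χ
  one_smul χ := Subtype.ext (funext fun k => congrArg χ.1 (Subtype.ext (by
    change ((1 : S) : Γ)⁻¹ * k * ((1 : S) : Γ)⁻¹⁻¹ = k; simp)))
  mul_smul x y χ := Subtype.ext (funext fun k => congrArg χ.1 (Subtype.ext (by
    change ((x * y : S) : Γ)⁻¹ * k * ((x * y : S) : Γ)⁻¹⁻¹ =
      (y : Γ)⁻¹ * ((x : Γ)⁻¹ * k * (x : Γ)⁻¹⁻¹) * (y : Γ)⁻¹⁻¹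
    simp [mul_assoc])))

variable [Finite Γ]

theorem sum_irr_eq_sum_sInv {p : ℕ} [Fact p.Prime] {P K : Subgroup Γ} (hP : IsPGroup p P)
    (hPK : P ≤ Subgroup.normalizer (K : Set Γ)) (F : IrrCharacter K → ZMod p)
    (hF : ∀ x (hx : x ∈ P) χ, F (cjI (hPK hx) χ) = F χ)
    [DecidablePred fun χ : IrrCharacter K => SInv P χ.1] :
    ∑ χ, F χ = ∑ χ with SInv P χ.1, F χ := by
  classical
  let _ := actIrr hPK
  rw [H7.sum_eq_sum_fixedPoints p hP F (fun u χ => hF _ (P.inv_mem u.2) χ)]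
  refine Finset.sum_congr ?_ fun _ _ => rfl
  ext χ
  simp only [Finset.mem_filter, Finset.mem_univ, true_and, MulAction.mem_fixedPoints,
    sInv_iff hPK]
  refine ⟨fun h x hx => ?_, fun h u => h _ (P.inv_mem u.2)⟩
  have h1 : cjI (hPK (P.inv_mem (P.inv_mem hx))) χ = χ := h ⟨x⁻¹, P.inv_mem hx⟩
  simpa using h1

/-- multiplicity of `ξ` in the restriction of `χ` -/
noncomputable def gmul {K C : Subgroup Γ} (h : C ≤ K) (χ : K → ℂ) (ξ : C → ℂ) : ℕ :=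
  nin (fun c : C => χ ⟨c, h c.2⟩) ξ

theorem gmul_cast {K C : Subgroup Γ} (h : C ≤ K) [Fintype C] {χ : K → ℂ} {ξ : C → ℂ}
    (hχ : IsCharacter K χ) (hξ : IsCharacter C ξ) :
    (gmul h χ ξ : ℂ) = classInner (fun c : C => χ ⟨c, h c.2⟩) ξ :=
  nin_cast (hχ.restrict_le h) hξ

theorem gmul_eq_of {K C : Subgroup Γ} (h : C ≤ K) [Fintype C] {χ : K → ℂ} {ξ : C → ℂ} {m : ℕ}
    (hm : classInner (fun c : C => χ ⟨c, h c.2⟩) ξ = m) : gmul h χ ξ = m := nin_eq_of hm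

theorem gmul_cjI {K C : Subgroup Γ} (h : C ≤ K) {x : Γ}
    (hx : x ∈ Subgroup.normalizer (K : Set Γ)) (hx' : x ∈ Subgroup.normalizer (C : Set Γ))
    (χ : IrrCharacter K) (ξ : IrrCharacter C) :
    gmul h (cjI hx χ).1 (cjI hx' ξ).1 = gmul h χ.1 ξ.1 :=
  nin_comp_equiv (cjE hx').toEquiv (fun c : C => χ.1 ⟨c, h c.2⟩) ξ.1

theorem gmul_trans {K B C : Subgroup Γ} (h : B ≤ K) (h' : C ≤ B) {χ : K → ℂ} {ξ : C → ℂ}
    (hχ : IsCharacter K χ) (hξ : IsCharacter C ξ) :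
    gmul (h'.trans h) χ ξ = ∑ η : IrrCharacter B, gmul h χ η * gmul h' η.1 ξ :=
  nin_comp_eq_sum (Subgroup.inclusion h') (hχ.restrict_le h) hξ

theorem gmul_trans_mod {p : ℕ} [Fact p.Prime] {P K B C : Subgroup Γ} (hP : IsPGroup p P)
    (hPK : P ≤ Subgroup.normalizer (K : Set Γ)) (hPB : P ≤ Subgroup.normalizer (B : Set Γ))
    (hPC : P ≤ Subgroup.normalizer (C : Set Γ)) (h : B ≤ K) (h' : C ≤ B)
    {χ : IrrCharacter K} (hχ : SInv P χ.1) {ξ : IrrCharacter C} (hξ : SInv P ξ.1)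
    [DecidablePred fun χ : IrrCharacter B => SInv P χ.1] :
    (gmul (h'.trans h) χ.1 ξ.1 : ZMod p) =
      ∑ η : IrrCharacter B with SInv P η.1, (gmul h χ.1 η.1 : ZMod p) * gmul h' η.1 ξ.1 := by
  rw [gmul_trans h h' χ.2.isCharacter ξ.2.isCharacter]
  push_cast
  refine sum_irr_eq_sum_sInv hP hPB _ fun x hx η => ?_
  conv_lhs => rw [← (sInv_iff hPK χ).mp hχ x hx, ← (sInv_iff hPC ξ).mp hξ x hx]
  rw [gmul_cjI, gmul_cjI]

/-- the Glauberman correspondence property -/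
structure GCorr (p : ℕ) (P : Subgroup Γ) {K C : Subgroup Γ} (h : C ≤ K) : Prop where
  down : ∀ χ : IrrCharacter K, SInv P χ.1 → ∃ ξ : IrrCharacter C, SInv P ξ.1 ∧
    (gmul h χ.1 ξ.1 : ZMod p) ^ 2 = 1 ∧
    ∀ ξ' : IrrCharacter C, SInv P ξ'.1 → ξ' ≠ ξ → p ∣ gmul h χ.1 ξ'.1
  up : ∀ ξ : IrrCharacter C, SInv P ξ.1 → ∃ χ : IrrCharacter K, SInv P χ.1 ∧
    ¬ p ∣ gmul h χ.1 ξ.1 ∧
    ∀ χ' : IrrCharacter K, SInv P χ'.1 → ¬ p ∣ gmul h χ'.1 ξ.1 → χ' = χ

variable {p : ℕ} [hp : Fact p.Prime] {P K B C N : Subgroup Γ}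

theorem GCorr.refl (P K : Subgroup Γ) : GCorr p P (le_refl K) := by
  classical
  have key : ∀ χ ξ : IrrCharacter K, gmul (le_refl K) χ.1 ξ.1 = if χ = ξ then 1 else 0 :=
    fun χ ξ => nin_irr χ ξ
  refine ⟨fun χ hχ => ⟨χ, hχ, by simp [key], fun ξ _ hne => by simp [key, hne.symm]⟩,
    fun ξ hξ => ⟨ξ, hξ, by simp [key, hp.out.one_lt.ne'], fun χ _ h => ?_⟩⟩
  by_contra hne
  simp [key, hne] at h

theorem GCorr.trans (hP : IsPGroup p P)
    (hPK : P ≤ Subgroup.normalizer (K : Set Γ)) (hPB : P ≤ Subgroup.normalizer (B : Set Γ))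
    (hPC : P ≤ Subgroup.normalizer (C : Set Γ)) {h : B ≤ K} {h' : C ≤ B}
    (H : GCorr p P h) (H' : GCorr p P h') : GCorr p P (h'.trans h) := by
  classical
  have key : ∀ (χ : IrrCharacter K) (η : IrrCharacter B) (ξ : IrrCharacter C), SInv P χ.1 →
      SInv P η.1 → SInv P ξ.1 →
      (∀ η' : IrrCharacter B, SInv P η'.1 → η' ≠ η → p ∣ gmul h χ.1 η'.1) →
      (gmul (h'.trans h) χ.1 ξ.1 : ZMod p) = gmul h χ.1 η.1 * gmul h' η.1 ξ.1 := by
    intro χ η ξ hχ hη hξ hu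
    rw [gmul_trans_mod hP hPK hPB hPC h h' hχ hξ, Finset.sum_eq_single η]
    · intro η' hη' hne
      rw [(ZMod.natCast_eq_zero_iff _ _).mpr (hu η' (Finset.mem_filter.mp hη').2 hne), zero_mul]
    · simp [hη]
  constructor
  · intro χ hχ
    obtain ⟨η, hη, h1, h2⟩ := H.down χ hχ
    obtain ⟨ξ, hξ, h3, h4⟩ := H'.down η hη
    refine ⟨ξ, hξ, by rw [key χ η ξ hχ hη hξ h2, mul_pow, h1, h3, mul_one], fun ξ' hξ' hne => ?_⟩
    rw [← ZMod.natCast_eq_zero_iff, key χ η ξ' hχ hη hξ' h2,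
      (ZMod.natCast_eq_zero_iff _ _).mpr (h4 ξ' hξ' hne), mul_zero]
  · intro ξ hξ
    obtain ⟨η, hη, h1, h2⟩ := H'.up ξ hξ
    obtain ⟨χ, hχ, h3, h4⟩ := H.up η hη
    refine ⟨χ, hχ, ?_, fun χ' hχ' hnd => ?_⟩
    · obtain ⟨η₁, hη₁, -, h6⟩ := H.down χ hχ
      have h7 : η = η₁ := by_contra fun hne => h3 (h6 η hη hne)
      subst h7
      rw [← ZMod.natCast_eq_zero_iff, key χ η ξ hχ hη hξ h6, mul_eq_zero,
        ZMod.natCast_eq_zero_iff, ZMod.natCast_eq_zero_iff]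
      exact fun h8 => h8.elim h3 h1
    · obtain ⟨η₁, hη₁, h5, h6⟩ := H.down χ' hχ'
      rw [← ZMod.natCast_eq_zero_iff, key χ' η₁ ξ hχ' hη₁ hξ h6, mul_eq_zero,
        ZMod.natCast_eq_zero_iff, ZMod.natCast_eq_zero_iff, not_or] at hnd
      have h7 := h2 η₁ hη₁ hnd.2
      subst h7
      exact h4 χ' hχ' hnd.1

/-- a `p`-group with a subgroup fixing exactly one point of an invariant set fixes that point -/
theorem sInv_of_unique (hP : IsPGroup p P) (hPK : P ≤ Subgroup.normalizer (K : Set Γ))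
    {T : Subgroup Γ} (hT : T ≤ P) (Q : IrrCharacter K → Prop)
    (hQ : ∀ x (hx : x ∈ P) χ, Q (cjI (hPK hx) χ) ↔ Q χ) {χ : IrrCharacter K} (h1 : SInv T χ.1)
    (h2 : Q χ) (h3 : ∀ χ', SInv T χ'.1 → Q χ' → χ' = χ) : SInv P χ.1 := by
  classical
  by_contra hc
  have h4 := sum_irr_eq_sum_sInv hP hPK (fun χ => if Q χ then 1 else 0)
    (fun x hx χ => by simp only [hQ x hx χ])
  have h5 := sum_irr_eq_sum_sInv (hP.to_le hT) (hT.trans hPK) (fun χ => if Q χ then 1 else 0)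
    (fun x hx χ => by simp only [hQ x (hT hx) χ])
  rw [h4, Finset.sum_eq_zero, Finset.sum_eq_single χ] at h5
  · simp [h2] at h5
  · intro χ' hχ' hne
    rw [if_neg fun h => hne (h3 χ' (Finset.mem_filter.mp hχ').2 h)]
  · simp [h1]
  · intro χ' hχ'
    have h6 := (Finset.mem_filter.mp hχ').2
    rw [if_neg fun h => hc (h3 χ' (h6.mono hT) h ▸ h6)]

theorem GCorr.of_le (hP : IsPGroup p P)
    (hPK : P ≤ Subgroup.normalizer (K : Set Γ)) (hPB : P ≤ Subgroup.normalizer (B : Set Γ))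
    {T : Subgroup Γ} (hT : T ≤ P) {h : B ≤ K} (H : GCorr p T h) : GCorr p P h := by
  constructor
  · intro χ hχ
    obtain ⟨ξ, hξ, h1, h2⟩ := H.down χ (hχ.mono hT)
    refine ⟨ξ, sInv_of_unique hP hPB hT (fun ξ => ¬ p ∣ gmul h χ.1 ξ.1) (fun x hx ξ => ?_) hξ
      (not_dvd_of_sq_eq_one h1) (fun ξ' h3 h4 => by_contra fun hne => h4 (h2 ξ' h3 hne)), h1,
      fun ξ' h3 => h2 ξ' (h3.mono hT)⟩
    conv_lhs => rw [← (sInv_iff hPK χ).mp hχ x hx, gmul_cjI]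
  · intro ξ hξ
    obtain ⟨χ, hχ, h1, h2⟩ := H.up ξ (hξ.mono hT)
    refine ⟨χ, sInv_of_unique hP hPK hT (fun χ => ¬ p ∣ gmul h χ.1 ξ.1) (fun x hx χ => ?_) hχ
      h1 h2, h1, fun χ' h3 => h2 χ' (h3.mono hT)⟩
    conv_lhs => rw [← (sInv_iff hPB ξ).mp hξ x hx, gmul_cjI]

theorem exists_eq_mul_pow_of_mem_sup {z : Γ} (hz : z ∈ Subgroup.normalizer (K : Set Γ)) {g : Γ}
    (hg : g ∈ K ⊔ Subgroup.zpowers z) : ∃ k ∈ K, ∃ n : ℕ, g = k * z ^ n := by
  obtain ⟨k, hk, y, hy, rfl⟩ :=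
    (H1.mem_sup_of_le_normalizer_left (Subgroup.zpowers_le.mpr hz)).mp hg
  obtain ⟨n, rfl⟩ := (mem_powers_iff_mem_zpowers).mpr hy
  exact ⟨k, hk, n, rfl⟩

omit [Finite Γ] in
theorem mem_of_conj_mul_eq {z : Γ} (hzN : z ∈ Subgroup.normalizer (N : Set Γ))
    (hKN : K ≤ Subgroup.normalizer (N : Set Γ)) (hcop : (orderOf z).Coprime (N.relIndex K))
    {k b b' : Γ} (hk : k ∈ K) (hb : b ∈ K) (hb1 : z * b * z⁻¹ * b⁻¹ ∈ N) (hb' : b' ∈ K)
    (hb1' : z * b' * z⁻¹ * b'⁻¹ ∈ N) (h : k * (b * z) * k⁻¹ = b' * z) :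
    z * k * z⁻¹ * k⁻¹ ∈ N := by
  set M := Subgroup.normalizer (N : Set Γ)
  let π := QuotientGroup.mk' (N.subgroupOf M)
  have hπ : ∀ x : M, π x = 1 ↔ (x : Γ) ∈ N := fun x => QuotientGroup.eq_one_iff x
  obtain ⟨m, hm1, hm2⟩ := Nat.chineseRemainder hcop 1 0
  have hn : (N.subgroupOf K).Normal := Subgroup.normal_subgroupOf_of_le_normalizer hKN
  have key : ∀ b (hb : b ∈ K), z * b * z⁻¹ * b⁻¹ ∈ N →
      π (⟨b, hKN hb⟩ * ⟨z, hzN⟩) ^ m = π ⟨z, hzN⟩ := by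
    intro b hb hb1
    have hc : Commute (π ⟨z, hzN⟩) (π ⟨b, hKN hb⟩) := by
      rw [← commutatorElement_eq_one_iff_commute, ← map_commutatorElement, hπ]
      exact hb1
    rw [map_mul, hc.symm.mul_pow, ← map_pow, ← map_pow, (hπ _).mpr, one_mul]
    · congr 1
      apply Subtype.ext
      change z ^ m = z
      rw [pow_eq_pow_iff_modEq.mpr hm1, pow_one]
    · obtain ⟨c, hc⟩ := (Nat.modEq_zero_iff_dvd.mp hm2)
      have := (N.subgroupOf K).pow_index_mem ⟨b, hb⟩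
      change b ^ m ∈ N
      rw [hc, pow_mul]
      exact N.pow_mem this c
  have h1 : π ⟨k, hKN hk⟩ * π (⟨b, hKN hb⟩ * ⟨z, hzN⟩) * (π ⟨k, hKN hk⟩)⁻¹ =
      π (⟨b', hKN hb'⟩ * ⟨z, hzN⟩) := by
    rw [← map_inv, ← map_mul, ← map_mul]; congr 1; exact Subtype.ext h
  have h2 := key b' hb' hb1'
  rw [← h1, conj_pow, key b hb hb1] at h2
  have h3 : π (⟨z, hzN⟩ * ⟨k, hKN hk⟩ * (⟨z, hzN⟩ : M)⁻¹ * (⟨k, hKN hk⟩ : M)⁻¹) = 1 := by
    simp only [map_mul, map_inv]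
    conv_lhs => enter [1, 1, 1]; rw [← h2]
    have : π ⟨k, hKN hk⟩ * π ⟨z, hzN⟩ = π ⟨z, hzN⟩ * π ⟨k, hKN hk⟩ := by
      conv_rhs => rw [← h2]
      group
    group
  exact (hπ _).mp h3

/-- the ambient step data -/
def ambStep {z : Γ} (hzK : z ∈ Subgroup.normalizer (K : Set Γ))
    (hzB : z ∈ Subgroup.normalizer (B : Set Γ))
    (hzN : z ∈ Subgroup.normalizer (N : Set Γ))
    (hKN : K ≤ Subgroup.normalizer (N : Set Γ)) (hcop : (orderOf z).Coprime (N.relIndex K))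
    (hBK : B ≤ K) (hB : ∀ k, k ∈ B ↔ k ∈ K ∧ z * k * z⁻¹ * k⁻¹ ∈ N) :
    GStep K B ↥(K ⊔ Subgroup.zpowers z) ↥(B ⊔ Subgroup.zpowers z) where
  E := NEmb.ofLe le_sup_left (Subgroup.le_normalizer_iff.mp
    (H1.sup_le_normalizer_left (Subgroup.zpowers_le.mpr hzK)))
  E' := NEmb.ofLe le_sup_left (Subgroup.le_normalizer_iff.mp
    (H1.sup_le_normalizer_left (Subgroup.zpowers_le.mpr hzB)))
  i := Subgroup.inclusion hBK
  j := Subgroup.inclusion (sup_le_sup_right hBK _)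
  jinj := Subgroup.inclusion_injective _
  comm _ := rfl
  s := ⟨z, Subgroup.mem_sup_right (Subgroup.mem_zpowers z)⟩
  topK g := by
    obtain ⟨k, hk, n, h⟩ := exists_eq_mul_pow_of_mem_sup hzK g.2
    exact ⟨⟨k, hk⟩, n, Subtype.ext h⟩
  topB g := by
    obtain ⟨k, hk, n, h⟩ := exists_eq_mul_pow_of_mem_sup hzB g.2
    exact ⟨⟨k, hk⟩, n, Subtype.ext h⟩
  ti k b b' h := ⟨⟨k, (hB k).mpr ⟨k.2, mem_of_conj_mul_eq hzN hKN hcop k.2 (hBK b.2)
    ((hB b).mp b.2).2 (hBK b'.2) ((hB b').mp b'.2).2 (congrArg Subtype.val h)⟩⟩, rfl⟩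

theorem gCorr_zpowers {z : Γ} {k : ℕ} (hz : z ^ p ^ k = 1)
    (hzK : z ∈ Subgroup.normalizer (K : Set Γ)) (hzB : z ∈ Subgroup.normalizer (B : Set Γ))
    (hzN : z ∈ Subgroup.normalizer (N : Set Γ))
    (hKN : K ≤ Subgroup.normalizer (N : Set Γ)) (hcop : ¬ p ∣ N.relIndex K)
    (hBK : B ≤ K) (hB : ∀ k, k ∈ B ↔ k ∈ K ∧ z * k * z⁻¹ * k⁻¹ ∈ N) :
    GCorr p (Subgroup.zpowers z) hBK := by
  have hc : (orderOf z).Coprime (N.relIndex K) :=
    Nat.Coprime.coprime_dvd_left (orderOf_dvd_of_pow_eq_one hz)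
      (Nat.Coprime.pow_left k ((Nat.Prime.coprime_iff_not_dvd hp.out).mpr hcop))
  let D := ambStep hzK hzB hzN hKN hc hBK hB
  have hs : D.s ^ p ^ k = 1 := Subtype.ext hz
  have := Fintype.ofFinite K
  have := Fintype.ofFinite B
  have := Fintype.ofFinite ↥(K ⊔ Subgroup.zpowers z)
  have := Fintype.ofFinite ↥(B ⊔ Subgroup.zpowers z)
  constructor
  · intro χ hχ
    obtain ⟨ξ, h1, h2, h3, h4⟩ := D.step1 hs χ.2
      (fun x => hχ z (Subgroup.mem_zpowers z) _ _ rfl)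
    exact ⟨⟨ξ, h1⟩, sInv_zpowers hzB h2, h3, fun ξ' h5 h6 => h4 ξ'.1 ξ'.2
      (fun x => h5 z (Subgroup.mem_zpowers z) _ _ rfl) fun e => h6 (Subtype.ext e)⟩
  · intro ξ hξ
    obtain ⟨χ, h1, h2, h3, h4⟩ := D.step2 hs ξ.2
      (fun x => hξ z (Subgroup.mem_zpowers z) _ _ rfl)
    exact ⟨⟨χ, h1⟩, sInv_zpowers hzK h2, h3, fun χ' h5 h6 => Subtype.ext (h4 χ'.1 χ'.2
      (fun x => h5 z (Subgroup.mem_zpowers z) _ _ rfl) h6)⟩

omit [Finite Γ] in
/-- the subgroup of `K` centralizing `S` modulo `N` -/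
def relCent (S : Set Γ) (K N : Subgroup Γ) (hKN : K ≤ Subgroup.normalizer (N : Set Γ)) :
    Subgroup Γ where
  carrier := {k | k ∈ K ∧ ∀ x ∈ S, x * k * x⁻¹ * k⁻¹ ∈ N}
  one_mem' := ⟨one_mem _, fun x _ => by simp⟩
  mul_mem' {a b} ha hb := ⟨mul_mem ha.1 hb.1, fun x hx => by
    have := N.mul_mem (ha.2 x hx) ((hKN ha.1 _).mp (hb.2 x hx))
    convert this using 1; group⟩
  inv_mem' {a} ha := ⟨inv_mem ha.1, fun x hx => by
    have := H1.conj_mem_of_le_normalizer hKN (inv_mem ha.1) (N.inv_mem (ha.2 x hx))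
    convert this using 1; group⟩

omit [Finite Γ] in
theorem le_normalizer_of_relCent {S : Subgroup Γ} (hSK : S ≤ Subgroup.normalizer (K : Set Γ))
    (hSN : S ≤ Subgroup.normalizer (N : Set Γ))
    (hC : ∀ k, k ∈ C ↔ k ∈ K ∧ ∀ x ∈ S, x * k * x⁻¹ * k⁻¹ ∈ N) :
    S ≤ Subgroup.normalizer (C : Set Γ) := by
  rw [Subgroup.le_normalizer_iff]
  intro u hu c hc
  obtain ⟨h1, h2⟩ := (hC c).mp hc
  refine (hC _).mpr ⟨(hSK hu c).mp h1, fun x hx => ?_⟩
  have := H1.conj_mem_of_le_normalizer hSN hu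
    (h2 _ (S.mul_mem (S.mul_mem (S.inv_mem hu) hx) hu))
  convert this using 1; group

/-- **Relative Glauberman correspondence** for `p`-groups. -/
theorem gCorr_rel (hP : IsPGroup p P) (hPN : P ≤ Subgroup.normalizer (N : Set Γ)) (n : ℕ) :
    ∀ {K C : Subgroup Γ}, Nat.card K = n → P ≤ Subgroup.normalizer (K : Set Γ) →
    K ≤ Subgroup.normalizer (N : Set Γ) → ¬ p ∣ N.relIndex K →
    (∀ k, k ∈ C ↔ k ∈ K ∧ ∀ x ∈ P, x * k * x⁻¹ * k⁻¹ ∈ N) → ∀ h : C ≤ K, GCorr p P h := by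
  induction n using Nat.strong_induction_on with
  | _ n ih =>
  intro K C hn hPK hKN hcop hC h
  by_cases htriv : ∀ x ∈ P, ∀ k ∈ K, x * k * x⁻¹ * k⁻¹ ∈ N
  · have : C = K := le_antisymm h fun k hk => (hC k).mpr ⟨hk, fun x hx => htriv x hx k hk⟩
    subst this
    exact GCorr.refl P C
  let P₀ : Subgroup P :=
    { carrier := {x | ∀ k ∈ K, (x : Γ) * k * (x : Γ)⁻¹ * k⁻¹ ∈ N}
      one_mem' := fun k _ => by simp
      mul_mem' := fun {a b} ha hb k hk => by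
        have := N.mul_mem ((hPN a.2 _).mp (hb k hk)) (ha k hk)
        convert this using 1; simp only [Subgroup.coe_mul]; group
      inv_mem' := fun {a} ha k hk => by
        have := H1.conj_mem_of_le_normalizer hPN (inv_mem a.2) (N.inv_mem (ha k hk))
        convert this using 1; simp only [Subgroup.coe_inv]; group }
  have hP₀ : P₀.Normal := ⟨fun a ha u k hk => by
    have := H1.conj_mem_of_le_normalizer hPN u.2 (ha _ ((hPK (inv_mem u.2) k).mp hk))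
    convert this using 1; simp only [Subgroup.coe_mul, Subgroup.coe_inv]; group⟩
  obtain ⟨z, -, hz, -, hzc⟩ := H3.exists_central_mod hP (N := P₀) (M := ⊤)
    (fun hle => htriv fun x hx => hle (Subgroup.mem_top (⟨x, hx⟩ : P)))
  let B := relCent {(z : Γ)} K N hKN
  have hB : ∀ k, k ∈ B ↔ k ∈ K ∧ (z : Γ) * k * (z : Γ)⁻¹ * k⁻¹ ∈ N := fun k => by
    change (k ∈ K ∧ _) ↔ _; simp
  have hBK : B ≤ K := fun k hk => hk.1
  have hlt : B < K := lt_of_le_of_ne hBK fun e => hz fun k hk => ((hB k).mp (e ▸ hk)).2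
  have hPB : P ≤ Subgroup.normalizer (B : Set Γ) := by
    rw [Subgroup.le_normalizer_iff]
    intro u hu b hb
    obtain ⟨h1, h2⟩ := (hB b).mp hb
    refine (hB _).mpr ⟨(hPK hu b).mp h1, ?_⟩
    have h3 := hzc ⟨u⁻¹, inv_mem hu⟩ _ ((hPK z.2 b).mp h1)
    have := H1.conj_mem_of_le_normalizer hPN hu (N.mul_mem h3 h2)
    convert this using 1
    simp only [commutatorElement_def, Subgroup.coe_mul, Subgroup.coe_inv]; group
  have hCB : C ≤ B := fun c hc => (hB c).mpr ⟨h hc, ((hC c).mp hc).2 z z.2⟩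
  obtain ⟨k, hk⟩ := hP z
  have G1 := GCorr.of_le hP hPK hPB (Subgroup.zpowers_le.mpr z.2)
    (gCorr_zpowers (k := k) (congrArg Subtype.val hk) (hPK z.2) (hPB z.2) (hPN z.2) hKN hcop
      hBK hB)
  have hn' : (N.subgroupOf K).Normal := Subgroup.normal_subgroupOf_of_le_normalizer hKN
  have G2 := ih _ (hn ▸ H1.card_lt_of_lt hlt) (K := B) (C := C) rfl hPB (hBK.trans hKN)
    (fun hd => hcop (hd.trans ?_))
    (fun c => ⟨fun hc => ⟨hCB hc, ((hC c).mp hc).2⟩, fun hc => (hC c).mpr ⟨hBK hc.1, hc.2⟩⟩) hCB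
  · exact GCorr.trans hP hPK hPB (le_normalizer_of_relCent hPK hPN hC) G1 G2
  · rw [← Subgroup.relIndex_subgroupOf hBK]
    exact Subgroup.relIndex_dvd_index_of_normal _ _

theorem gCorr (hP : IsPGroup p P) (hPK : P ≤ Subgroup.normalizer (K : Set Γ))
    (hcop : ¬ p ∣ Nat.card K) (hC : C = K ⊓ Subgroup.centralizer (P : Set Γ)) (h : C ≤ K) :
    GCorr p P h := by
  refine gCorr_rel (N := ⊥) hP Subgroup.le_normalizer_of_normal _ rfl hPK
    Subgroup.le_normalizer_of_normal (by simpa using hcop) (fun k => ?_) h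
  simp only [hC, Subgroup.mem_inf, Subgroup.mem_centralizer_iff, SetLike.mem_coe,
    Subgroup.mem_bot, mul_inv_eq_iff_eq_mul, one_mul]

theorem gCorr' (hP : IsPGroup p P) (hPK : P ≤ Subgroup.normalizer (K : Set Γ))
    (hcop : (Nat.card K).Coprime (Nat.card P)) (hC : C = K ⊓ Subgroup.centralizer (P : Set Γ))
    (h : C ≤ K) : GCorr p P h := by
  by_cases hd : p ∣ Nat.card K
  · obtain ⟨k, hk⟩ := IsPGroup.iff_card.mp hP
    have h1 : P = ⊥ := by
      rw [← Subgroup.card_eq_one, hk]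
      rcases k with _ | k
      · rfl
      · exact absurd (Nat.eq_one_of_dvd_coprimes hcop hd (hk ▸ dvd_pow_self p (by omega)))
          hp.out.one_lt.ne'
    have : C = K := by
      rw [hC, h1, inf_eq_left]
      intro x _ y hy
      rw [show y = 1 from hy]; simp
    subst this
    exact GCorr.refl P C
  · exact gCorr hP hPK hd hC h

theorem zmod_sq_eq_one {m : ℕ} (h : (m : ZMod p) ^ 2 = 1) :
    (m : ℤ) ≡ 1 [ZMOD p] ∨ (m : ℤ) ≡ -1 [ZMOD p] := by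
  rw [← ZMod.intCast_eq_intCast_iff, ← ZMod.intCast_eq_intCast_iff]
  simpa using sq_eq_one_iff.mp h

omit [Finite Γ] in
theorem sInv_of_le_centralizer {S : Subgroup Γ} (h : C ≤ Subgroup.centralizer (S : Set Γ))
    (ξ : C → ℂ) : SInv S ξ := fun s hs g g' hg => by
  rw [show g' = g from Subtype.ext (by rw [hg, h g.2 s hs]; simp)]

/-- degree congruence -/
theorem charDegree_eq_of_gmul (hP : IsPGroup p P) (hPK : P ≤ Subgroup.normalizer (K : Set Γ))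
    (hPC : P ≤ Subgroup.normalizer (C : Set Γ)) (h : C ≤ K) {χ : IrrCharacter K}
    (hχ : SInv P χ.1) {ξ : IrrCharacter C} (hξ : SInv P ξ.1)
    (hu : ∀ ξ' : IrrCharacter C, SInv P ξ'.1 → ξ' ≠ ξ → p ∣ gmul h χ.1 ξ'.1) :
    (charDegree χ.1 : ZMod p) = gmul h χ.1 ξ.1 * charDegree ξ.1 := by
  classical
  have h1 : charDegree χ.1 = ∑ η : IrrCharacter C, gmul h χ.1 η.1 * charDegree η.1 :=
    charDegree_eq_sum_nin (χ.2.isCharacter.restrict_le h)
  rw [h1]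
  push_cast
  rw [sum_irr_eq_sum_sInv hP hPC, Finset.sum_eq_single ξ]
  · intro η hη hne
    rw [(ZMod.natCast_eq_zero_iff _ _).mpr (hu η (Finset.mem_filter.mp hη).2 hne), zero_mul]
  · simp [hξ]
  · intro x hx η
    conv_lhs => enter [1]; rw [← (sInv_iff hPK χ).mp hχ x hx, gmul_cjI]
    congr 2
    unfold charDegree
    rw [cjI_apply, map_one]

end Amb

end Cfsg.Agent.H8
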