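import Mathlib
import Cfsg.Agent.H8.Glaub2
import Cfsg.Agent.H1.Cores

/-!
# Invariant characters under coprime action
-/

namespace Cfsg.Agent.H8

open Cfsg Cfsg.Agent.H4 Cfsg.Agent.H5
open scoped ComplexConjugate commutatorElement

section Perm

/-- Glauberman's lemma for two compatible actions on a finite set -/
theorem exists_fixed_of_actions {X U K : Type*} [Finite X] [Group U] [Group K]
    (f : U →* Equiv.Perm X) (g : K →* Equiv.Perm X)
    (hcomp : ∀ u k, ∃ k', g k' = f u * g k * (f u)⁻¹)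
    (hcop : (Nat.card f.range).Coprime (Nat.card g.range))
    (hsol : Group.IsSolvable f.range ∨ Group.IsSolvable g.range) (x : X)
    (hx : ∀ u, ∃ k, g k x = f u x) : ∃ k, ∀ u, f u (g k x) = g k x := by
  obtain ⟨n, ⟨k, rfl⟩, h⟩ := H1.exists_fixed_in_orbit (G := Equiv.Perm X) (N := g.range)
    (U := f.range) (Subgroup.le_normalizer_iff.mpr (by
      rintro _ ⟨u, rfl⟩ _ ⟨k, rfl⟩; exact hcomp u k)) hcop hsol x (by
      rintro _ ⟨u, rfl⟩
      obtain ⟨k, hk⟩ := hx u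
      exact ⟨_, ⟨k, rfl⟩, hk⟩)
  exact ⟨k, fun u => h _ ⟨u, rfl⟩⟩

theorem card_range_dvd_index {K M : Type*} [Group K] [Group M] (f : K →* M) (N : Subgroup K)
    (h : ∀ n ∈ N, f n = 1) : Nat.card f.range ∣ N.index := by
  rw [← Subgroup.index_ker]
  exact Subgroup.index_dvd_of_le h

theorem isSolvable_quotient_of_ker_le {K Q : Type*} [Group K] [Group Q] (f : K →* Q)
    (hQ : Group.IsSolvable Q) (T : Subgroup K) [T.Normal] (h : ∀ k, f k = 1 → k ∈ T) :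
    Group.IsSolvable (K ⧸ T) := by
  have h1 : Group.IsSolvable (K ⧸ f.ker) :=
    Group.isSolvable_of_isSolvable_injective (QuotientGroup.kerLift_injective f)
  have h2 : f.ker ≤ T.comap (MonoidHom.id K) := h
  exact Group.isSolvable_of_surjective (f := QuotientGroup.map f.ker T (MonoidHom.id K) h2)
    (fun x => by
      obtain ⟨x, rfl⟩ := QuotientGroup.mk_surjective x
      exact ⟨x, rfl⟩)

theorem isSolvable_range_of_ker_le {K Q M : Type*} [Group K] [Group Q] [Group M] (f : K →* Q)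
    (hQ : Group.IsSolvable Q) (g : K →* M) (h : ∀ k, f k = 1 → g k = 1) :
    Group.IsSolvable g.range :=
  have := isSolvable_quotient_of_ker_le f hQ g.ker h
  H1.isSolvable_of_mulEquiv (QuotientGroup.quotientKerEquivRange g) this

end Perm

theorem exists_linear_mul {N G : Type*} [Group N] [Group G] [Fintype N] [Fintype G]
    (E : NEmb N G) (hab : ∀ a b : G, a * b * a⁻¹ * b⁻¹ ∈ E.f.range) {χ ψ : G → ℂ}
    (hχ : IsIrrCharacter G χ) (hψ : IsIrrCharacter G ψ)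
    (h : classInner (fun n => χ (E.f n)) (fun n => ψ (E.f n)) ≠ 0) :
    ∃ lam : G →* ℂˣ, (∀ n, lam (E.f n) = 1) ∧ ψ = (fun g => (lam g : ℂ)) * χ := by
  have h1 : classInner (indHom E.f (fun _ => 1) * χ) ψ ≠ 0 := by
    rw [← indHom_mul_comp _ _ hχ.isClassFunction, inner_indHom_left _ _ hψ.isClassFunction]
    convert h using 2
    ext n; simp
  obtain ⟨β, hβ, h2, h3⟩ := exists_constituent_mul (indHom_isClassFunction _ _) h1
  rw [E.inner_indHom_ne_zero_iff _ hβ.isClassFunction, E.inner_res_one_ne_zero_iff hβ] at h2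
  have h4 := E.degree_eq_one_of_ab hab hβ h2
  obtain ⟨lam, rfl⟩ := hβ.isCharacter.exists_linear h4
  refine ⟨lam, fun n => Units.ext ((h2 n).trans h4), ?_⟩
  exact ((isIrr_mul_of_linear hβ.isCharacter h4 hχ).eq_of_classInner_ne_zero hψ h3).symm

section Amb
variable {Γ : Type*} [Group Γ] [Finite Γ] {K B C N G S : Subgroup Γ}

theorem gmul_ne_zero_iff (h : C ≤ K) [Fintype C] {χ : K → ℂ} {ξ : C → ℂ}
    (hχ : IsCharacter K χ) (hξ : IsCharacter C ξ) :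
    gmul h χ ξ ≠ 0 ↔ classInner (fun c : C => χ ⟨c, h c.2⟩) ξ ≠ 0 := by
  rw [← gmul_cast h hχ hξ, Nat.cast_ne_zero]

theorem exists_under (h : C ≤ K) (χ : IrrCharacter K) :
    ∃ ξ : IrrCharacter C, gmul h χ.1 ξ.1 ≠ 0 := by
  have := Fintype.ofFinite K
  have := Fintype.ofFinite C
  obtain ⟨θ, hθ, h1⟩ := exists_irr_under_hom (Subgroup.inclusion h) χ.2
  exact ⟨⟨θ, hθ⟩, (gmul_ne_zero_iff h χ.2.isCharacter hθ.isCharacter).mpr h1⟩

theorem exists_over (h : C ≤ K) (ξ : IrrCharacter C) :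
    ∃ χ : IrrCharacter K, gmul h χ.1 ξ.1 ≠ 0 := by
  have := Fintype.ofFinite K
  have := Fintype.ofFinite C
  obtain ⟨θ, hθ, h1⟩ := exists_irr_over_hom (Subgroup.inclusion h)
    (Subgroup.inclusion_injective h) ξ.2
  exact ⟨⟨θ, hθ⟩, (gmul_ne_zero_iff h hθ.isCharacter ξ.2.isCharacter).mpr h1⟩

theorem gmul_trans_ne_zero (h : B ≤ K) (h' : C ≤ B) {χ : IrrCharacter K} {η : IrrCharacter B}
    {ξ : IrrCharacter C} (h1 : gmul h χ.1 η.1 ≠ 0) (h2 : gmul h' η.1 ξ.1 ≠ 0) :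
    gmul (h'.trans h) χ.1 ξ.1 ≠ 0 := by
  rw [gmul_trans h h' χ.2.isCharacter ξ.2.isCharacter]
  exact fun h0 => mul_ne_zero h1 h2 (Finset.sum_eq_zero_iff.mp h0 η (Finset.mem_univ _))

theorem exists_between (h : B ≤ K) (h' : C ≤ B) {χ : IrrCharacter K}
    {ξ : IrrCharacter C} (h1 : gmul (h'.trans h) χ.1 ξ.1 ≠ 0) :
    ∃ η : IrrCharacter B, gmul h χ.1 η.1 ≠ 0 ∧ gmul h' η.1 ξ.1 ≠ 0 := by
  rw [gmul_trans h h' χ.2.isCharacter ξ.2.isCharacter] at h1
  obtain ⟨η, -, h2⟩ := Finset.exists_ne_zero_of_sum_ne_zero h1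
  exact ⟨η, mul_ne_zero_iff.mp h2⟩

theorem gmul_refl (χ ξ : IrrCharacter K) [Decidable (χ = ξ)] :
    gmul (le_refl K) χ.1 ξ.1 = if χ = ξ then 1 else 0 := nin_irr χ ξ

/-- the normal embedding of `N` in `K` -/
def embN (h : N ≤ K) (hKN : K ≤ Subgroup.normalizer (N : Set Γ)) : NEmb N K :=
  NEmb.ofLe h fun _ ht _ hn => H1.conj_mem_of_le_normalizer hKN ht hn

omit [Finite Γ] in
theorem embN_range (h : N ≤ K) (hKN : K ≤ Subgroup.normalizer (N : Set Γ)) :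
    (embN h hKN).f.range = N.subgroupOf K := NEmb.ofLe_range _ _

omit [Finite Γ] in
theorem embN_index (h : N ≤ K) (hKN : K ≤ Subgroup.normalizer (N : Set Γ)) :
    (embN h hKN).f.range.index = N.relIndex K := by rw [embN_range]; rfl

theorem exists_cjI_eq (h : N ≤ K) (hKN : K ≤ Subgroup.normalizer (N : Set Γ))
    {χ : IrrCharacter K} {θ θ' : IrrCharacter N} (h1 : gmul h χ.1 θ.1 ≠ 0)
    (h2 : gmul h χ.1 θ'.1 ≠ 0) : ∃ k, ∃ hk : k ∈ K, cjI (hKN hk) θ = θ' := by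
  have := Fintype.ofFinite K
  have := Fintype.ofFinite N
  obtain ⟨g, hg⟩ := (embN h hKN).exists_cj_eq_of_constituents χ.2 θ.2 θ'.2
    ((gmul_ne_zero_iff h χ.2.isCharacter θ.2.isCharacter).mp h1)
    ((gmul_ne_zero_iff h χ.2.isCharacter θ'.2.isCharacter).mp h2)
  exact ⟨g, g.2, Subtype.ext hg⟩

omit [Finite Γ] in
theorem cjI_of_mem {x : Γ} (hx : x ∈ K) (hx' : x ∈ Subgroup.normalizer (K : Set Γ))
    (χ : IrrCharacter K) : cjI hx' χ = χ :=
  Subtype.ext (funext fun k => χ.2.isClassFunction k ⟨x, hx⟩)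

theorem gmul_cjI_right (h : N ≤ K) (hKN : K ≤ Subgroup.normalizer (N : Set Γ))
    (χ : IrrCharacter K) (θ : IrrCharacter N) {k : Γ} (hk : k ∈ K) :
    gmul h χ.1 (cjI (hKN hk) θ).1 = gmul h χ.1 θ.1 := by
  conv_lhs => rw [← cjI_of_mem hk (Subgroup.le_normalizer hk) χ]
  exact gmul_cjI _ _ _ _ _

theorem exists_linear_mul' (h : N ≤ K) (hKN : K ≤ Subgroup.normalizer (N : Set Γ))
    (hab : ∀ a ∈ K, ∀ b ∈ K, a * b * a⁻¹ * b⁻¹ ∈ N) {χ ψ : IrrCharacter K}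
    {θ : IrrCharacter N} (h1 : gmul h χ.1 θ.1 ≠ 0) (h2 : gmul h ψ.1 θ.1 ≠ 0) :
    ∃ lam : K →* ℂˣ, (∀ n : K, (n : Γ) ∈ N → lam n = 1) ∧ ∀ g, ψ.1 g = lam g * χ.1 g := by
  have := Fintype.ofFinite K
  have := Fintype.ofFinite N
  have hχ := χ.2.isCharacter.restrict_le h
  have hψ := ψ.2.isCharacter.restrict_le h
  obtain ⟨lam, h3, h4⟩ := exists_linear_mul (embN h hKN) (fun a b => by
    rw [embN_range]; exact hab _ a.2 _ b.2) χ.2 ψ.2 (by
      rw [gmul_ne_zero_iff h χ.2.isCharacter θ.2.isCharacter] at h1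
      rw [gmul_ne_zero_iff h ψ.2.isCharacter θ.2.isCharacter] at h2
      have := inner_comp_ne_zero_of_constituent (MonoidHom.id N) hχ θ.2 h1 hψ
        (by rwa [Ne, ← classInner_eq_zero_symm])
      exact this)
  exact ⟨lam, fun n hn => h3 ⟨n, hn⟩, congrFun h4⟩

/-- invariance of a function on `K` under conjugation by `s` -/
def EInv (s : Γ) {K : Subgroup Γ} (χ : K → ℂ) : Prop :=
  ∀ g g' : K, (g' : Γ) = s * g * s⁻¹ → χ g' = χ g

theorem eInv_of_ab {s : Γ} (h : N ≤ K) (hKN : K ≤ Subgroup.normalizer (N : Set Γ))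
    (hab : ∀ a ∈ K, ∀ b ∈ K, a * b * a⁻¹ * b⁻¹ ∈ N)
    (hsN : s ∈ Subgroup.normalizer (N : Set Γ))
    (hs : ∀ k ∈ K, s * k * s⁻¹ * k⁻¹ ∈ N) {m : ℕ} (hm : m.Coprime (N.relIndex K))
    (hsm : s ^ m ∈ K) {χ : IrrCharacter K} {θ : IrrCharacter N} (hθ : EInv s θ.1)
    (h1 : gmul h χ.1 θ.1 ≠ 0) : EInv s χ.1 := by
  have hsK : s ∈ Subgroup.normalizer (K : Set Γ) := by
    have : Subgroup.zpowers s ≤ Subgroup.normalizer (K : Set Γ) := by
      rw [Subgroup.zpowers_le]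
      refine Subgroup.mem_normalizer_fintype fun k hk => ?_
      simpa using K.mul_mem (h (hs k hk)) hk
    exact this (Subgroup.mem_zpowers s)
  obtain ⟨lam, h3, h4⟩ := exists_linear_mul' h hKN hab (ψ := cjI hsK χ) h1 (by
    rw [← (cjI_eq_iff hsN θ).mpr hθ, gmul_cjI]; exact h1)
  have h5 : ∀ g, lam (cjE hsK g) = lam g := fun g => by
    have := h3 (cjE hsK g * g⁻¹) (hs g g.2)
    rwa [map_mul, map_inv, mul_inv_eq_one] at this
  have h6 : ∀ (n : ℕ) (g g' : K), (g' : Γ) = s ^ n * g * (s ^ n)⁻¹ →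
      χ.1 g' = lam g ^ n * χ.1 g := by
    intro n
    induction n with
    | zero => intro g g' hg; rw [show g' = g from Subtype.ext (by simpa using hg)]; simp
    | succ n ih =>
      intro g g' hg
      rw [ih (cjE hsK g) g' (by rw [hg, coe_cjE, pow_succ]; group), h5, ← cjI_apply, h4]
      ring
  intro g g' hg
  rw [show g' = cjE hsK g from Subtype.ext hg, ← cjI_apply, h4]
  have h7 := h6 m g (⟨_, hsm⟩ * g * ⟨_, hsm⟩⁻¹) rfl
  rw [χ.2.isClassFunction] at h7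
  by_cases h0 : χ.1 g = 0
  · simp [h0]
  have h8 : lam g ^ m = 1 := Units.ext (by
    push_cast
    exact (mul_right_cancel₀ h0 (h7.symm.trans (one_mul _).symm)))
  have h9 : lam g ^ N.relIndex K = 1 := by
    have := Subgroup.normal_subgroupOf_of_le_normalizer hKN
    rw [← map_pow]
    exact h3 _ ((N.subgroupOf K).pow_index_mem g)
  rw [(pow_eq_one_iff_of_coprime hm).mp ⟨h8, h9⟩]; simp

omit [Finite Γ] in
theorem eInv_cjI {s k : Γ} (hk : k ∈ Subgroup.normalizer (N : Set Γ))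
    (hsN : s ∈ Subgroup.normalizer (N : Set Γ))
    (hs : s⁻¹ * k * s * k⁻¹ ∈ N) {θ : IrrCharacter N} (hθ : EInv s θ.1) :
    EInv s (cjI hk θ).1 := by
  intro g g' hg
  rw [cjI_apply, cjI_apply,
    ← θ.2.isClassFunction (cjE hk g) ⟨_, hs⟩]
  exact hθ _ _ (by simp [hg, mul_assoc])

/-- if `s` centralizes `K / N` coprimely, characters over an `s`-invariant character of `N`
are `s`-invariant -/
theorem eInv_of_over {s : Γ} (h : N ≤ K) (hKN : K ≤ Subgroup.normalizer (N : Set Γ))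
    (hsN : s ∈ Subgroup.normalizer (N : Set Γ))
    (hs : ∀ k ∈ K, s * k * s⁻¹ * k⁻¹ ∈ N) {m : ℕ} (hm : m.Coprime (N.relIndex K))
    (hsm : s ^ m ∈ N) {χ : IrrCharacter K} {θ : IrrCharacter N} (hθ : EInv s θ.1)
    (h1 : gmul h χ.1 θ.1 ≠ 0) : EInv s χ.1 := by
  intro g g' hg
  set H := N ⊔ Subgroup.zpowers (g : Γ) with hH
  have hHK : H ≤ K := sup_le h (Subgroup.zpowers_le.mpr g.2)
  have hNH : N ≤ H := le_sup_left
  have hgH : (g : Γ) ∈ H := (le_sup_right : _ ≤ H) (Subgroup.mem_zpowers _)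
  have hg'H : (g' : Γ) ∈ H := by
    simpa [hg] using H.mul_mem (hNH (hs g g.2)) hgH
  have hab : ∀ a ∈ H, ∀ b ∈ H, a * b * a⁻¹ * b⁻¹ ∈ N := by
    intro a ha b hb
    have := comm_of_gen (embN hNH (hHK.trans hKN)) (s := ⟨g, hgH⟩) (fun l => by
      obtain ⟨k, hk, n, hn⟩ := exists_eq_mul_pow_of_mem_sup (hKN g.2) l.2
      exact ⟨⟨k, hk⟩, n, Subtype.ext hn⟩) ⟨a, ha⟩ ⟨b, hb⟩
    rwa [embN_range] at this
  have := Fintype.ofFinite H
  have hχ := (χ.2.isCharacter.restrict_le hHK).isClassFunction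
  have e1 := hχ.apply_eq_sum ⟨g, hgH⟩
  have e2 := hχ.apply_eq_sum ⟨g', hg'H⟩
  refine e2.trans (Eq.trans (Finset.sum_congr rfl fun ψ _ => ?_) e1.symm)
  by_cases h0 : gmul hHK χ.1 ψ.1 = 0
  · rw [← gmul_cast hHK χ.2.isCharacter ψ.2.isCharacter, h0]; simp
  obtain ⟨θ', h2⟩ := exists_under hNH ψ
  obtain ⟨k, hk, rfl⟩ := exists_cjI_eq h hKN h1 (gmul_trans_ne_zero hHK hNH h0 h2)
  have h3 : s⁻¹ * k * s * k⁻¹ ∈ N := by
    have := H1.conj_mem_of_le_normalizer' le_rfl hsN (N.inv_mem (hs k hk))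
    convert this using 1; group
  rw [eInv_of_ab hNH (hHK.trans hKN) hab hsN (fun k hk => hs k (hHK hk))
    (hm.coprime_dvd_right (Dvd.intro _ (Subgroup.relIndex_mul_relIndex N H K hNH hHK)))
    (hNH hsm) (eInv_cjI _ hsN h3 hθ) h2 ⟨g, hgH⟩ ⟨g', hg'H⟩ hg]

omit [Finite Γ] in
theorem EInv.mul {y t : Γ} (ht : t ∈ Subgroup.normalizer (K : Set Γ)) {χ : K → ℂ}
    (h1 : EInv y χ) (h2 : EInv t χ) : EInv (y * t) χ := fun g g' hg => by
  rw [h1 (cjE ht g) g' (by simp [hg, mul_assoc]), h2 g _ rfl]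

omit [Finite Γ] in
theorem EInv.cjI {s x : Γ} (hs : s ∈ Subgroup.normalizer (K : Set Γ)) {χ : IrrCharacter K}
    (h : EInv (s * x * s⁻¹) χ.1) : EInv x (cjI hs χ).1 := fun g g' hg =>
  h _ _ (by simp [hg, mul_assoc])

omit [Finite Γ] in
theorem eInv_of_mem {x : Γ} (hx : x ∈ K) {χ : K → ℂ} (hχ : IsClassFunction K χ) : EInv x χ :=
  fun g g' hg => by rw [show g' = ⟨x, hx⟩ * g * ⟨x, hx⟩⁻¹ from Subtype.ext hg, hχ]

omit [Finite Γ] in
theorem eInv_of_comm {x : Γ} (hx : ∀ k ∈ K, x * k * x⁻¹ * k⁻¹ ∈ (⊥ : Subgroup Γ)) (χ : K → ℂ) :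
    EInv x χ := fun g g' hg => by
  have := hx g g.2
  rw [Subgroup.mem_bot, mul_inv_eq_one] at this
  rw [show g' = g from Subtype.ext (hg.trans this)]

omit [Finite Γ] in
theorem pow_relIndex_mem (hSN : S ≤ Subgroup.normalizer (N : Set Γ)) {s : Γ} (hs : s ∈ S) :
    s ^ N.relIndex S ∈ N :=
  have := Subgroup.normal_subgroupOf_of_le_normalizer hSN
  (N.subgroupOf S).pow_index_mem ⟨s, hs⟩

theorem exists_step (hSG : S ≤ Subgroup.normalizer (G : Set Γ))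
    (hSN : S ≤ Subgroup.normalizer (N : Set Γ)) (hGN : G ≤ Subgroup.normalizer (N : Set Γ))
    {Q : Type*} [Group Q] (f : S →* Q) (hQ : Group.IsSolvable Q)
    (hf : ∀ s, f s = 1 → (s : Γ) ∈ N) (hne : ¬ ∀ s ∈ S, ∀ g ∈ G, s * g * s⁻¹ * g⁻¹ ∈ N) :
    ∃ p : ℕ, p.Prime ∧ p ∣ N.relIndex S ∧ ∃ P ≤ S, IsPGroup p P ∧
      (¬ ∀ x ∈ P, ∀ g ∈ G, x * g * x⁻¹ * g⁻¹ ∈ N) ∧
      ∀ s ∈ S, ∀ x ∈ P, ∃ y ∈ P, ∃ t ∈ S, (∀ g ∈ G, t * g * t⁻¹ * g⁻¹ ∈ N) ∧
        s * x * s⁻¹ = y * t := by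
  let T : Subgroup S :=
    { carrier := {t | ∀ g ∈ G, (t : Γ) * g * (t : Γ)⁻¹ * g⁻¹ ∈ N}
      one_mem' := fun g _ => by simp
      mul_mem' := fun {a b} ha hb g hg => by
        have := N.mul_mem (H1.conj_mem_of_le_normalizer hSN a.2 (hb g hg)) (ha g hg)
        convert this using 1; push_cast; group
      inv_mem' := fun {a} ha g hg => by
        have := H1.conj_mem_of_le_normalizer' hSN a.2 (N.inv_mem (ha g hg))
        convert this using 1; push_cast; group }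
  have hTn : T.Normal := ⟨fun t ht s g hg => by
    have := H1.conj_mem_of_le_normalizer hSN s.2
      (ht _ (H1.conj_mem_of_le_normalizer' hSG s.2 hg))
    convert this using 1; push_cast; group⟩
  have hNT : N.subgroupOf S ≤ T := fun n hn g hg => by
    have := N.mul_mem hn (H1.conj_mem_of_le_normalizer hGN hg (N.inv_mem hn))
    convert this using 1; simp [mul_assoc]
  have hsol := isSolvable_quotient_of_ker_le f hQ T fun k hk => hNT (hf k hk)
  have hnt : Nontrivial (S ⧸ T) := by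
    rw [QuotientGroup.nontrivial_iff]
    intro h
    exact hne fun s hs => (h ▸ Subgroup.mem_top (⟨s, hs⟩ : S) : (⟨s, hs⟩ : S) ∈ T)
  obtain ⟨p, hp, hO⟩ := H1.exists_pCore_ne_bot hsol
  have := Fact.mk hp
  obtain ⟨P₀⟩ : Nonempty (Sylow p S) := inferInstance
  have key : ∀ x ∈ pCore p (S ⧸ T), ∃ y ∈ (P₀ : Subgroup S), (y : S ⧸ T) = x := fun x hx =>
    H1.pCore_le_sylow (P₀.mapSurjective (QuotientGroup.mk'_surjective T)) hx
  refine ⟨p, hp, ?_, ((P₀ : Subgroup S) ⊓ (pCore p (S ⧸ T)).comap (QuotientGroup.mk' T)).map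
    S.subtype, Subgroup.map_subtype_le _, (P₀.isPGroup'.to_inf_left).map _, fun h => hO ?_, ?_⟩
  · refine Dvd.dvd.trans ?_ (Subgroup.index_dvd_of_le hNT)
    obtain ⟨k, hk⟩ := IsPGroup.iff_card.mp (H1.isPGroup_pCore p (S ⧸ T))
    refine Dvd.dvd.trans ?_ (Subgroup.card_subgroup_dvd_card (pCore p (S ⧸ T)))
    rw [hk]
    refine dvd_pow_self _ ?_
    rintro rfl
    exact hO (Subgroup.eq_bot_of_card_eq _ (by simpa using hk))
  · rw [eq_bot_iff]
    intro x hx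
    obtain ⟨y, hy, rfl⟩ := key x hx
    exact (QuotientGroup.eq_one_iff y).mpr (h y ⟨y, ⟨hy, hx⟩, rfl⟩)
  · rintro s hs _ ⟨x, ⟨-, hx⟩, rfl⟩
    have h1 : ((⟨s, hs⟩ * x * ⟨s, hs⟩⁻¹ : S) : S ⧸ T) ∈ pCore p (S ⧸ T) :=
      (inferInstance : (pCore p (S ⧸ T)).Normal).conj_mem _ hx ((⟨s, hs⟩ : S) : S ⧸ T)
    obtain ⟨y, hy, h2⟩ := key _ h1
    have h3 := QuotientGroup.eq.mp h2
    generalize hz : (⟨s, hs⟩ * x * ⟨s, hs⟩⁻¹ : S) = z at h1 h2 h3
    refine ⟨y, ⟨y, ⟨hy, show (y : S ⧸ T) ∈ _ from h2 ▸ h1⟩, rfl⟩,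
      (y⁻¹ * z : S), (y⁻¹ * z).2, h3, ?_⟩
    simp [← hz]

theorem le_normalizer_relCent_of_step {P : Subgroup Γ} (hSG : S ≤ Subgroup.normalizer (G : Set Γ))
    (hSN : S ≤ Subgroup.normalizer (N : Set Γ)) (hPS : P ≤ S)
    (hstep : ∀ s ∈ S, ∀ x ∈ P, ∃ y ∈ P, ∃ t ∈ S, (∀ g ∈ G, t * g * t⁻¹ * g⁻¹ ∈ N) ∧
        s * x * s⁻¹ = y * t)
    (hB : ∀ k, k ∈ B ↔ k ∈ G ∧ ∀ x ∈ P, x * k * x⁻¹ * k⁻¹ ∈ N) :
    S ≤ Subgroup.normalizer (B : Set Γ) := by
  rw [Subgroup.le_normalizer_iff]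
  intro s hs b hb
  obtain ⟨h1, h2⟩ := (hB b).mp hb
  refine (hB _).mpr ⟨H1.conj_mem_of_le_normalizer hSG hs h1, fun x hx => ?_⟩
  obtain ⟨y, hy, t, -, h3, h4⟩ := hstep _ (S.inv_mem hs) x hx
  have := H1.conj_mem_of_le_normalizer hSN hs (N.mul_mem
    (H1.conj_mem_of_le_normalizer hSN (hPS hy) (h3 b h1)) (h2 y hy))
  have h5 : x = s * (y * t) * s⁻¹ := by rw [← h4]; group
  convert this using 1; rw [h5]; group

theorem GCorr.fix_iff {p : ℕ} [Fact p.Prime] {P : Subgroup Γ} {h : C ≤ K} (H : GCorr p P h)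
    {χ χ' : IrrCharacter K} {ξ ξ' : IrrCharacter C} (hχ : SInv P χ.1) (hχ' : SInv P χ'.1)
    (hξ : SInv P ξ.1) (hξ' : SInv P ξ'.1) (hn : ¬ p ∣ gmul h χ.1 ξ.1)
    (hn' : ¬ p ∣ gmul h χ'.1 ξ'.1) : χ' = χ ↔ ξ' = ξ := by
  constructor
  · rintro rfl
    obtain ⟨ξ₀, -, -, h1⟩ := H.down _ hχ
    exact (by_contra fun hne => hn' (h1 _ hξ' hne) : ξ' = ξ₀).trans
      (by_contra fun hne => hn (h1 _ hξ hne) : ξ = ξ₀).symm
  · rintro rfl
    obtain ⟨χ₀, -, -, h1⟩ := H.up _ hξ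
    rw [h1 _ hχ hn, h1 _ hχ' hn']

theorem GCorr.card_eq {p : ℕ} [Fact p.Prime] {P : Subgroup Γ} {h : C ≤ K} (H : GCorr p P h)
    (Q : IrrCharacter K → Prop) (R : IrrCharacter C → Prop) (hQ : ∀ χ, Q χ → SInv P χ.1)
    (hR : ∀ ξ, R ξ → SInv P ξ.1)
    (hQR : ∀ χ ξ, SInv P χ.1 → SInv P ξ.1 → ¬ p ∣ gmul h χ.1 ξ.1 → (Q χ ↔ R ξ)) :
    Nat.card {χ // Q χ} = Nat.card {ξ // R ξ} := by
  choose f hf1 hf2 hf3 using H.down
  refine Nat.card_eq_of_bijective (fun χ => ⟨f χ.1 (hQ _ χ.2), (hQR _ _ (hQ _ χ.2) (hf1 _ _)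
    (not_dvd_of_sq_eq_one (hf2 _ _))).mp χ.2⟩) ⟨fun χ χ' e => Subtype.ext ?_, fun ξ => ?_⟩
  · exact (H.fix_iff (hQ _ χ'.2) (hQ _ χ.2) (hf1 _ _) (hf1 _ _) (not_dvd_of_sq_eq_one (hf2 _ _))
      (not_dvd_of_sq_eq_one (hf2 _ _))).mpr (congrArg Subtype.val e)
  · obtain ⟨χ, h1, h2, -⟩ := H.up _ (hR _ ξ.2)
    exact ⟨⟨χ, (hQR _ _ h1 (hR _ ξ.2) h2).mpr ξ.2⟩, Subtype.ext
      ((H.fix_iff h1 h1 (hR _ ξ.2) (hf1 _ _) h2 (not_dvd_of_sq_eq_one (hf2 _ _))).mp rfl)⟩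

/-- invariant characters over invariant characters, solvable operator group -/
theorem exists_sInv_over_of_solvable_left (hSN : S ≤ Subgroup.normalizer (N : Set Γ))
    {Q : Type*} [Group Q] (f : S →* Q) (hQ : Group.IsSolvable Q)
    (hf : ∀ s, f s = 1 → (s : Γ) ∈ N) {θ : IrrCharacter N} (hθ : SInv S θ.1) (n : ℕ) :
    ∀ {G : Subgroup Γ}, Nat.card G = n → S ≤ Subgroup.normalizer (G : Set Γ) →
      G ≤ Subgroup.normalizer (N : Set Γ) → (N.relIndex S).Coprime (N.relIndex G) →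
      ∀ h : N ≤ G, ∃ χ : IrrCharacter G, gmul h χ.1 θ.1 ≠ 0 ∧ SInv S χ.1 := by
  induction n using Nat.strong_induction_on with
  | _ n ih =>
  intro G hn hSG hGN hcop h
  have base : ∀ χ : IrrCharacter G, gmul h χ.1 θ.1 ≠ 0 → ∀ t ∈ S,
      (∀ g ∈ G, t * g * t⁻¹ * g⁻¹ ∈ N) → EInv t χ.1 := fun χ hχ t ht h1 =>
    eInv_of_over h hGN (hSN ht) h1 hcop (pow_relIndex_mem hSN ht) (hθ t ht) hχ
  by_cases hne : ∀ s ∈ S, ∀ g ∈ G, s * g * s⁻¹ * g⁻¹ ∈ N
  · obtain ⟨χ, hχ⟩ := exists_over h θ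
    exact ⟨χ, hχ, fun s hs => base χ hχ s hs (hne s hs)⟩
  obtain ⟨p, hp, hpd, P, hPS, hP, hne', hstep⟩ := exists_step hSG hSN hGN f hQ hf hne
  have := Fact.mk hp
  set B := relCent (P : Set Γ) G N hGN
  have hB : ∀ k, k ∈ B ↔ k ∈ G ∧ ∀ x ∈ P, x * k * x⁻¹ * k⁻¹ ∈ N := fun _ => Iff.rfl
  have hBG : B ≤ G := fun k hk => hk.1
  have hNB : N ≤ B := fun k hk => ⟨h hk, fun x hx =>
    N.mul_mem (H1.conj_mem_of_le_normalizer hSN (hPS hx) hk) (N.inv_mem hk)⟩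
  have hSB := le_normalizer_relCent_of_step hSG hSN hPS hstep hB
  have hlt : B < G := lt_of_le_of_ne hBG fun e => hne' fun x hx g hg =>
    ((hB g).mp (e ▸ hg)).2 x hx
  obtain ⟨ξ, h1, h2⟩ := ih _ (hn ▸ H1.card_lt_of_lt hlt) rfl hSB (hBG.trans hGN)
    (hcop.coprime_dvd_right (Dvd.intro _ (Subgroup.relIndex_mul_relIndex N B G hNB hBG))) hNB
  have H := gCorr_rel hP (hPS.trans hSN) _ rfl (hPS.trans hSG) hGN
    (fun hd => hp.one_lt.ne' (Nat.eq_one_of_dvd_coprimes hcop hpd hd)) hB hBG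
  obtain ⟨χ, h3, h4, h5⟩ := H.up ξ (h2.mono hPS)
  have h6 := gmul_trans_ne_zero hBG hNB (fun h0 => h4 (h0 ▸ dvd_zero p)) h1
  refine ⟨χ, h6, (sInv_iff hSG χ).mpr fun s hs => h5 _ (fun x hx => EInv.cjI _ ?_) ?_⟩
  · obtain ⟨y, hy, t, ht, h7, h8⟩ := hstep s hs x hx
    rw [h8]
    exact EInv.mul (hSG ht) (h3 y hy) (base χ h6 t ht h7)
  · rwa [← (sInv_iff hSB ξ).mp h2 s hs, gmul_cjI]

/-- the Glauberman count for a solvable operator group -/
theorem card_sInv_eq (hsol : Group.IsSolvable S) (n : ℕ) :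
    ∀ {G C : Subgroup Γ}, Nat.card G = n → S ≤ Subgroup.normalizer (G : Set Γ) →
      (Nat.card G).Coprime (Nat.card S) → C = G ⊓ Subgroup.centralizer (S : Set Γ) →
      Nat.card {χ : IrrCharacter G // SInv S χ.1} = Nat.card (IrrCharacter C) := by
  induction n using Nat.strong_induction_on with
  | _ n ih =>
  intro G C hn hSG hcop hC
  by_cases hne : ∀ s ∈ S, ∀ g ∈ G, s * g * s⁻¹ * g⁻¹ ∈ (⊥ : Subgroup Γ)
  · obtain rfl : C = G := by
      rw [hC, inf_eq_left]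
      intro g hg s hs
      have := hne s hs g hg
      rwa [Subgroup.mem_bot, mul_inv_eq_one, mul_inv_eq_iff_eq_mul] at this
    exact Nat.card_congr (Equiv.subtypeUnivEquiv fun χ s hs => eInv_of_comm (hne s hs) _)
  have hb : ∀ X : Subgroup Γ, X ≤ Subgroup.normalizer ((⊥ : Subgroup Γ) : Set Γ) := fun X => by
    rw [Subgroup.normalizer_eq_top]; exact le_top
  obtain ⟨p, hp, hpd, P, hPS, hP, hne', hstep⟩ := exists_step hSG (hb S) (hb G)
    (MonoidHom.id S) hsol (fun s hs => by rw [show s = 1 from hs]; simp) hne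
  have := Fact.mk hp
  set B := relCent (P : Set Γ) G ⊥ (hb G)
  have hB : ∀ k, k ∈ B ↔ k ∈ G ∧ ∀ x ∈ P, x * k * x⁻¹ * k⁻¹ ∈ (⊥ : Subgroup Γ) :=
    fun _ => Iff.rfl
  have hBG : B ≤ G := fun k hk => hk.1
  have hSB := le_normalizer_relCent_of_step hSG (hb S) hPS hstep hB
  have hlt : B < G := lt_of_le_of_ne hBG fun e => hne' fun x hx g hg =>
    ((hB g).mp (e ▸ hg)).2 x hx
  rw [Subgroup.relIndex_bot_left] at hpd
  have H := gCorr_rel hP (hb P) _ rfl (hPS.trans hSG) (hb G)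
    (fun hd => hp.one_lt.ne' (Nat.eq_one_of_dvd_coprimes hcop
      (by rwa [Subgroup.relIndex_bot_left] at hd) hpd)) hB hBG
  rw [← ih _ (hn ▸ H1.card_lt_of_lt hlt) rfl hSB
    (hcop.coprime_dvd_left (Subgroup.card_dvd_of_le hBG)) (C := C) ?_]
  · refine H.card_eq _ _ (fun χ h => h.mono hPS) (fun χ h => h.mono hPS) fun χ ξ h1 h2 h3 => ?_
    rw [sInv_iff hSG, sInv_iff hSB]
    refine forall₂_congr fun s hs => H.fix_iff h1 (fun x hx => EInv.cjI _ ?_) h2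
      (fun x hx => eInv_of_comm (fun k hk => ((hB k).mp hk).2 x hx) _) h3 (by rwa [gmul_cjI])
    obtain ⟨y, hy, t, ht, h7, h8⟩ := hstep s hs x hx
    rw [h8]
    exact EInv.mul (hSG ht) (h1 y hy) (eInv_of_comm h7 _)
  · rw [hC]
    refine le_antisymm (fun g hg => ⟨⟨hg.1, fun x hx => ?_⟩, hg.2⟩) (inf_le_inf_right _ hBG)
    rw [hg.2 x (hPS hx)]; simp

omit [Finite Γ] in
theorem coprime_card_of_pow_eq_one {M : Type*} [Group M] [Finite M] {m n : ℕ}
    (h : ∀ x : M, x ^ n = 1) (hm : m.Coprime n) : m.Coprime (Nat.card M) := by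
  refine Nat.coprime_of_dvd fun q hq h1 h2 => ?_
  have := Fact.mk hq
  obtain ⟨x, hx⟩ := exists_prime_orderOf_dvd_card' q h2
  exact hq.one_lt.ne' (Nat.eq_one_of_dvd_coprimes hm h1 (hx ▸ orderOf_dvd_of_pow_eq_one (h x)))

/-- the permutation representation on irreducible characters -/
def permIrr (hS : S ≤ Subgroup.normalizer (K : Set Γ)) : S →* Equiv.Perm (IrrCharacter K) :=
  @MulAction.toPermHom S (IrrCharacter K) _ (actIrr hS)

omit [Finite Γ] in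
theorem permIrr_apply (hS : S ≤ Subgroup.normalizer (K : Set Γ)) (s : S) (χ : IrrCharacter K) :
    permIrr hS s χ = cjI (hS (S.inv_mem s.2)) χ := rfl

omit [Finite Γ] in
theorem permIrr_eq_one (hS : S ≤ Subgroup.normalizer (K : Set Γ)) {s : S} (hs : (s : Γ) ∈ K) :
    permIrr hS s = 1 := Equiv.ext fun χ => cjI_of_mem (K.inv_mem hs) _ χ

omit [Finite Γ] in
theorem sInv_of_permIrr (hS : S ≤ Subgroup.normalizer (K : Set Γ)) {χ : IrrCharacter K}
    (h : ∀ s, permIrr hS s χ = χ) : SInv S χ.1 :=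
  (sInv_iff hS χ).mpr fun x hx => by
    have h1 : cjI (hS (S.inv_mem (S.inv_mem hx))) χ = χ := h ⟨x⁻¹, S.inv_mem hx⟩
    simpa using h1

/-- Glauberman's lemma for constituents of restrictions -/
theorem exists_sInv_under (hSG : S ≤ Subgroup.normalizer (G : Set Γ))
    (hSN : S ≤ Subgroup.normalizer (N : Set Γ)) (hGN : G ≤ Subgroup.normalizer (N : Set Γ))
    (hcop : (N.relIndex S).Coprime (N.relIndex G))
    (hsol : Group.IsSolvable (permIrr hSN).range ∨ Group.IsSolvable (permIrr hGN).range)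
    (h : N ≤ G) {χ : IrrCharacter G} (hχ : SInv S χ.1) :
    ∃ θ : IrrCharacter N, gmul h χ.1 θ.1 ≠ 0 ∧ SInv S θ.1 := by
  obtain ⟨θ, hθ⟩ := exists_under h χ
  obtain ⟨k, hk⟩ := exists_fixed_of_actions (permIrr hSN) (permIrr hGN) (fun u k =>
    ⟨⟨_, H1.conj_mem_of_le_normalizer hSG u.2 k.2⟩, by
      rw [← map_inv]
      exact Equiv.ext fun ξ => Subtype.ext (funext fun n => congrArg ξ.1 (Subtype.ext (by
        simp [mul_assoc])))⟩)
    ((hcop.coprime_dvd_left (card_range_dvd_index _ (N.subgroupOf S)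
      fun n hn => permIrr_eq_one _ hn)).coprime_dvd_right (card_range_dvd_index _ (N.subgroupOf G)
      fun n hn => permIrr_eq_one _ hn)) hsol θ (fun u => by
      obtain ⟨k, hk, h1⟩ := exists_cjI_eq h hGN hθ (θ' := permIrr hSN u θ) (by
        rwa [permIrr_apply, ← (sInv_iff hSG χ).mp hχ _ (S.inv_mem u.2), gmul_cjI])
      refine ⟨⟨k⁻¹, G.inv_mem hk⟩, ?_⟩
      rw [← h1, permIrr_apply]; simp)
  exact ⟨_, by rwa [permIrr_apply, gmul_cjI_right h hGN _ _ (G.inv_mem k.2)],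
    sInv_of_permIrr hSN hk⟩

/-- linear characters trivial on `N` -/
def linTriv (N G : Subgroup Γ) : Subgroup (G →* ℂˣ) where
  carrier := {lam | ∀ n : G, (n : Γ) ∈ N → lam n = 1}
  one_mem' _ _ := rfl
  mul_mem' {a b} ha hb n hn := by simp [ha n hn, hb n hn]
  inv_mem' {a} ha n hn := by simp [ha n hn]

/-- multiplication of irreducible characters by linear characters -/
def permLin (N G : Subgroup Γ) : linTriv N G →* Equiv.Perm (IrrCharacter G) :=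
  @MulAction.toPermHom _ _ _
    { smul := fun lam χ => ⟨χ.1 * fun g => (lam.1 g : ℂ), χ.2.mul_linear _⟩
      one_smul := fun χ => Subtype.ext (funext fun g => by
        change χ.1 g * ((1 : ℂˣ) : ℂ) = _; simp)
      mul_smul := fun a b χ => Subtype.ext (funext fun g => by
        change χ.1 g * ((a.1 g * b.1 g : ℂˣ) : ℂ) = χ.1 g * b.1 g * a.1 g
        push_cast; ring) }

theorem permLin_apply (lam : linTriv N G) (χ : IrrCharacter G) (g : G) :
    (permLin N G lam χ).1 g = χ.1 g * lam.1 g := rfl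

theorem exists_sInv_over_of_ab (hSG : S ≤ Subgroup.normalizer (G : Set Γ))
    (hSN : S ≤ Subgroup.normalizer (N : Set Γ)) (hGN : G ≤ Subgroup.normalizer (N : Set Γ))
    (hcop : (G.relIndex S).Coprime (N.relIndex G)) (hab : ∀ a ∈ G, ∀ b ∈ G, a * b * a⁻¹ * b⁻¹ ∈ N)
    (h : N ≤ G) {θ : IrrCharacter N} (hθ : SInv S θ.1) :
    ∃ χ : IrrCharacter G, gmul h χ.1 θ.1 ≠ 0 ∧ SInv S χ.1 := by
  obtain ⟨χ, hχ⟩ := exists_over h θ
  have := Subgroup.normal_subgroupOf_of_le_normalizer hGN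
  obtain ⟨k, hk⟩ := exists_fixed_of_actions (permIrr hSG) (permLin N G) (fun u k =>
    ⟨⟨k.1.comp (cjE (hSG (S.inv_mem u.2))).toMonoidHom, fun n hn =>
      k.2 _ (H1.conj_mem_of_le_normalizer hSN (S.inv_mem u.2) hn)⟩, by
      rw [← map_inv]
      refine Equiv.ext fun ξ => Subtype.ext (funext fun n => ?_)
      change ξ.1 n * _ = ξ.1 (cjE (hSG (S.inv_mem (S.inv_mem u.2)))
        (cjE (hSG (S.inv_mem u.2)) n)) * _
      rw [show cjE (hSG (S.inv_mem (S.inv_mem u.2))) (cjE (hSG (S.inv_mem u.2)) n) = n from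
        Subtype.ext (by simp [mul_assoc])]
      rfl⟩)
    (coprime_card_of_pow_eq_one (n := N.relIndex G) (by
        rintro ⟨_, lam, rfl⟩
        refine Subtype.ext ?_
        rw [SubgroupClass.coe_pow, ← map_pow, show lam ^ N.relIndex G = 1 from
          Subtype.ext (linear_pow_index lam.1 (N.subgroupOf G) lam.2), map_one]
        rfl)
      (hcop.coprime_dvd_left (card_range_dvd_index _ (G.subgroupOf S)
        fun s hs => permIrr_eq_one _ hs)))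
    (Or.inr (isSolvable_range_of_ker_le (MonoidHom.id _) inferInstance _
      fun k hk => by rw [show k = 1 from hk, map_one])) χ (fun u => by
      obtain ⟨lam, h1, h2⟩ := exists_linear_mul' h hGN hab hχ (ψ := permIrr hSG u χ) (by
        rwa [permIrr_apply, ← (sInv_iff hSN θ).mp hθ _ (S.inv_mem u.2), gmul_cjI])
      exact ⟨⟨lam, h1⟩, Subtype.ext (funext fun g => by rw [h2, permLin_apply, mul_comm])⟩)
  refine ⟨_, ?_, sInv_of_permIrr hSG hk⟩
  convert hχ using 1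
  unfold gmul
  congr 1
  ext n
  rw [permLin_apply, k.2 _ n.2]; simp

/-- invariant characters over invariant characters, solvable quotient -/
theorem exists_sInv_over_of_solvable_right (hSN : S ≤ Subgroup.normalizer (N : Set Γ))
    {θ : IrrCharacter N} (hθ : SInv S θ.1) {Q : Type*} [Group Q] (hQ : Group.IsSolvable Q)
    (n : ℕ) : ∀ {G : Subgroup Γ}, Nat.card G = n → S ≤ Subgroup.normalizer (G : Set Γ) →
      G ≤ Subgroup.normalizer (N : Set Γ) → (N.relIndex S).Coprime (N.relIndex G) →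
      ∀ f : G →* Q, (∀ g, f g = 1 → (g : Γ) ∈ N) →
      ∀ h : N ≤ G, ∃ χ : IrrCharacter G, gmul h χ.1 θ.1 ≠ 0 ∧ SInv S χ.1 := by
  classical
  induction n using Nat.strong_induction_on with
  | _ n ih =>
  intro G hn hSG hGN hcop f hf h
  rcases h.eq_or_lt with rfl | hlt
  · exact ⟨θ, by simp [gmul_refl], hθ⟩
  set M := N ⊔ ⁅G, G⁆
  have hNM : N ≤ M := le_sup_left
  have hMG : M ≤ G := sup_le h (H1.commutator_le_left_of_le_normalizer Subgroup.le_normalizer)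
  have := Subgroup.normal_subgroupOf_of_le_normalizer hGN
  have hlt' : M < G := by
    refine lt_of_le_of_ne hMG fun e => ?_
    have hsol := isSolvable_quotient_of_ker_le f hQ (N.subgroupOf G) hf
    have hnt : Nontrivial (G ⧸ N.subgroupOf G) := by
      rw [QuotientGroup.nontrivial_iff, Ne, Subgroup.subgroupOf_eq_top]
      exact hlt.not_ge
    refine (Group.IsSolvable.commutator_lt_top_of_nontrivial (G ⧸ N.subgroupOf G)).ne ?_
    have h1 : M ≤ ((commutator (G ⧸ N.subgroupOf G)).comap (QuotientGroup.mk' _)).map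
        G.subtype := by
      refine sup_le (fun x hx => ⟨⟨x, h hx⟩, ?_, rfl⟩) (Subgroup.commutator_le.mpr
        fun a ha b hb => ⟨⁅(⟨a, ha⟩ : G), ⟨b, hb⟩⁆, ?_, rfl⟩)
      · have : QuotientGroup.mk' (N.subgroupOf G) ⟨x, h hx⟩ = 1 :=
          (QuotientGroup.eq_one_iff _).mpr hx
        rw [SetLike.mem_coe, Subgroup.mem_comap, this]; exact one_mem _
      · rw [SetLike.mem_coe, Subgroup.mem_comap, map_commutatorElement]
        exact Subgroup.commutator_mem_commutator (Subgroup.mem_top _) (Subgroup.mem_top _)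
    rw [eq_top_iff]
    intro x _
    obtain ⟨x, rfl⟩ := QuotientGroup.mk_surjective x
    obtain ⟨y, hy, h2⟩ := h1 (e.ge x.2)
    rwa [← show y = x from Subtype.ext h2]
  have hSM : S ≤ Subgroup.normalizer (M : Set Γ) :=
    H1.le_normalizer_sup hSN (H1.le_normalizer_commutator hSG hSG)
  have hi := Subgroup.relIndex_mul_relIndex N M G hNM hMG
  obtain ⟨ξ, h1, h2⟩ := ih _ (hn ▸ H1.card_lt_of_lt hlt') rfl hSM (hMG.trans hGN)
    (hcop.coprime_dvd_right (Dvd.intro _ hi)) (f.comp (Subgroup.inclusion hMG))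
    (fun g hg => hf _ hg) hNM
  obtain ⟨χ, h3, h4⟩ := exists_sInv_over_of_ab hSG hSM (H1.le_normalizer_sup hGN
    (H1.le_normalizer_commutator Subgroup.le_normalizer Subgroup.le_normalizer))
    ((hcop.coprime_dvd_right (Dvd.intro_left _ hi)).coprime_dvd_left
      (Subgroup.relIndex_dvd_of_le_left S h))
    (fun a ha b hb => (le_sup_right : _ ≤ M) (Subgroup.commutator_mem_commutator ha hb)) hMG h2
  exact ⟨χ, gmul_trans_ne_zero hMG hNM h3 h1, h4⟩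

theorem exists_conj_mem_centralizer (hSG : S ≤ Subgroup.normalizer (G : Set Γ))
    (hcop : (Nat.card S).Coprime (Nat.card G)) (hsol : Group.IsSolvable S ∨ Group.IsSolvable G)
    {g : Γ} (h : ∀ s ∈ S, ∃ n ∈ G, n * g * n⁻¹ = s * g * s⁻¹) :
    ∃ n ∈ G, n * g * n⁻¹ ∈ Subgroup.centralizer (S : Set Γ) := by
  let _ : MulAction Γ Γ := MulAction.compHom Γ (MulAut.conj : Γ →* MulAut Γ)
  obtain ⟨n, hn, h1⟩ := H1.exists_fixed_in_orbit (X := Γ) hSG hcop hsol g h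
  exact ⟨n, hn, fun s hs => mul_inv_eq_iff_eq_mul.mp (h1 s hs)⟩

theorem exists_centralizer_conj_eq (hSG : S ≤ Subgroup.normalizer (G : Set Γ))
    (hcop : (Nat.card S).Coprime (Nat.card G)) (hsol : Group.IsSolvable S ∨ Group.IsSolvable G)
    {c n : Γ} (hn : n ∈ G) (hc : c ∈ Subgroup.centralizer (S : Set Γ))
    (hc' : n * c * n⁻¹ ∈ Subgroup.centralizer (S : Set Γ)) :
    ∃ d ∈ G ⊓ Subgroup.centralizer (S : Set Γ), d * c * d⁻¹ = n * c * n⁻¹ := by
  let _ : MulAction Γ Γ := MulAction.compHom Γ (MulAut.conj : Γ →* MulAut Γ)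
  exact H1.exists_centralizer_smul_eq (X := Γ) hSG hcop hsol hn
    (fun s hs => mul_inv_eq_iff_eq_mul.mpr (hc s hs))
    (fun s hs => mul_inv_eq_iff_eq_mul.mpr (hc' s hs))

theorem isConj_iff_of_centralizer (hSG : S ≤ Subgroup.normalizer (G : Set Γ))
    (hcop : (Nat.card S).Coprime (Nat.card G)) (hsol : Group.IsSolvable S ∨ Group.IsSolvable G)
    (hC : C = G ⊓ Subgroup.centralizer (S : Set Γ)) (h : C ≤ G) {a b : C} :
    IsConj (Subgroup.inclusion h a) (Subgroup.inclusion h b) ↔ IsConj a b := by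
  refine ⟨fun h1 => ?_, fun h1 => (Subgroup.inclusion h).map_isConj h1⟩
  obtain ⟨n, hn⟩ := isConj_iff.mp h1
  have h2 : (n : Γ) * a * (n : Γ)⁻¹ = b := congrArg Subtype.val hn
  subst hC
  obtain ⟨d, hd, h3⟩ := exists_centralizer_conj_eq hSG hcop hsol n.2 a.2.2 (h2 ▸ b.2.2)
  exact isConj_iff.mpr ⟨⟨d, hd⟩, Subtype.ext (h3.trans h2)⟩

/-- invariant classes correspond to classes of the centralizer -/
theorem card_inv_classes_eq (hSG : S ≤ Subgroup.normalizer (G : Set Γ))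
    (hcop : (Nat.card S).Coprime (Nat.card G)) (hsol : Group.IsSolvable S ∨ Group.IsSolvable G)
    (hC : C = G ⊓ Subgroup.centralizer (S : Set Γ)) (h : C ≤ G) (Q : ConjClasses G → Prop)
    (R : ConjClasses C → Prop) (hQ : ∀ K, Q K → ∀ s ∈ S, ∀ g g' : G, (g' : Γ) = s * g * s⁻¹ →
      ConjClasses.mk g = K → ConjClasses.mk g' = K)
    (hQR : ∀ c : C, Q (ConjClasses.mk (Subgroup.inclusion h c)) ↔ R (ConjClasses.mk c)) :
    Nat.card {K // Q K} = Nat.card {K // R K} := by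
  have key : ∀ K, R K → Q (ConjClasses.map (Subgroup.inclusion h) K) := fun K hK => by
    obtain ⟨c, rfl⟩ := ConjClasses.mk_surjective K
    exact (hQR c).mpr hK
  refine (Nat.card_eq_of_bijective (fun K : {K // R K} =>
    (⟨ConjClasses.map (Subgroup.inclusion h) K.1, key _ K.2⟩ : {K // Q K}))
    ⟨fun K K' e => Subtype.ext ?_, fun K => ?_⟩).symm
  · obtain ⟨K, hK⟩ := K
    obtain ⟨K', hK'⟩ := K'
    obtain ⟨c, rfl⟩ := ConjClasses.mk_surjective K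
    obtain ⟨c', rfl⟩ := ConjClasses.mk_surjective K'
    exact ConjClasses.mk_eq_mk_iff_isConj.mpr ((isConj_iff_of_centralizer hSG hcop hsol hC h).mp
      (ConjClasses.mk_eq_mk_iff_isConj.mp (congrArg Subtype.val e)))
  · obtain ⟨K, hK⟩ := K
    obtain ⟨g, rfl⟩ := ConjClasses.mk_surjective K
    obtain ⟨n, hn, h1⟩ := exists_conj_mem_centralizer hSG hcop hsol (g := g) fun s hs => by
      obtain ⟨n, hn⟩ := isConj_iff.mp (ConjClasses.mk_eq_mk_iff_isConj.mp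
        (hQ _ hK s hs g (cjE (hSG hs) g) rfl rfl).symm)
      exact ⟨n, n.2, congrArg Subtype.val hn⟩
    have h2 : n * g * n⁻¹ ∈ C := hC ▸ ⟨G.mul_mem (G.mul_mem hn g.2) (G.inv_mem hn), h1⟩
    have h3 : ConjClasses.mk (Subgroup.inclusion h ⟨_, h2⟩) = ConjClasses.mk g :=
      ConjClasses.mk_eq_mk_iff_isConj.mpr (isConj_iff.mpr ⟨(⟨n, hn⟩ : G), rfl⟩).symm
    exact ⟨⟨ConjClasses.mk ⟨_, h2⟩, (hQR _).mp (h3 ▸ hK)⟩, Subtype.ext h3⟩

theorem inv_class_of_mem_centralizer (hSG : S ≤ Subgroup.normalizer (G : Set Γ)) {c : G}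
    (hc : (c : Γ) ∈ Subgroup.centralizer (S : Set Γ)) {s : Γ} (hs : s ∈ S) {g g' : G}
    (hg : (g' : Γ) = s * g * s⁻¹) (h : ConjClasses.mk g = ConjClasses.mk c) :
    ConjClasses.mk g' = ConjClasses.mk c := by
  obtain ⟨n, hn⟩ := isConj_iff.mp (ConjClasses.mk_eq_mk_iff_isConj.mp h)
  refine ConjClasses.mk_eq_mk_iff_isConj.mpr (isConj_iff.mpr ⟨cjE (hSG hs) n, Subtype.ext ?_⟩)
  have h1 : (n : Γ) * g * (n : Γ)⁻¹ = c := congrArg Subtype.val hn
  have h2 : s * c * s⁻¹ = c := mul_inv_eq_iff_eq_mul.mpr (hc s hs)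
  rw [← h2, ← h1]; simp [hg, mul_assoc]

end Amb

end Cfsg.Agent.H8
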