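import Mathlib
import Cfsg.Agent.H8.Glaub3
import Cfsg.Agent.H21.CharAct

/-!
# Canonical extensions and the Glauberman correspondence for cyclic operator groups
-/

namespace Cfsg.Agent.H8

open Cfsg Cfsg.Agent.H4 Cfsg.Agent.H5
open scoped ComplexConjugate commutatorElement

theorem detHom_map_ringHom {G : Type*} [Group G] [Finite G] {χ : G → ℂ} (h : IsCharacter G χ)
    (σ : ℂ →+* ℂ) (g : G) : (detHom (fun g => σ (χ g)) g : ℂ) = σ (detHom χ g) := by
  obtain ⟨n, ρ, rfl⟩ := h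
  rw [← funext (repMap_character ρ σ), detHom_character, detHom_character]
  rw [show repMap ρ σ g = Matrix.toLin' ((LinearMap.toMatrix' (ρ g)).map σ) from rfl,
    LinearMap.det_toLin', ← LinearMap.det_toMatrix', RingHom.map_det]; rfl

theorem detHom_comp_pow {G : Type*} [Group G] [Finite G] {χ : G → ℂ} (h : IsCharacter G χ)
    {m : ℕ} (hm : m.Coprime (Nat.card G)) : detHom (fun g => χ (g ^ m)) = detHom χ ^ m := by
  obtain ⟨σ, hσ⟩ := exists_ringEquiv_char_pow (G := G) hm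
  ext g
  have := detHom_map_ringHom h (σ : ℂ →+* ℂ) g
  simp only [RingHom.coe_coe, hσ _ h.isGen, hσ _ (isCharacter_linear (detHom χ)).isGen] at this
  rw [this]; simp

/-- Galois invariance of the canonical extension -/
theorem canon_pow {K Γ : Type*} [Group K] [Group Γ] [Finite Γ] (E : NEmb K Γ)
    (hcop : E.f.range.index.Coprime (Nat.card K)) {χ : Γ → ℂ} (hχ : IsCharacter Γ χ)
    (hirr : IsIrrCharacter K fun k => χ (E.f k)) (hdet : E.f.range.index.Coprime (detOrder χ))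
    {m : ℕ} (hm : m.Coprime E.f.range.index) (hm1 : m ≡ 1 [MOD Nat.card K]) (g : Γ) :
    χ (g ^ m) = χ g := by
  have := E.finite
  have hm' : m.Coprime (Nat.card Γ) := by
    rw [← E.card_mul_index]
    exact Nat.Coprime.mul_right (Nat.coprime_of_mul_modEq_one 1 (by simpa using hm1)) hm
  refine congrFun (E.canonical_ext_unique hirr hirr.isCharacter.charDegree_cast.symm
    (hcop.coprime_dvd_right hirr.charDegree_dvd_card) (hχ.comp_pow hm') hχ (fun k => ?_)
    (fun _ => rfl) ?_ hdet) g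
  · rw [← map_pow, pow_eq_pow_of_modEq hm1 pow_card_eq_one', pow_one]
  · rw [detOrder_eq, detHom_comp_pow hχ hm']
    exact hdet.coprime_dvd_right (detOrder_eq χ ▸ orderOf_pow_dvd m)

theorem apply_pow_ne_zero_of_norm_eq_one {G : Type*} [Group G] [Finite G] {η : G → ℂ}
    (hη : IsCharacter G η) {y : G} (h : ‖η y‖ = 1) {r : ℕ} (hr : r.Prime) : η (y ^ r) ≠ 0 := by
  intro h0
  obtain ⟨M, hM⟩ := H6.exists_isPModular hr
  have := hM.2.1
  have h2 := redC_char_pow hM (hη.mul hη.conj) y 1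
  simp [h0, Complex.mul_conj, Complex.normSq_eq_norm_sq, h] at h2

theorem exists_of_sum_sq {ι : Type*} [Fintype ι] [Nonempty ι] (n : ι → ℕ)
    (h2 : Fintype.card ι * ∑ i, n i * n i + 1 = (∑ i, n i) ^ 2 + Fintype.card ι) :
    ∃ (a : ℕ) (i₀ : ι) (ε : ℤ), (ε = 1 ∨ ε = -1) ∧ (n i₀ : ℤ) = a + ε ∧ ∀ i, i ≠ i₀ → n i = a := by
  have h0 : 0 < Fintype.card ι := Fintype.card_pos
  obtain ⟨a, ha⟩ : ∃ a : ℕ, (((∑ i, n i : ℕ) : ℤ) - Fintype.card ι * a) ^ 2 = 1 := by
    rcases H21.dvd_of_sum_sq n rfl h0 rfl h2 with ⟨a, ha⟩ | ⟨a, ha⟩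
    · exact ⟨a, by rw [← Nat.cast_mul, ← ha]; push_cast; ring⟩
    · rcases Nat.eq_zero_or_pos (∑ i, n i) with h3 | h3
      · rw [h3] at h2 ⊢
        have h4 : Fintype.card ι ∣ 1 :=
          (Nat.dvd_add_right (dvd_mul_right _ (∑ i, n i * n i))).mp (by rw [h2]; simp)
        exact ⟨1, by rw [Nat.dvd_one.mp h4]; simp⟩
      · exact ⟨a, by rw [← Nat.cast_mul, ← ha, Nat.cast_sub h3]; simp⟩
  have h3 : ∑ i, ((n i : ℤ) - a) * ((n i : ℤ) - a) = 1 := by
    have h4 : ∑ i, ((n i : ℤ) - a) * ((n i : ℤ) - a) =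
        (∑ i, n i * n i : ℕ) - 2 * a * (∑ i, n i : ℕ) + Fintype.card ι * (a * a) := by
      push_cast
      rw [Finset.mul_sum, ← Finset.sum_sub_distrib, ← nsmul_eq_mul, ← Finset.card_univ,
        ← Finset.sum_const, ← Finset.sum_add_distrib]
      exact Finset.sum_congr rfl fun i _ => by ring
    have h5 : (Fintype.card ι : ℤ) * (∑ i, n i * n i : ℕ) + 1 =
        (∑ i, n i : ℕ) ^ 2 + Fintype.card ι := by exact_mod_cast h2
    have h6 : (Fintype.card ι : ℤ) ≠ 0 := by exact_mod_cast h0.ne'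
    apply mul_left_cancel₀ h6
    rw [h4]
    linear_combination h5 + ha
  obtain ⟨i₀, h4, h5⟩ := exists_of_sum_mul_self_eq_one _ h3
  exact ⟨a, i₀, n i₀ - a, h4, by ring, fun i hi => by exact_mod_cast sub_eq_zero.mp (h5 i hi)⟩

theorem exists_reg_add_linear {S : Type*} [Group S] [Finite S] (hS : ∀ a b : S, a * b = b * a)
    {η : S → ℂ} (hη : IsCharacter S η) (h : ∀ x, x ≠ 1 → ‖η x‖ = 1) :
    ∃ (a : ℕ) (ε : ℤ) (μ : S →* ℂˣ), (ε = 1 ∨ ε = -1) ∧
      ∀ x, η x = a * regChar S x + ε * (μ x : ℂ) := by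
  classical
  have := Fintype.ofFinite S
  obtain ⟨n, hn⟩ := isCharacter_iff_exists_nat.1 hη
  have hc : Fintype.card (IrrCharacter S) = Nat.card S := by
    rw [← Nat.card_eq_fintype_card, card_irr_of_comm hS]
  have hd : ∀ ψ : IrrCharacter S, ψ.1 1 = 1 := fun ψ => ψ.2.apply_one_eq_one_of_comm hS
  have h1 : η 1 = (∑ ψ, n ψ : ℕ) := by
    rw [hn]; simp [hd]
  obtain ⟨a, ψ₀, ε, h3, h4, h5⟩ := exists_of_sum_sq n (by
    have h2 := card_mul_classInner (φ := η) (ψ := η)
    rw [← Finset.add_sum_erase _ _ (Finset.mem_univ 1), Finset.sum_congr rfl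
      (g := fun _ => (1 : ℂ)) fun r hr => by
        rw [Complex.mul_conj', h r (Finset.ne_of_mem_erase hr)]; simp,
      Finset.sum_const, Finset.card_erase_of_mem (Finset.mem_univ _), Finset.card_univ,
      ← Nat.card_eq_fintype_card, h1, hn, classInner_sum_irr] at h2
    simp only [map_natCast, nsmul_eq_mul, mul_one] at h2
    rw [Nat.cast_pred Nat.card_pos] at h2
    rw [hc]
    apply Nat.cast_injective (R := ℂ)
    push_cast at h2 ⊢
    rw [h2]; ring)
  obtain ⟨μ, hμ⟩ := ψ₀.2.exists_linear_of_comm hS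
  refine ⟨a, ε, μ, h3, fun x => ?_⟩
  rw [hn, regChar_eq_sum, ← congrFun hμ x]
  simp only [Finset.sum_apply, Pi.smul_apply, smul_eq_mul, hd, one_mul]
  rw [← Finset.add_sum_erase _ _ (Finset.mem_univ ψ₀),
    ← Finset.add_sum_erase _ _ (Finset.mem_univ ψ₀), Finset.sum_congr rfl
      fun ψ hψ => by rw [h5 ψ (Finset.ne_of_mem_erase hψ)], ← Finset.mul_sum,
    show (n ψ₀ : ℂ) = a + ε by exact_mod_cast h4]
  ring

theorem exists_nat_of_vanish {S : Type*} [Group S] [Finite S] {η : S → ℂ}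
    (hη : IsCharacter S η) (h : ∀ x, x ≠ 1 → η x = 0) : ∃ a : ℕ, η 1 = Nat.card S * a := by
  have := Fintype.ofFinite S
  obtain ⟨a, ha⟩ := hη.classInner_nat isCharacter_one
  refine ⟨a, ?_⟩
  rw [← ha, card_mul_classInner, Finset.sum_eq_single 1 (fun x _ hx => by simp [h x hx])
    (by simp)]
  simp

theorem exists_eq_mul_of_res {N L : Type*} [Group N] [Group L] [Finite L] (E : NEmb N L)
    {F φ : L → ℂ} (hF : IsCharacter L F) (hφ : IsCharacter L φ)
    (hirr : IsIrrCharacter N fun n => φ (E.f n)) {e : ℂ} (h : ∀ n, F (E.f n) = e * φ (E.f n)) :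
    ∃ η : L ⧸ E.f.range → ℂ, IsCharacter _ η ∧ ∀ l, F l = η l * φ l := by
  have := E.finite
  have := Fintype.ofFinite L
  have := Fintype.ofFinite N
  have key : ∀ ψ : IrrCharacter L, ∃ b : L ⧸ E.f.range → ℂ, IsCharacter _ b ∧
      (classInner F ψ.1 ≠ 0 → ∀ l, ψ.1 l = b l * φ l) := by
    intro ψ
    by_cases h0 : classInner F ψ.1 = 0
    · exact ⟨0, isCharacter_zero, fun h => absurd h0 h⟩
    obtain ⟨θ, hθ, h1⟩ := exists_irr_under_hom E.f ψ.2
    have h2 := inner_comp_ne_zero_of_constituent E.f hF ψ.2 h0 hθ.isCharacter h1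
    rw [show (fun n => F (E.f n)) = e • fun n => φ (E.f n) from funext h,
      classInner_smul_left] at h2
    obtain rfl := hirr.eq_of_classInner_ne_zero hθ (right_ne_zero_of_mul h2)
    obtain ⟨β, h3, h4, h5⟩ := E.gallagher_surj hirr hφ (fun _ => rfl) ψ.2 h1
    have h6 : E.f.range ≤ charKer β := by
      rintro _ ⟨n, rfl⟩
      exact h3.isCharacter.mem_charKer.mpr (h4 n)
    exact ⟨deflate _ β, h3.isCharacter.deflate h6, fun _ l => by
      rw [deflate_mk h6, ← h5]; rfl⟩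
  choose b hb1 hb2 using key
  refine ⟨∑ ψ : IrrCharacter L, (nin F ψ.1 : ℂ) • b ψ,
    isCharacter_sum _ _ fun ψ _ => (hb1 ψ).natCast_smul _, fun l => ?_⟩
  rw [hF.isClassFunction.apply_eq_sum l, Finset.sum_apply, Finset.sum_mul]
  refine Finset.sum_congr rfl fun ψ _ => ?_
  rw [Pi.smul_apply, nin_cast hF ψ.2.isCharacter, smul_eq_mul]
  by_cases h0 : classInner F ψ.1 = 0
  · simp [h0]
  · rw [hb2 ψ h0, mul_assoc]

theorem card_real_irr (G : Type*) [Group G] [Finite G] :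
    Nat.card {χ : IrrCharacter G // ∀ g, (χ.1 g).im = 0} =
      Nat.card {c : ConjClasses G // ∀ k, ConjClasses.mk k = c → IsConj k k⁻¹} := by
  rw [← brauer_permutation (fun χ => ⟨_, χ.2.conj⟩) (fun g => g⁻¹)
    (fun χ g => (χ.2.isCharacter.apply_inv g).symm) _ fun g => ?_]
  · refine Nat.card_congr (Equiv.subtypeEquivRight fun χ => ?_)
    rw [← eq_conj_iff_forall_im, Subtype.ext_iff, eq_comm]
  · refine ⟨fun h => (h g rfl).symm, fun h k hk => ?_⟩
    have h1 := ConjClasses.mk_eq_mk_iff_isConj.mp hk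
    obtain ⟨c, rfl⟩ := isConj_iff.mp h1
    exact (h1.trans h.symm).trans (isConj_iff.mpr ⟨c⁻¹, by group⟩)

/-- characters of degree coprime to the index of a normal Hall subgroup -/
theorem card_coprime_deg {K G : Type*} [Group K] [Group G] [Finite G] (E : NEmb K G)
    (hcop : E.f.range.index.Coprime (Nat.card K)) :
    Nat.card {χ : IrrCharacter G // (charDegree χ.1).Coprime E.f.range.index} =
      Nat.card {θ : IrrCharacter K // ∀ g n, θ.1 (E.act g n) = θ.1 n} *
        Nat.card (G ⧸ E.f.range →* ℂˣ) := by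
  have := E.finite
  have := Fintype.ofFinite G
  have := Fintype.ofFinite K
  choose ext h1 h2 h3 using fun θ : {θ : IrrCharacter K // ∀ g n, θ.1 (E.act g n) = θ.1 n} =>
    E.exists_ext_of_coprime θ.1.2 θ.2 hcop
  have h4 : ∀ (lam : G ⧸ E.f.range →* ℂˣ) (n : K), lam (E.f n) = 1 := fun lam n => by
    rw [(QuotientGroup.eq_one_iff (N := E.f.range) (E.f n)).mpr ⟨n, rfl⟩, map_one]
  rw [← Nat.card_prod]
  refine (Nat.card_eq_of_bijective (fun x : _ × (G ⧸ E.f.range →* ℂˣ) =>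
    (⟨⟨ext x.1 * fun g => (x.2.comp (QuotientGroup.mk' _) g : ℂ), (h1 x.1).mul_linear _⟩, by
      refine (hcop.coprime_dvd_right (dvd_trans (dvd_of_eq ?_) x.1.1.2.charDegree_dvd_card)).symm
      have := h2 x.1 1
      rw [map_one] at this
      simp [charDegree, this]⟩ : {χ : IrrCharacter G // _})) ⟨?_, ?_⟩).symm
  · rintro ⟨θ, lam⟩ ⟨θ', lam'⟩ h
    have h5 := congrArg (fun x => x.1.1) h
    obtain rfl : θ = θ' := Subtype.ext (Subtype.ext (funext fun n => by
      simpa [h2, h4] using congrFun h5 (E.f n)))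
    have h6 := E.gallagher_inj θ.1.2 (h1 θ).isCharacter (h2 θ)
      (isIrrCharacter_linear (lam.comp (QuotientGroup.mk' _)))
      (isIrrCharacter_linear (lam'.comp (QuotientGroup.mk' _))) (fun n => by simp [h4])
      (fun n => by simp [h4]) (by rw [mul_comm, mul_comm _ (ext θ)]; exact h5)
    exact Prod.ext rfl (QuotientGroup.monoidHom_ext _ (linear_ext h6))
  · rintro ⟨χ, hχ⟩
    obtain ⟨θ, hθ, h5⟩ := exists_irr_under_hom E.f χ.2
    obtain ⟨e, h6, h7⟩ := E.degree_dvd_index hθ χ.2 h5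
    obtain rfl : e = 1 := Nat.eq_one_of_dvd_coprimes hχ ⟨charDegree θ, by
      apply Nat.cast_injective (R := ℂ)
      push_cast
      rw [χ.2.isCharacter.charDegree_cast, hθ.isCharacter.charDegree_cast, h7]⟩ h6
    have h8 := eq_of_constituent_of_degree_le (χ.2.isCharacter.comp E.f) hθ h5 (by simp [h7])
    have h9 := E.invariant_of_res_eq_mul χ.2.isClassFunction one_ne_zero
      (fun n => (congrFun h8 n).trans (one_mul _).symm)
    obtain ⟨lam, h10, h11⟩ := E.exists_linear_of_ext hθ (h1 ⟨⟨θ, hθ⟩, h9⟩).isCharacter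
      (h2 ⟨⟨θ, hθ⟩, h9⟩) χ.2.isCharacter (congrFun h8)
    refine ⟨(⟨⟨θ, hθ⟩, h9⟩, QuotientGroup.lift _ lam (by rintro _ ⟨n, rfl⟩; exact h10 n)),
      Subtype.ext (Subtype.ext ?_)⟩
    rw [h11, mul_comm]; rfl

section Amb
variable {Γ : Type*} [Group Γ] [Finite Γ] {K B C N G S : Subgroup Γ}

theorem sum_coset_amb [Fintype K] [Fintype B] {z : Γ}
    (hzK : z ∈ Subgroup.normalizer (K : Set Γ)) (hzB : z ∈ Subgroup.normalizer (B : Set Γ))
    (hBK : B ≤ K) (ti : ∀ k ∈ K, ∀ b ∈ B, ∀ b' ∈ B, k * (b * z) * k⁻¹ = b' * z → k ∈ B)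
    {F : Γ → ℂ} (hF : IsClassFunction Γ F) :
    (Nat.card B : ℂ) * ∑ k : K, F (k * z) = Nat.card K * ∑ b : B, F (b * z) := by
  let D : GStep K B ↥(K ⊔ Subgroup.zpowers z) ↥(B ⊔ Subgroup.zpowers z) :=
    { E := embN le_sup_left (H1.sup_le_normalizer_left (Subgroup.zpowers_le.mpr hzK))
      E' := embN le_sup_left (H1.sup_le_normalizer_left (Subgroup.zpowers_le.mpr hzB))
      i := Subgroup.inclusion hBK
      j := Subgroup.inclusion (sup_le_sup_right hBK _)
      jinj := Subgroup.inclusion_injective _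
      comm _ := rfl
      s := ⟨z, Subgroup.mem_sup_right (Subgroup.mem_zpowers z)⟩
      topK g := by
        obtain ⟨k, hk, n, h⟩ := exists_eq_mul_pow_of_mem_sup hzK g.2
        exact ⟨⟨k, hk⟩, n, Subtype.ext h⟩
      topB g := by
        obtain ⟨k, hk, n, h⟩ := exists_eq_mul_pow_of_mem_sup hzB g.2
        exact ⟨⟨k, hk⟩, n, Subtype.ext h⟩
      ti k b b' h := ⟨⟨k, ti k k.2 b b.2 b' b'.2 (congrArg Subtype.val h)⟩, rfl⟩ }
  exact D.sum_coset (hF.restrict _)

theorem inner_coset_eq [G.Normal] [Fintype G] [Fintype B] {z : Γ}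
    (hzB : z ∈ Subgroup.normalizer (B : Set Γ))
    (hBG : B ≤ G) (ti : ∀ k ∈ G, ∀ b ∈ B, ∀ b' ∈ B, k * (b * z) * k⁻¹ = b' * z → k ∈ B)
    {F F' : Γ → ℂ} (hF : IsClassFunction Γ F) (hF' : IsClassFunction Γ F') :
    classInner (fun b : B => F (b * z)) (fun b : B => F' (b * z)) =
      cosIn (NEmb.ofNormal G) F F' z := by
  have h1 := sum_coset_amb (K := G) (by rw [Subgroup.normalizer_eq_top]; trivial) hzB hBG ti
    (hF.mul hF'.conj)
  simp only [Pi.mul_apply] at h1
  have hB := card_ne_zero_C B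
  have hK := card_ne_zero_C G
  rw [cosIn, classInner_def, classInner_def]
  simp only [NEmb.ofNormal_f]
  field_simp
  linear_combination -h1

theorem ti_of_coprime {z : Γ} (hcop : (orderOf z).Coprime (Nat.card G))
    (hCG : C ≤ G) (hC : ∀ k ∈ G, k ∈ C ↔ z * k = k * z) :
    ∀ k ∈ G, ∀ b ∈ C, ∀ b' ∈ C, k * (b * z) * k⁻¹ = b' * z → k ∈ C := by
  intro k hk b hb b' hb' h
  have hb0 : ∀ X : Subgroup Γ, X ≤ Subgroup.normalizer ((⊥ : Subgroup Γ) : Set Γ) := fun X => by
    rw [Subgroup.normalizer_eq_top]; exact le_top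
  have := mem_of_conj_mul_eq (N := ⊥) (hb0 ⊤ (Subgroup.mem_top z)) (hb0 G)
    (by rwa [Subgroup.relIndex_bot_left]) hk (hCG hb) (by simp [(hC b (hCG hb)).mp hb]) (hCG hb')
    (by simp [(hC b' (hCG hb')).mp hb']) h
  rw [Subgroup.mem_bot, mul_inv_eq_one, mul_inv_eq_iff_eq_mul] at this
  exact (hC k hk).mpr this

/-- the `β`-component of a function on `C × S` -/
noncomputable def eta (C S : Subgroup Γ) [Fintype C] (F : Γ → ℂ) (β : C → ℂ) (x : S) : ℂ :=
  classInner (fun c : C => F (c * x)) β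

theorem isCharacter_eta [Fintype C] (hCS : C ≤ Subgroup.centralizer (S : Set Γ)) {F : Γ → ℂ}
    (hF : IsCharacter Γ F) {β : C → ℂ} (hβ : IsCharacter C β) : IsCharacter S (eta C S F β) := by
  have := Fintype.ofFinite S
  let j : C × S →* Γ := C.subtype.noncommCoprod S.subtype fun c x => (hCS c.2 x x.2).symm
  let E : NEmb C (C × S) :=
    { f := MonoidHom.inl C S
      inj := fun a b h => congrArg Prod.fst h
      act := fun g c => g.1 * c * g.1⁻¹
      f_act := fun g c => by ext <;> simp }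
  have := (isCharacter_cosIn E (hF.comp j) (hβ.comp (MonoidHom.fst C S))).comp (MonoidHom.inr C S)
  convert this using 1
  ext x
  simp [eta, cosIn, E, j]
  rfl

omit [Finite Γ] in
theorem isClassFunction_coset (hCS : C ≤ Subgroup.centralizer (S : Set Γ)) {F : Γ → ℂ}
    (hF : IsClassFunction Γ F) (x : S) : IsClassFunction C fun c : C => F (c * x) := fun c d => by
  refine Eq.trans ?_ (hF (c * x) d)
  refine congrArg F ?_
  have := hCS (C.inv_mem d.2) x x.2
  simp only [Subgroup.coe_mul, Subgroup.coe_inv, mul_assoc, this]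

theorem exists_eta_norm [Fintype C] (hCS : C ≤ Subgroup.centralizer (S : Set Γ)) {F : Γ → ℂ}
    (hF : IsCharacter Γ F) (x : S)
    (h : classInner (fun c : C => F (c * x)) (fun c : C => F (c * x)) = 1) :
    ∃ β : IrrCharacter C, ‖eta C S F β x‖ = 1 ∧ (∀ β' : IrrCharacter C, β' ≠ β →
      eta C S F β' x = 0) ∧ ∀ c : C, F (c * x) = eta C S F β x * β.1 c := by
  have hcl := isClassFunction_coset hCS hF.isClassFunction x
  obtain ⟨β, h1, h2⟩ := exists_unique_of_sum_normSq_eq_one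
    (fun β : IrrCharacter C => eta C S F β.1)
    (fun β => (isCharacter_eta hCS hF β.2.isCharacter).isGen) x
    ((hcl.classInner_eq_sum _).symm.trans h)
  refine ⟨β, h1, h2, fun c => ?_⟩
  rw [hcl.apply_eq_sum c, Finset.sum_eq_single β (fun β' _ h => by
    rw [show classInner _ _ = 0 from h2 β' h, zero_mul]) (by simp)]
  rfl

theorem eta_eq_of [Fintype C] {F : Γ → ℂ} {x : S} {a : ℂ} {β : C → ℂ} (hβ : IsIrrCharacter C β)
    (h : ∀ c : C, F (c * x) = a * β c) : eta C S F β x = a := by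
  rw [eta, show (fun c : C => F (c * x)) = a • β from funext h, classInner_smul_left,
    hβ.classInner_self, mul_one]

omit [Finite Γ] in
theorem normal_of_sup_eq_top (hSG : S ≤ Subgroup.normalizer (G : Set Γ)) (htop : G ⊔ S = ⊤) :
    G.Normal :=
  Subgroup.normalizer_eq_top_iff.mp (top_le_iff.mp (htop ▸ H1.sup_le_normalizer_left hSG))

omit [Finite Γ] in
theorem index_dvd_of_sup_eq_top (hSG : S ≤ Subgroup.normalizer (G : Set Γ)) (htop : G ⊔ S = ⊤) :
    G.index ∣ Nat.card S := by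
  rw [← Subgroup.relIndex_top_right, ← htop, H1.relIndex_sup_of_le_normalizer hSG]
  exact Subgroup.relIndex_dvd_card G S

omit [Finite Γ] in
theorem sInv_top (hSG : S ≤ Subgroup.normalizer (G : Set Γ)) (htop : G ⊔ S = ⊤) {χ : G → ℂ}
    (hχ : IsClassFunction G χ) (h : SInv S χ) (x : Γ) : EInv x χ := by
  obtain ⟨k, hk, s, hs, rfl⟩ := (H1.mem_sup_of_le_normalizer_left hSG).mp
    (htop ▸ Subgroup.mem_top x)
  exact EInv.mul (hSG hs) (eInv_of_mem hk hχ) (h s hs)

theorem exists_canon (hSG : S ≤ Subgroup.normalizer (G : Set Γ)) (htop : G ⊔ S = ⊤)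
    (hcop : (Nat.card G).Coprime (Nat.card S)) {χ : IrrCharacter G} (h : SInv S χ.1) :
    ∃ χh : IrrCharacter Γ, (∀ g : G, χh.1 g = χ.1 g) ∧ (detOrder χh.1).Coprime (Nat.card S) := by
  have := normal_of_sup_eq_top hSG htop
  obtain ⟨χh, h1, h2, h3⟩ := (NEmb.ofNormal G).exists_ext_of_coprime χ.2
    (fun g n => sInv_top hSG htop χ.2.isClassFunction h g _ _ rfl) (by
      rw [NEmb.ofNormal_range]
      exact hcop.symm.coprime_dvd_left (index_dvd_of_sup_eq_top hSG htop))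
  exact ⟨⟨χh, h1⟩, h2, h3 ▸ hcop.coprime_dvd_left (detOrder_dvd_card _)⟩

theorem canon_mul_pow (hSG : S ≤ Subgroup.normalizer (G : Set Γ)) (htop : G ⊔ S = ⊤)
    (hcop : (Nat.card G).Coprime (Nat.card S)) {χ : Γ → ℂ} (hχ : IsCharacter Γ χ)
    (hirr : IsIrrCharacter G fun g : G => χ g) (hdet : (detOrder χ).Coprime (Nat.card S))
    {c s : Γ} (hc : c ∈ G) (hs : s ∈ S) (hcs : Commute c s) {a : ℕ}
    (ha : a.Coprime (Nat.card S)) : χ (c * s ^ a) = χ (c * s) := by
  have := normal_of_sup_eq_top hSG htop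
  have hi := index_dvd_of_sup_eq_top hSG htop
  obtain ⟨m, h1, h2⟩ := Nat.chineseRemainder hcop 1 a
  have h3 : m.Coprime (Nat.card S) := by
    rw [Nat.Coprime, Nat.ModEq.gcd_eq h2]; exact ha
  rw [← canon_pow (NEmb.ofNormal G) (by
      rw [NEmb.ofNormal_range]; exact hcop.symm.coprime_dvd_left hi) hχ hirr (by
      rw [NEmb.ofNormal_range]; exact hdet.symm.coprime_dvd_left hi) (by
      rw [NEmb.ofNormal_range]; exact h3.coprime_dvd_right hi) h1 (c * s), hcs.mul_pow,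
    pow_eq_pow_of_modEq h1 (congrArg Subtype.val (pow_card_eq_one' (x := (⟨c, hc⟩ : G)))),
    pow_eq_pow_of_modEq h2 (congrArg Subtype.val (pow_card_eq_one' (x := (⟨s, hs⟩ : S)))),
    pow_one]

theorem exists_pow_of_zpowers_eq {s t : Γ} (h : Subgroup.zpowers t = Subgroup.zpowers s) :
    ∃ a : ℕ, a.Coprime (orderOf s) ∧ t = s ^ a := by
  obtain ⟨a, rfl⟩ := (mem_powers_iff_mem_zpowers.mpr (h ▸ Subgroup.mem_zpowers t) :
    t ∈ Submonoid.powers s)
  exact ⟨a, mem_zpowers_pow_iff.mp (h ▸ Subgroup.mem_zpowers s), rfl⟩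

theorem inner_coset_self [G.Normal] [Fintype C] {z : Γ} (hcop : (orderOf z).Coprime (Nat.card G))
    (hCG : C ≤ G) (hC : ∀ k ∈ G, k ∈ C ↔ z * k = k * z) {χ : Γ → ℂ} (hχ : IsCharacter Γ χ)
    (hirr : IsIrrCharacter G fun g : G => χ g) :
    classInner (fun c : C => χ (c * z)) (fun c : C => χ (c * z)) = 1 := by
  have := Fintype.ofFinite G
  have := Fintype.ofFinite Γ
  rw [inner_coset_eq (Subgroup.mem_normalizer_fintype fun c hc => by
      rw [(hC c (hCG hc)).mp hc]; simpa using hc) hCG (ti_of_coprime hcop hCG hC)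
    hχ.isClassFunction hχ.isClassFunction, cosIn_self _ hχ hirr]

theorem res_eq_of_inner_coset [G.Normal] [Fintype C] {z : Γ}
    (hcop : (orderOf z).Coprime (Nat.card G))
    (hCG : C ≤ G) (hC : ∀ k ∈ G, k ∈ C ↔ z * k = k * z) {χ χ' : Γ → ℂ} (hχ : IsCharacter Γ χ)
    (hirr : IsIrrCharacter G fun g : G => χ g) (hχ' : IsCharacter Γ χ')
    (hirr' : IsIrrCharacter G fun g : G => χ' g)
    (h : classInner (fun c : C => χ (c * z)) (fun c : C => χ' (c * z)) ≠ 0) :
    (fun g : G => χ g) = fun g : G => χ' g := by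
  have := Fintype.ofFinite G
  have := Fintype.ofFinite Γ
  rw [inner_coset_eq (Subgroup.mem_normalizer_fintype fun c hc => by
      rw [(hC c (hCG hc)).mp hc]; simpa using hc) hCG (ti_of_coprime hcop hCG hC)
    hχ.isClassFunction hχ'.isClassFunction] at h
  by_contra hne
  exact h (cosIn_eq_zero (NEmb.ofNormal G) hχ hχ' (hirr.classInner_of_ne hirr' hne) z)

omit [Finite Γ] in
theorem mem_iff_comm_of_zpowers {s : Γ} (hs : Subgroup.zpowers s = S)
    (hC : C = G ⊓ Subgroup.centralizer (S : Set Γ)) : ∀ k ∈ G, k ∈ C ↔ s * k = k * s := by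
  intro k hk
  subst hs hC
  refine ⟨fun h => h.2 s (Subgroup.mem_zpowers s), fun h => ⟨hk, ?_⟩⟩
  rintro _ ⟨n, rfl⟩
  exact Commute.zpow_left h n

/-- existence of the Glauberman correspondent for a cyclic operator group -/
theorem exists_beta [Fintype C] (hSG : S ≤ Subgroup.normalizer (G : Set Γ)) (htop : G ⊔ S = ⊤)
    (hcop : (Nat.card G).Coprime (Nat.card S)) (hcyc : IsCyclic S)
    (hC : C = G ⊓ Subgroup.centralizer (S : Set Γ)) {χ : Γ → ℂ} (hχ : IsCharacter Γ χ)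
    (hirr : IsIrrCharacter G fun g : G => χ g) (hdet : (detOrder χ).Coprime (Nat.card S)) :
    ∃ (β : IrrCharacter C) (ε : ℤ), (ε = 1 ∨ ε = -1) ∧
      ∀ c : C, ∀ s : Γ, Subgroup.zpowers s = S → χ (c * s) = ε * β.1 c := by
  have := normal_of_sup_eq_top hSG htop
  obtain ⟨s, hs⟩ := (Subgroup.isCyclic_iff_exists_zpowers_eq_top S).mp hcyc
  have hCG : C ≤ G := hC ▸ inf_le_left
  have hCS : C ≤ Subgroup.centralizer (S : Set Γ) := hC ▸ inf_le_right
  have hsS : s ∈ S := hs ▸ Subgroup.mem_zpowers s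
  have ho : orderOf s = Nat.card S := by rw [← hs, Nat.card_zpowers]
  have key : ∀ (c : C) (a : ℕ), a.Coprime (orderOf s) → χ (c * s ^ a) = χ (c * s) :=
    fun c a ha => canon_mul_pow hSG htop hcop hχ hirr hdet (hCG c.2) hsS
      (hCS c.2 s hsS).symm (ho ▸ ha)
  obtain ⟨β, h1, -, h3⟩ := exists_eta_norm hCS hχ ⟨s, hsS⟩
    (inner_coset_self (ho ▸ hcop.symm) hCG (mem_iff_comm_of_zpowers hs hC) hχ hirr)
  obtain ⟨ε, hε⟩ := (isCharacter_eta hCS hχ β.2.isCharacter).isGen.exists_int_of_forall_pow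
    (g := ⟨s, hsS⟩) fun m hm => by
      rw [← Subgroup.orderOf_coe] at hm
      simp only [eta, SubgroupClass.coe_pow, key _ m hm]
  refine ⟨β, ε, ?_, fun c t ht => ?_⟩
  · rw [hε, Complex.norm_intCast] at h1
    exact eq_or_eq_neg_of_abs_eq (by exact_mod_cast h1)
  · obtain ⟨a, ha, rfl⟩ := exists_pow_of_zpowers_eq (ht.trans hs.symm)
    rw [key c a ha, h3, hε]

theorem card_coprime_deg_of_sup [G.Normal] (htop : G ⊔ S = ⊤)
    (hcop : (Nat.card G).Coprime (Nat.card S)) :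
    Nat.card {χ : IrrCharacter Γ // (charDegree χ.1).Coprime (Nat.card S)} =
      Nat.card {θ : IrrCharacter G // SInv S θ.1} * Nat.card (S →* ℂˣ) := by
  have hc : Subgroup.IsComplement' G S :=
    Subgroup.isComplement'_of_disjoint_and_mul_eq_univ
      (Subgroup.disjoint_of_coprime_natCard hcop) (by rw [← Subgroup.normal_mul, htop]; rfl)
  have hi : G.index = Nat.card S := hc.symm.index_eq_card
  have hSG : S ≤ Subgroup.normalizer (G : Set Γ) := by rw [Subgroup.normalizer_eq_top]; exact le_top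
  have := card_coprime_deg (NEmb.ofNormal G) (by rw [NEmb.ofNormal_range, hi]; exact hcop.symm)
  have hc' : Subgroup.IsComplement' (NEmb.ofNormal G).f.range S := by rwa [NEmb.ofNormal_range]
  rw [hc'.symm.index_eq_card] at this
  rw [this]
  congr 1
  · refine Nat.card_congr (Equiv.subtypeEquivRight fun θ => ⟨fun h s _ g g' hg => ?_,
      fun h g n => sInv_top hSG htop θ.2.isClassFunction h g _ _ rfl⟩)
    rw [← h s g]; exact congrArg _ (Subtype.ext hg)
  · exact Nat.card_congr (MulEquiv.monoidHomCongrLeft hc'.symm.QuotientMulEquiv).toEquiv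

end Amb

end Cfsg.Agent.H8
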