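import Mathlib
import Cfsg.Agent.H8.Glaub4
import Cfsg.Agent.H9.PCons
import Cfsg.Agent.H4.Frobenius
import Cfsg.Agent.H3.PNil
import Cfsg.Prelude.Def_DegreeGraph

/-!
Sets of character degrees; Ito's theorem for `p`-solvable groups.
-/

set_option autoImplicit false
set_option linter.dupNamespace false

namespace Cfsg.Agent.H8

open Cfsg Cfsg.Agent.H4 Cfsg.Agent.H5 Cfsg.Agent.H3
open scoped ComplexConjugate Pointwise commutatorElement

section cd
variable {G H : Type*} [Group G] [Group H] {d : ℕ}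

theorem mem_cd : d ∈ charDegrees G ↔ ∃ χ : G → ℂ, IsIrrCharacter G χ ∧ χ 1 = d :=
  ⟨fun ⟨χ, h⟩ => ⟨χ.1, χ.2, by rw [← h, irr_coe_charDegree]⟩,
    fun ⟨χ, h, h1⟩ => ⟨⟨χ, h⟩, charDegree_eq_of h1⟩⟩

theorem mem_cd_of {χ : G → ℂ} (h : IsIrrCharacter G χ) (h1 : χ 1 = d) : d ∈ charDegrees G :=
  mem_cd.2 ⟨χ, h, h1⟩

theorem charDegree_mem_cd {χ : G → ℂ} (h : IsIrrCharacter G χ) : charDegree χ ∈ charDegrees G :=
  ⟨⟨χ, h⟩, rfl⟩

theorem one_mem_cd : 1 ∈ charDegrees G := mem_cd_of isIrrCharacter_one (by simp)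

theorem pos_of_mem_cd (h : d ∈ charDegrees G) : 0 < d := by
  obtain ⟨χ, rfl⟩ := h
  exact irr_charDegree_pos χ

theorem dvd_card_of_mem_cd [Finite G] (h : d ∈ charDegrees G) : d ∣ Nat.card G := by
  obtain ⟨χ, rfl⟩ := h
  exact χ.2.charDegree_dvd_card

theorem finite_cd [Finite G] : (charDegrees G).Finite :=
  Set.finite_range fun χ : IrrCharacter G => charDegree χ.1

theorem cd_subset_of_surjective (f : G →* H) (hf : Function.Surjective f) :
    charDegrees H ⊆ charDegrees G := fun _ h => by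
  obtain ⟨χ, hχ, h1⟩ := mem_cd.1 h
  exact mem_cd_of (hχ.comp_of_surjective f hf) (by rw [map_one, h1])

theorem cd_quotient_subset (N : Subgroup G) [N.Normal] : charDegrees (G ⧸ N) ⊆ charDegrees G :=
  cd_subset_of_surjective _ (QuotientGroup.mk'_surjective N)

theorem cd_congr (e : G ≃* H) : charDegrees G = charDegrees H :=
  (cd_subset_of_surjective e.symm.toMonoidHom e.symm.surjective).antisymm
    (cd_subset_of_surjective e.toMonoidHom e.surjective)

theorem comm_iff_cd [Finite G] : (∀ a b : G, a * b = b * a) ↔ ∀ d ∈ charDegrees G, d = 1 := by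
  rw [comm_iff_forall_irr_degree_one]
  exact ⟨fun h d ⟨χ, hχ⟩ => hχ ▸ (irr_charDegree_eq_one_iff χ).2 (h χ),
    fun h χ => (irr_charDegree_eq_one_iff χ).1 (h _ ⟨χ, rfl⟩)⟩

theorem cd_over [Finite G] (E : NEmb H G) (h : d ∈ charDegrees H) :
    ∃ e, e ∣ E.f.range.index ∧ e * d ∈ charDegrees G := by
  haveI := E.finite
  haveI := Fintype.ofFinite G
  haveI := Fintype.ofFinite H
  obtain ⟨θ, hθ, h1⟩ := mem_cd.1 h
  obtain ⟨χ, hχ, h2⟩ := exists_irr_over_hom E.f E.inj hθ
  obtain ⟨e, he, h3⟩ := E.degree_dvd_index hθ hχ h2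
  exact ⟨e, he, mem_cd_of hχ (by rw [h3, h1, Nat.cast_mul])⟩

theorem cd_under [Finite G] (E : NEmb H G) (h : d ∈ charDegrees G) :
    ∃ e c, e ∣ E.f.range.index ∧ c ∈ charDegrees H ∧ d = e * c := by
  haveI := E.finite
  haveI := Fintype.ofFinite G
  haveI := Fintype.ofFinite H
  obtain ⟨χ, hχ, h1⟩ := mem_cd.1 h
  obtain ⟨θ, hθ, h2⟩ := exists_irr_under_hom E.f hχ
  obtain ⟨e, he, h3⟩ := E.degree_dvd_index hθ hχ h2
  obtain ⟨c, -, hc⟩ := hθ.exists_degree
  exact ⟨e, c, he, mem_cd_of hθ hc, by rw [h1, hc] at h3; exact_mod_cast h3⟩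

theorem cd_over_normal [Finite G] (N : Subgroup G) [N.Normal] (h : d ∈ charDegrees N) :
    ∃ e, e ∣ N.index ∧ e * d ∈ charDegrees G := by
  simpa only [NEmb.ofNormal_range] using cd_over (NEmb.ofNormal N) h

theorem cd_under_normal [Finite G] (N : Subgroup G) [N.Normal] (h : d ∈ charDegrees G) :
    ∃ e c, e ∣ N.index ∧ c ∈ charDegrees N ∧ d = e * c := by
  simpa only [NEmb.ofNormal_range] using cd_under (NEmb.ofNormal N) h

theorem cd_le_of_injective [Finite G] (f : H →* G) (hf : Function.Injective f)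
    (h : d ∈ charDegrees H) : ∃ e ∈ charDegrees G, d ≤ e := by
  haveI : Finite H := Finite.of_injective f hf
  haveI := Fintype.ofFinite G
  haveI := Fintype.ofFinite H
  obtain ⟨θ, hθ, h1⟩ := mem_cd.1 h
  obtain ⟨χ, hχ, h2⟩ := exists_irr_over_hom f hf hθ
  obtain ⟨e, -, he⟩ := hχ.exists_degree
  exact ⟨e, mem_cd_of hχ he, (hχ.isCharacter.comp f).degree_le_of_constituent hθ h2
    (by rw [map_one, he]) h1⟩

theorem cd_le_subgroup [Finite G] (K : Subgroup G) (h : d ∈ charDegrees K) :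
    ∃ e ∈ charDegrees G, d ≤ e := cd_le_of_injective K.subtype K.subtype_injective h

theorem cd_dvd_index_of_comm [Finite G] {A : Subgroup G} [A.Normal]
    (hA : ∀ a ∈ A, ∀ b ∈ A, a * b = b * a) (h : d ∈ charDegrees G) : d ∣ A.index := by
  obtain ⟨e, c, h1, h2, rfl⟩ := cd_under_normal A h
  rw [comm_iff_cd.1 (fun a b : A => Subtype.ext (hA a a.2 b b.2)) c h2, mul_one]
  exact h1

theorem exists_pow_of_mem_cd [Finite G] {p : ℕ} [hp : Fact p.Prime] (hG : IsPGroup p G)
    (h : d ∈ charDegrees G) : ∃ k, d = p ^ k := by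
  obtain ⟨n, hn⟩ := IsPGroup.iff_card.1 hG
  obtain ⟨k, -, hk⟩ := (Nat.dvd_prime_pow hp.out).1 (hn ▸ dvd_card_of_mem_cd h)
  exact ⟨k, hk⟩

theorem comm_of_not_dvd_cd [Finite G] {p : ℕ} [hp : Fact p.Prime] (hG : IsPGroup p G)
    (h : ∀ d ∈ charDegrees G, ¬ p ∣ d) (a b : G) : a * b = b * a := by
  refine comm_iff_cd.2 (fun d hd => ?_) a b
  obtain ⟨_ | k, rfl⟩ := exists_pow_of_mem_cd hG hd
  · rfl
  · exact absurd (dvd_pow_self p k.succ_ne_zero) (h _ hd)

/-- the index of an inertia group divides a degree -/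
theorem exists_cd_index_inertia [Finite G] (E : NEmb H G) {θ : H → ℂ} (hθ : IsIrrCharacter H θ)
    (hd : θ 1 = d) : ∃ e, e * (E.inertia θ).index * d ∈ charDegrees G := by
  haveI := E.finite
  haveI := Fintype.ofFinite G
  haveI := Fintype.ofFinite H
  obtain ⟨χ, hχ, h2⟩ := exists_irr_over_hom E.f E.inj hθ
  obtain ⟨e, he⟩ := (hχ.isCharacter.comp E.f).classInner_nat hθ.isCharacter
  exact ⟨e, mem_cd_of hχ (by rw [E.clifford_degree hχ hθ h2, he, hd]; push_cast; rfl)⟩

end cd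

section ito
variable {G : Type*} [Group G] [Finite G]

/-- a coprime action fixing all irreducible characters is trivial -/
theorem le_centralizer_of_forall_eInv {S K : Subgroup G}
    (hSK : S ≤ Subgroup.normalizer (K : Set G)) (hcop : (Nat.card S).Coprime (Nat.card K))
    (hsol : Group.IsSolvable S ∨ Group.IsSolvable K)
    (h : ∀ θ : IrrCharacter K, SInv S θ.1) : K ≤ Subgroup.centralizer (S : Set G) := by
  have h1 := eq_top_of_forall_exists_conj_mem ((Subgroup.centralizer (S : Set G)).subgroupOf K)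
    fun k => by
      obtain ⟨n, hn, h2⟩ := exists_conj_mem_centralizer hSK hcop hsol (g := k) fun s hs => by
        obtain ⟨c, hc⟩ := isConj_iff.1 ((isConj_iff_forall_irr k (cjE (hSK hs) k)).2
          fun θ => (h θ s hs k _ rfl).symm)
        exact ⟨c, c.2, congrArg Subtype.val hc⟩
      exact ⟨⟨n, hn⟩, h2⟩
  exact Subgroup.subgroupOf_eq_top.1 h1

variable {p : ℕ} [hp : Fact p.Prime]

theorem le_of_not_dvd_index {K V I : Subgroup G} [V.Normal] {n : ℕ} (hn : K.relIndex V = p ^ n)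
    (hKI : K ≤ I) (hI : ¬ p ∣ I.index) : V ≤ I := by
  have h1 : I.relIndex V ∣ p ^ n := hn ▸ Subgroup.relIndex_dvd_of_le_left V hKI
  have h2 : I.relIndex V ∣ I.index := by
    have h3 := H3.card_sup_mul_card_inf (H := I) (N := V) Subgroup.le_normalizer_of_normal
    have h4 := H3.card_eq_card_inf_mul_relIndex I V
    have h5 := H3.card_eq_card_mul_relIndex (le_sup_left : I ≤ I ⊔ V)
    have h6 : I.relIndex (I ⊔ V) = I.relIndex V := by
      rw [h4, h5, mul_assoc, mul_right_inj' Nat.card_pos.ne', mul_comm,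
        mul_right_inj' Nat.card_pos.ne'] at h3
      exact h3
    rw [← h6]
    exact Subgroup.relIndex_dvd_index_of_le le_sup_left
  obtain ⟨_ | k, -, hk⟩ := (Nat.dvd_prime_pow hp.out).1 h1
  · exact Subgroup.relIndex_eq_one.1 hk
  · exact absurd ((dvd_pow_self p k.succ_ne_zero).trans (hk ▸ h2)) hI

universe u in
theorem ito_normal (n : ℕ) : ∀ {G : Type u} [Group G] [Finite G], Nat.card G = n →
    IsPSolvable p G → (∀ d ∈ charDegrees G, ¬ p ∣ d) → ¬ p ∣ (pCore p G).index := by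
  induction n using Nat.strong_induction_on with
  | _ n ih =>
  intro G _ _ hn hs h
  by_cases h0 : pCore p G = ⊥
  · let K := pPrimeCore p G
    obtain ⟨Q, hQ⟩ := exists_sylowIn p (pPrimePCore p G)
    haveI : (pPrimePCore p G).Normal := H9.opMod_normal p _
    obtain ⟨a, ha⟩ : ∃ n, (pPrimeCore p G).relIndex (pPrimePCore p G) = p ^ n := by
      rw [H9.relIndex_eq_card_map_mk', H9.map_pPrimePCore]
      exact IsPGroup.iff_card.1 (H1.isPGroup_pCore p _)
    have h1 : K ≤ Subgroup.centralizer (Q : Set G) := by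
      refine le_centralizer_of_forall_eInv Subgroup.le_normalizer_of_normal
        (H1.coprime_card_of_isPGroup hQ.isPGroup (H1.not_dvd_card_pPrimeCore p G))
        (Or.inl (H1.isSolvable_of_isPGroup hQ.isPGroup)) fun θ s hs g g' hg => ?_
      obtain ⟨e, he⟩ := exists_cd_index_inertia (NEmb.ofNormal K) θ.2 (irr_coe_charDegree θ).symm
      have h2 := le_of_not_dvd_index ha (I := (NEmb.ofNormal K).inertia θ.1)
        (fun k hk => (NEmb.ofNormal K).f_mem_inertia θ.2.isClassFunction ⟨k, hk⟩)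
        (fun h3 => h _ he ((h3.mul_left e).mul_right _)) (hQ.le hs)
      rw [← (NEmb.ofNormal K).mem_inertia.1 h2 g]
      exact congrArg _ (Subtype.ext hg)
    have h2 := H9.map_eq_pCore_of_sylowIn hQ
    have h3 := H9.pPrimeCore_sup_normalizer_eq_top hQ.isPGroup (by rw [h2]; infer_instance)
    rw [sup_eq_right.2 (h1.trans (Subgroup.centralizer_le_normalizer _))] at h3
    haveI : Q.Normal := Subgroup.normalizer_eq_top_iff.1 h3
    have h4 : Q = ⊥ := le_bot_iff.1 (h0 ▸ H1.le_pCore hQ.isPGroup)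
    have h5 := H9.isPConstrained_iff.1 (H9.isPConstrained_of_isPSolvable hs)
    unfold H9.CharPGrp at h5
    rw [← h2, h4, Subgroup.map_bot] at h5
    have h6 : K = ⊤ := by
      rw [eq_top_iff]
      intro x _
      rw [← QuotientGroup.eq_one_iff, ← Subgroup.mem_bot]
      exact h5 fun y hy => by rw [Subgroup.mem_bot.1 hy, one_mul, mul_one]
    rw [h0, Subgroup.index_bot, ← Subgroup.card_top, ← h6]
    exact H1.not_dvd_card_pPrimeCore p G
  · have h1 := ih _ (hn ▸ H1.card_quotient_lt h0) rfl (H9.isPSolvable_quotient hs _)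
      fun d hd => h d (cd_quotient_subset _ hd)
    rwa [H1.pCore_quotient_pCore, Subgroup.index_bot] at h1

theorem ito (hs : IsPSolvable p G) (h : ∀ d ∈ charDegrees G, ¬ p ∣ d) :
    ¬ p ∣ (pCore p G).index ∧ ∀ a ∈ pCore p G, ∀ b ∈ pCore p G, a * b = b * a := by
  refine ⟨ito_normal _ rfl hs h, fun a ha b hb => ?_⟩
  refine congrArg Subtype.val (comm_of_not_dvd_cd (H1.isPGroup_pCore p G) (fun d hd h1 => ?_)
    ⟨a, ha⟩ ⟨b, hb⟩)
  obtain ⟨e, -, he⟩ := cd_over_normal _ hd
  exact h _ he (h1.mul_left e)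

theorem sylow_eq_pCore (P : Sylow p G) (h : ¬ p ∣ (pCore p G).index) :
    (P : Subgroup G) = pCore p G :=
  ((IsPGroup.toSylow (H1.isPGroup_pCore p G) h).is_maximal' P.2 (H1.pCore_le_sylow P))

theorem not_dvd_orderOf_linear {K : Type*} [Group K] [Finite K] (hK : pResidual p K = ⊤)
    (lam : K →* ℂˣ) : ¬ p ∣ orderOf lam := by
  rintro ⟨m, hm⟩
  have h0 := orderOf_linear_pos lam
  have hm0 : m ≠ 0 := by rintro rfl; omega
  have h1 : ∀ k, (lam k ^ m) ^ p = 1 := fun k => by
    rw [← pow_mul, mul_comm, ← hm, ← MonoidHom.pow_apply, pow_orderOf_eq_one, MonoidHom.one_apply]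
  let μ : K →* ℂˣ := (powMonoidHom m).comp lam
  have h2 : IsPGroup p μ.range := by
    rintro ⟨_, k, rfl⟩
    exact ⟨1, Subtype.ext (by rw [pow_one]; exact h1 k)⟩
  have h3 := pResidual_le_ker h2 μ.rangeRestrict
  rw [hK, MonoidHom.ker_rangeRestrict] at h3
  have h4 : orderOf lam ≤ m := Nat.le_of_dvd (Nat.pos_of_ne_zero hm0) (orderOf_dvd_of_pow_eq_one
    (MonoidHom.ext fun k => by rw [MonoidHom.pow_apply]; exact h3 (Subgroup.mem_top k)))
  have := hp.out.two_le
  nlinarith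

open Classical in
theorem card_pResidual_eq_sum : (Nat.card (pResidual p G) : ZMod p) =
    ∑ χ : IrrCharacter G with ¬ p ∣ charDegree χ.1 ∧ ¬ p ∣ detOrder χ.1,
      (charDegree χ.1 : ZMod p) ^ 2 := by
  haveI := Fintype.ofFinite G
  let K := pResidual p G
  haveI := Fintype.ofFinite K
  let E := NEmb.ofNormal K
  obtain ⟨a, ha⟩ := exists_index_pResidual (p := p) (G := G)
  have hidx : E.f.range.index = p ^ a := by rw [NEmb.ofNormal_range, ha]
  have hcop : ∀ {n}, ¬ p ∣ n → E.f.range.index.Coprime n := fun h => by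
    rw [hidx]; exact ((Nat.Prime.coprime_iff_not_dvd hp.out).2 h).pow_left a
  let P : Sylow p G := default
  have hPK : (P : Subgroup G) ≤ Subgroup.normalizer (K : Set G) := Subgroup.le_normalizer_of_normal
  have htop : K ⊔ P = ⊤ := by
    rw [← Subgroup.index_eq_one]
    exact Nat.eq_one_of_dvd_coprimes (((Nat.Prime.coprime_iff_not_dvd hp.out).2
      P.not_dvd_index).pow_left a) (ha ▸ Subgroup.index_dvd_of_le le_sup_left)
      (Subgroup.index_dvd_of_le le_sup_right)
  have h1 : (Nat.card K : ZMod p) = ∑ θ : IrrCharacter K, (charDegree θ.1 : ZMod p) ^ 2 := by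
    have h2 := sum_irr_degree_sq (G := K)
    simp only [← irr_coe_charDegree] at h2
    have h3 : ∑ θ : IrrCharacter K, charDegree θ.1 ^ 2 = Nat.card K := by exact_mod_cast h2
    rw [← h3]; push_cast; rfl
  rw [h1, sum_irr_eq_sum_sInv P.2 hPK _ (fun x hx χ => by
    congr 2; unfold charDegree; rw [cjI_apply, map_one]),
    ← Finset.sum_filter_of_ne (p := fun θ : IrrCharacter K => ¬ p ∣ charDegree θ.1)
      (fun θ _ h h2 => h (by rw [(ZMod.natCast_eq_zero_iff _ _).2 h2]; simp))]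
  have hres : ∀ χ : IrrCharacter G, ¬ p ∣ charDegree χ.1 →
      IsIrrCharacter K fun k => χ.1 (E.f k) := fun χ hχ => by
    obtain ⟨θ, hθ, h5⟩ := exists_irr_under_hom E.f χ.2
    obtain ⟨e, h6, h7⟩ := E.degree_dvd_index hθ χ.2 h5
    obtain rfl : e = 1 := Nat.eq_one_of_dvd_coprimes (hcop hχ).symm ⟨charDegree θ, by
      apply Nat.cast_injective (R := ℂ)
      push_cast
      rw [χ.2.isCharacter.charDegree_cast, hθ.isCharacter.charDegree_cast, h7]⟩ h6
    rw [eq_of_constituent_of_degree_le (χ.2.isCharacter.comp E.f) hθ h5 (by simp [h7])]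
    exact hθ
  have hdeg : ∀ χ : G → ℂ, charDegree (fun k => χ (E.f k)) = charDegree χ := fun χ => by
    unfold charDegree; simp only [map_one]
  symm
  refine Finset.sum_bij (fun χ hχ => ⟨_, hres χ (Finset.mem_filter.1 hχ).2.1⟩) (fun χ hχ => ?_)
    (fun χ hχ ψ hψ h => ?_) (fun θ hθ => ?_) fun χ hχ => by rw [hdeg]
  · simp only [Finset.mem_filter, Finset.mem_univ, true_and] at hχ ⊢
    refine ⟨fun s _ g g' hg => ?_, by rw [hdeg]; exact hχ.1⟩
    change χ.1 g' = χ.1 g
    rw [hg, χ.2.isClassFunction]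
  · have h2 := (Finset.mem_filter.1 hχ).2
    have h3 := (Finset.mem_filter.1 hψ).2
    exact Subtype.ext (E.canonical_ext_unique (hres χ h2.1)
      (by rw [map_one, irr_coe_charDegree]) (hcop h2.1) χ.2.isCharacter
      ψ.2.isCharacter (fun _ => rfl) (fun n => (congrFun (congrArg Subtype.val h) n).symm)
      (hcop h2.2) (hcop h3.2))
  · simp only [Finset.mem_filter, Finset.mem_univ, true_and] at hθ
    have h2 : ¬ p ∣ detOrder θ.1 := by
      rw [detOrder_eq]; exact not_dvd_orderOf_linear pResidual_pResidual _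
    obtain ⟨χ, hχ, h3, h4⟩ := E.exists_canonical_ext θ.2
      (fun g n => sInv_top hPK htop θ.2.isClassFunction hθ.1 g _ _ rfl)
      (irr_coe_charDegree θ).symm (hcop hθ.2) (hcop h2)
    have h5 : (fun k => χ (E.f k)) = θ.1 := funext h3
    exact ⟨⟨χ, hχ⟩, Finset.mem_filter.2 ⟨Finset.mem_univ _, by rw [← hdeg, h5]; exact hθ.2,
      by rw [h4]; exact h2⟩, Subtype.ext h5⟩

end ito

end Cfsg.Agent.H8
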