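import Mathlib
import Cfsg.Agent.H8.Glaub2
import Cfsg.Agent.H1.Generation
import Cfsg.Agent.H1.Coprime
import Cfsg.Agent.H9.PSolv

/-!
# Faithful characters of groups with a semiregular coprime action modulo the fixed points
-/

namespace Cfsg.Agent.H8

open Cfsg Cfsg.Agent.H4 Cfsg.Agent.H5 Cfsg.Agent.H1 Subgroup
open scoped ComplexConjugate commutatorElement Pointwise

variable {G : Type*} [Group G] [Finite G]

theorem apply_eq_zero_of_not_mem_charCenter {ψ : G → ℂ} (hψ : IsIrrCharacter G ψ) {g : G}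
    (h : ∀ b : G, g * b * g⁻¹ * b⁻¹ ∈ charCenter ψ) (hg : g ∉ charCenter ψ) : ψ g = 0 := by
  obtain ⟨b, hb⟩ := not_forall.mp (mt hψ.mem_charCenter_of_commutator hg)
  by_contra h0
  have h2 := apply_mul_of_mem_charCenter (h b) hψ.apply_one_ne_zero (b * g * b⁻¹)
  rw [show g * b * g⁻¹ * b⁻¹ * (b * g * b⁻¹) = g * b * g⁻¹ * g * b⁻¹ by group, inv_mul_cancel_right,
    show g * b * b⁻¹ = g by group, hψ.isClassFunction g b] at h2
  exact hb (hψ.isCharacter.mem_charKer.mpr ((div_eq_one_iff_eq hψ.apply_one_ne_zero).mp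
    (mul_right_cancel₀ h0 (h2.symm.trans (one_mul _).symm))))

theorem degree_sq_eq_index_charCenter {ψ : G → ℂ} (hψ : IsIrrCharacter G ψ)
    (h : ∀ a b : G, a * b * a⁻¹ * b⁻¹ ∈ charCenter ψ) : charDegree ψ ^ 2 = (charCenter ψ).index := by
  haveI := Fintype.ofFinite G
  haveI := Fintype.ofFinite (charCenter ψ)
  have h1 := (classInner_restrict_self_eq_iff ψ (charCenter ψ)).mpr fun g hg =>
    apply_eq_zero_of_not_mem_charCenter hψ (h g) hg
  rw [hψ.classInner_self, mul_one, classInner_self_eq_ofReal, Finset.sum_congr rfl fun z _ => by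
    rw [hψ.isCharacter.mem_charCenter.mp z.2, irr_norm_apply_one ⟨ψ, hψ⟩]] at h1
  simp only [Finset.sum_const, Finset.card_univ, ← Nat.card_eq_fintype_card, nsmul_eq_mul] at h1
  rw [inv_mul_cancel_left₀ (by exact_mod_cast Nat.card_pos.ne')] at h1
  exact_mod_cast h1

theorem card_le_charDegree [Fintype G] {χ : G → ℂ} (hχ : IsCharacter G χ) {ι : Type*} [Finite ι]
    (f : ι → IrrCharacter G) (hf : Function.Injective f) (h : ∀ i, classInner χ (f i).1 ≠ 0) :
    Nat.card ι ≤ charDegree χ := by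
  classical
  haveI := Fintype.ofFinite ι
  rw [charDegree_eq_sum_nin hχ, Nat.card_eq_fintype_card, ← Finset.card_univ, ← Finset.card_image_of_injective _ hf,
    Finset.card_eq_sum_ones]
  refine (Finset.sum_le_sum fun ψ hψ => ?_).trans (Finset.sum_le_sum_of_subset (Finset.subset_univ _))
  obtain ⟨i, -, rfl⟩ := Finset.mem_image.mp hψ
  refine Nat.mul_pos (Nat.pos_of_ne_zero fun h0 => h i ?_) (irr_charDegree_pos _)
  rw [← nin_cast hχ (f i).2.isCharacter, h0, Nat.cast_zero]

theorem card_lt_degree_sq {P N : Subgroup G} (hP : Group.IsSolvable P) (hP1 : P ≠ ⊥)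
    (hPN : P ≤ normalizer (N : Set G)) (hcop : (Nat.card P).Coprime (Nat.card N))
    (hF : ∀ n ∈ N, ∀ x ∈ P, x ≠ 1 → n * x = x * n → n ∈ centralizer (P : Set G))
    (hN : ¬ N ≤ centralizer (P : Set G)) {χ : G → ℂ} (hχ : IsCharacter G χ)
    (hf : ∀ g, χ g = χ 1 → g = 1) : Nat.card P < charDegree χ ^ 2 := by
  classical
  obtain ⟨R, ⟨hRN, hPR, hR⟩, hmin⟩ := (wellFounded_lt (α := Subgroup G)).has_min
    {R | R ≤ N ∧ P ≤ normalizer (R : Set G) ∧ ¬ R ≤ centralizer (P : Set G)} ⟨N, le_rfl, hPN, hN⟩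
  have h1 : ∀ S < R, P ≤ normalizer (S : Set G) → S ≤ centralizer (P : Set G) := fun S hS h => by
    by_contra h'
    exact hmin S ⟨hS.le.trans hRN, h, h'⟩ hS
  have hc : (Nat.card P).Coprime (Nat.card R) := hcop.coprime_dvd_right (card_dvd_of_le hRN)
  have hR1 : R ≠ ⊥ := fun h => hR (h ▸ bot_le)
  have h2 : Group.IsSolvable R := by
    by_contra hs
    refine hR (le_of_forall_exists_isSylowIn_le fun q hq => ?_)
    haveI := Fact.mk hq
    obtain ⟨S, h3, h4⟩ := exists_invariant_isSylowIn q hPR hc (Or.inl hP)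
    exact ⟨S, h3, h1 S (lt_of_le_of_ne h3.le fun e => hs (e ▸ isSolvable_of_isPGroup h3.isPGroup)) h4⟩
  have h3 : ⁅R, R⁆ ≤ centralizer (P : Set G) :=
    h1 _ (commutator_lt_of_isSolvable h2 hR1) (le_normalizer_commutator hPR hPR)
  have h4 : ⁅R, P⁆ = R := by
    by_contra h
    exact hR (commutator_eq_bot_iff_le_centralizer.mp (commutator_eq_bot_of_commutator_commutator_eq_bot hPR hc
      (commutator_eq_bot_iff_le_centralizer.mpr (h1 _ (lt_of_le_of_ne (commutator_le_left_of_le_normalizer hPR) h)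
        (le_normalizer_commutator hPR le_normalizer)))))
  have h5 : ⁅R, ⁅R, R⁆⁆ = ⊥ := by
    nth_rewrite 1 [← h4]
    refine commutator_commutator_eq_bot_of_rotate ?_ (commutator_eq_bot_iff_le_centralizer.mpr
      (le_trans ?_ h3))
    · rw [commutator_comm P, commutator_eq_bot_iff_le_centralizer.mpr h3, commutator_bot_left]
    · exact commutator_mono (commutator_le_left_of_le_normalizer le_normalizer) le_rfl
  have h6 : ∀ a b : R, ((a * b * a⁻¹ * b⁻¹ : R) : G) ∈ ⁅R, R⁆ := fun a b => commutator_mem_commutator a.2 b.2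
  haveI := Fintype.ofFinite R
  have hχR := hχ.restrict R
  obtain ⟨r₀, hr₀, hr₀'⟩ := SetLike.not_le_iff_exists.mp hR
  obtain ⟨ψ, hψ, hψ1, hψ2⟩ : ∃ ψ, IsIrrCharacter R ψ ∧ classInner (fun r : R => χ r) ψ ≠ 0 ∧ ψ ≠ fun _ => 1 := by
    by_contra h
    push Not at h
    have := hχR.mem_charKer.mp (hχR.mem_charKer_of_forall_constituent (g := ⟨r₀, hr₀⟩) fun ψ h1 h2 => by
      rw [h ψ h1 h2])
    exact hr₀' (by rw [show r₀ = 1 from hf _ this]; exact one_mem _)
  by_cases hlin : ψ 1 = 1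
  · obtain ⟨lam, rfl⟩ := hψ.isCharacter.exists_linear hlin
    have h7 : ∀ c : R, (c : G) ∈ centralizer (P : Set G) → lam c = 1 := fun c hc' => by
      haveI := Fintype.ofFinite P
      obtain ⟨μ, hμ⟩ : ∃ μ : R →* ℂˣ, ∀ r, μ r = ∏ y : P, lam (conjHom hPR y r) :=
        ⟨∏ y : P, lam.comp (conjHom hPR y).toMonoidHom, fun r => by simp [MonoidHom.finset_prod_apply]⟩
      have e1 : ⁅R, P⁆ ≤ μ.ker.map R.subtype := commutator_le.mpr fun r hr y hy =>
        ⟨⟨r, hr⟩ * conjHom hPR ⟨y, hy⟩ ⟨r, hr⟩⁻¹, by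
          rw [SetLike.mem_coe, MonoidHom.mem_ker, map_mul, hμ (conjHom _ _ _), mul_eq_one_iff_inv_eq, ← map_inv, hμ]
          exact (Fintype.prod_equiv (Equiv.mulRight ⟨y, hy⟩) _ _ fun z => by simp).symm, by
          simp [coe_conjHom, commutatorElement_def, mul_assoc]⟩
      obtain ⟨c', e2, e3⟩ := e1 (h4.ge c.2)
      obtain rfl : c' = c := Subtype.ext e3
      rw [SetLike.mem_coe, MonoidHom.mem_ker, hμ, Finset.prod_congr rfl fun y _ => by
        rw [(conjHom_eq_self_iff hPR y c').mpr (hc' y y.2).symm], Finset.prod_const, Finset.card_univ,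
        ← Nat.card_eq_fintype_card] at e2
      exact orderOf_eq_one_iff.mp (Nat.eq_one_of_dvd_coprimes hc (orderOf_dvd_of_pow_eq_one e2)
        (orderOf_dvd_of_pow_eq_one (by rw [← map_pow, pow_card_eq_one', map_one])))
    have h8 : Nat.card P ≤ charDegree fun r : R => χ r := card_le_charDegree hχR
      (fun y : P => ⟨_, isIrrCharacter_linear (lam.comp (conjHom hPR y).toMonoidHom)⟩) (fun y z h => by
        by_contra hne
        obtain ⟨x, hx⟩ : ∃ x, x = y * z⁻¹ := ⟨_, rfl⟩
        have e1 : ∀ r, lam (conjHom hPR x r) = lam r := fun r => by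
          have := congrFun (congrArg Subtype.val h) (conjHom hPR z⁻¹ r)
          rw [hx, map_mul, MulAut.mul_apply]
          exact Units.val_injective (this.trans (by simp))
        have e2 : (x : G) ≠ 1 := fun e => hne (by
          rwa [OneMemClass.coe_eq_one, hx, mul_inv_eq_one] at e)
        have e3 : ⁅R, zpowers (x : G)⁆ ≤ lam.ker.map R.subtype := commutator_le.mpr fun r hr w hw => by
          obtain ⟨k, rfl⟩ := mem_powers_iff_mem_zpowers.mpr hw
          refine ⟨⟨r, hr⟩ * conjHom hPR (x ^ k) ⟨r, hr⟩⁻¹, ?_, by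
            simp [-map_pow, coe_conjHom, commutatorElement_def, mul_assoc]⟩
          have : ∀ (k : ℕ) r, lam (conjHom hPR (x ^ k) r) = lam r := fun k => by
            induction k with
            | zero => simp
            | succ k ih => intro r; rw [pow_succ, map_mul, MulAut.mul_apply, ih, e1]
          rw [SetLike.mem_coe, MonoidHom.mem_ker, map_mul, this, ← map_mul, mul_inv_cancel, map_one]
        have e4 := commutator_le_left_of_le_normalizer ((zpowers_le.mpr x.2).trans hPR)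
        refine hψ2 (funext fun r => ?_)
        obtain ⟨n, hn, c, hc', e5⟩ := exists_commutator_mul_centralizer (A := zpowers (x : G)) (K := R)
          ((hc.coprime_dvd_left (card_dvd_of_le (zpowers_le.mpr x.2))).coprime_dvd_right (card_dvd_of_le e4))
          (Or.inl (isSolvable_zpowers _)) r.2
        obtain ⟨n, e6, rfl⟩ := e3 hn
        have e7 : c ∈ R := (R.mul_mem_cancel_left n.2).mp (e5 ▸ r.2)
        rw [show r = n * ⟨c, e7⟩ from Subtype.ext e5.symm, map_mul, e6,
          h7 _ (hF c (hRN e7) x x.2 e2 (hc' _ (mem_zpowers _)).symm), mul_one, Units.val_one])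
      fun y => by
        have := classInner_comp_equiv (fun r : R => χ r) (fun r => (lam r : ℂ)) (conjHom hPR y).toEquiv
        refine ne_of_eq_of_ne (Eq.trans ?_ this) hψ1
        congr 1
        exact funext fun r => (hχ.isClassFunction r y).symm
    have h9 := (Nat.two_le_iff _).mpr ⟨Nat.card_pos.ne', mt card_eq_one.mp hP1⟩
    change _ ≤ charDegree χ at h8
    nlinarith
  · have h7 : ∀ a b : R, a * b * a⁻¹ * b⁻¹ ∈ charCenter ψ := fun a b => hψ.center_le_charCenter
      (mem_center_iff.mpr fun r => Subtype.ext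
        (commutator_eq_bot_iff_le_centralizer.mp h5 r.2 _ (h6 a b)).symm)
    have h8 : (charCenter ψ).map R.subtype ≤ centralizer (P : Set G) := by
      refine h1 _ (lt_of_le_of_ne (map_subtype_le _) fun e => hlin (hψ.commutator_le_charKer_iff.mp
        (commutator_le.mpr fun a _ b _ => hψ.isCharacter.commutator_mem_charKer ?_ b))) fun y hy => ?_
      · obtain ⟨a', h, e'⟩ := e.ge a.2
        exact Subtype.ext e' ▸ h
      refine mem_normalizer_fintype ?_
      rintro _ ⟨z, hz, rfl⟩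
      refine ⟨conjHom hPR ⟨y, hy⟩ z, hψ.mem_charCenter_of_commutator fun r => ?_, rfl⟩
      obtain ⟨r, rfl⟩ := (conjHom hPR ⟨y, hy⟩).surjective r
      rw [← map_inv, ← map_inv, ← map_mul, ← map_mul, ← map_mul,
        (conjHom_eq_self_iff hPR _ _).mpr (h3 (h6 z r) y hy).symm]
      exact hψ.isCharacter.commutator_mem_charKer hz r
    have h9 : Nat.card (Option P) ≤ (charCenter ψ).index := by
      refine Nat.card_le_card_of_injective (β := R ⧸ charCenter ψ)
        (fun o => o.elim ((1 : R) : R ⧸ charCenter ψ) fun y => (conjHom hPR y ⟨r₀, hr₀⟩ : R)) ?_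
      have e1 : ∀ y : P, conjHom hPR y ⟨r₀, hr₀⟩ ∉ charCenter ψ := fun y h => hr₀' fun w hw => by
        have := h8 ⟨_, h, rfl⟩ (y * w * (y : G)⁻¹) (P.mul_mem (P.mul_mem y.2 hw) (P.inv_mem y.2))
        have e : w * (r₀ * (y : G)⁻¹) = r₀ * (w * (y : G)⁻¹) := by simpa [coe_conjHom, mul_assoc] using this
        exact mul_right_cancel (b := (y : G)⁻¹) (by rwa [mul_assoc, mul_assoc])
      rintro (_ | y) (_ | z) h
      · rfl
      · exact absurd (by simpa using QuotientGroup.eq.mp h) (e1 z)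
      · exact absurd (by simpa using QuotientGroup.eq.mp h.symm) (e1 y)
      have e2 := h8 ⟨_, QuotientGroup.eq.mp h, rfl⟩
      obtain ⟨c, hc'⟩ : ∃ c : R, c = (conjHom hPR y ⟨r₀, hr₀⟩)⁻¹ * conjHom hPR z ⟨r₀, hr₀⟩ := ⟨_, rfl⟩
      change ((conjHom hPR y ⟨r₀, hr₀⟩)⁻¹ * conjHom hPR z ⟨r₀, hr₀⟩ : R).1 ∈ _ at e2
      rw [← hc'] at e2
      have e3 : ∀ w : P, conjHom hPR w c = c := fun w => (conjHom_eq_self_iff hPR _ _).mpr (e2 w w.2).symm
      have e4 : conjHom hPR (y⁻¹ * z) ⟨r₀, hr₀⟩ = ⟨r₀, hr₀⟩ * c := by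
        rw [← e3 y⁻¹, hc', map_mul (conjHom hPR y⁻¹), map_inv (conjHom hPR y⁻¹), ← MulAut.mul_apply,
          ← MulAut.mul_apply, ← map_mul, ← map_mul, inv_mul_cancel, map_one, MulAut.one_apply, mul_inv_cancel_left]
      have e5 : ∀ k : ℕ, conjHom hPR ((y⁻¹ * z) ^ k) ⟨r₀, hr₀⟩ = ⟨r₀, hr₀⟩ * c ^ k := fun k => by
        induction k with
        | zero => simp
        | succ k ih => rw [pow_succ, map_mul, MulAut.mul_apply, e4, map_mul, ih, e3, mul_assoc, ← pow_succ]
      have e6 := e5 (Nat.card P)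
      rw [pow_card_eq_one', map_one, MulAut.one_apply, left_eq_mul] at e6
      rw [orderOf_eq_one_iff.mp (Nat.eq_one_of_dvd_coprimes hc (orderOf_dvd_of_pow_eq_one e6)
        (orderOf_dvd_natCard c)), mul_one, conjHom_eq_self_iff] at e4
      by_contra hne
      exact hr₀' (hF r₀ (hRN hr₀) _ (y⁻¹ * z).2 (fun e => hne (by
        rw [OneMemClass.coe_eq_one, inv_mul_eq_one] at e; rw [e])) e4)
    rw [← degree_sq_eq_index_charCenter hψ h7, Finite.card_option] at h9
    have h10 := hχR.degree_le_of_constituent hψ hψ1 hχ.charDegree_cast.symm hψ.isCharacter.charDegree_cast.symm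
    exact (Nat.lt_of_succ_le h9).trans_le (Nat.pow_le_pow_left h10 2)

end Cfsg.Agent.H8
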