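import Mathlib
import Cfsg.Agent.H8.Deg1
import Cfsg.Agent.H8.TI1
import Cfsg.Agent.H5.Exc
import Cfsg.Agent.H5.Clifford3
import Cfsg.Agent.S4456

/-!
Taketa's bound, Frobenius factor groups and character degrees.
-/

set_option autoImplicit false
set_option linter.dupNamespace false

namespace Cfsg.Agent.H8

open Cfsg Cfsg.Agent.H4 Cfsg.Agent.H5 Cfsg.Agent.H3
open scoped ComplexConjugate Pointwise commutatorElement

section taketa
variable {G : Type*} [Group G]

theorem eq_bot_of_forall_le_charKer [Finite G] {L : Subgroup G}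
    (h : ∀ χ, IsIrrCharacter G χ → L ≤ charKer χ) : L = ⊥ := by
  refine eq_bot_iff.2 fun g hg => ?_
  by_contra hne
  obtain ⟨χ, hχ, h1⟩ := exists_irr_apply_ne hne
  exact h1 (apply_of_mem_charKer (h χ hχ hg))

theorem le_of_forall_le_charKer [Finite G] {L N : Subgroup G} [N.Normal]
    (h : ∀ χ, IsIrrCharacter G χ → N ≤ charKer χ → L ≤ charKer χ) : L ≤ N := fun g hg => by
  by_contra hne
  obtain ⟨χ, hχ, h1, h2⟩ := exists_irr_ker_apply_ne N hne
  exact h2 (apply_of_mem_charKer (h χ hχ h1 hg))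

variable [Fintype G]

theorem mem_of_mem_charKer_indFun_one {H : Subgroup G} {g : G}
    (h1 : g ∈ charKer (indFun H (fun _ => (1 : ℂ)))) : g ∈ H := by
  have hchar := isCharacter_indFun H isCharacter_one
  rw [hchar.mem_charKer, indFun_one_eq_card_fixedBy, indFun_one_eq_card_fixedBy,
    MulAction.fixedBy_one_eq_univ, Nat.cast_inj] at h1
  have h2 : MulAction.fixedBy (G ⧸ H) g = Set.univ :=
    Set.eq_of_subset_of_ncard_le (Set.subset_univ _) h1.ge
  have h3 : ((1 : G) : G ⧸ H) ∈ MulAction.fixedBy (G ⧸ H) g := by rw [h2]; trivial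
  rw [MulAction.mem_fixedBy, MulAction.Quotient.smul_mk, QuotientGroup.eq] at h3
  simpa using h3

theorem le_of_forall_small {H L : Subgroup G}
    (h : ∀ ψ, IsIrrCharacter G ψ → charDegree ψ < H.index → L ≤ charKer ψ) : L ≤ H := by
  intro g hg
  have := Fintype.ofFinite H
  have hchar := isCharacter_indFun H isCharacter_one
  refine mem_of_mem_charKer_indFun_one
    (hchar.mem_charKer_of_forall_constituent fun ψ hψ hne => ?_)
  by_cases hψ1 : ψ = fun _ => 1
  · rw [hψ1]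
  refine apply_of_mem_charKer (h ψ hψ ?_ hg)
  have h2 := hchar.sub_irr isIrrCharacter_one (by
    rw [inner_indFun_left _ _ isIrrCharacter_one.isClassFunction, classInner_one_one]
    exact one_ne_zero)
  have h3 := degree_le_of_constituent h2 hψ (by
    rwa [classInner_sub_left, isIrrCharacter_one.classInner_of_ne hψ (Ne.symm hψ1), sub_zero])
  rw [Pi.sub_apply, indFun_one, ← hψ.isCharacter.charDegree_cast] at h3
  simp only [Complex.natCast_re, mul_one, Complex.sub_re, Complex.one_re] at h3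
  have h4 : (charDegree ψ : ℝ) < H.index := by linarith
  exact_mod_cast h4

theorem le_charKer_indFun {H L : Subgroup G} [hL : L.Normal] {θ : H → ℂ} (hθ : IsCharacter H θ)
    (h : L ≤ (charKer θ).map H.subtype) : L ≤ charKer (indFun H θ) := by
  intro g hg
  rw [(isCharacter_indFun H hθ).mem_charKer, indFun_apply', indFun_apply']
  congr 1
  refine Finset.sum_congr rfl fun x _ => ?_
  obtain ⟨y, hy, e⟩ := h (hL.conj_mem g hg x)
  rw [← e, mul_one, mul_inv_cancel, extendByZero_mem _ _ H.one_mem]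
  change extendByZero H _ (y : G) = θ 1
  rw [extendByZero_coe, apply_of_mem_charKer hy]

theorem taketa_step {H L : Subgroup G} [L.Normal] (lam : H →* ℂˣ)
    (h : ∀ ψ, IsIrrCharacter G ψ → charDegree ψ < H.index → L ≤ charKer ψ) :
    ⁅L, L⁆ ≤ charKer (indFun H fun h => (lam h : ℂ)) := by
  have hle := le_of_forall_small h
  refine le_charKer_indFun (isCharacter_linear lam) ?_
  rw [Subgroup.commutator_le, charKer_linear]
  intro a ha b hb
  refine ⟨⁅(⟨a, hle ha⟩ : H), ⟨b, hle hb⟩⁆, ?_, rfl⟩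
  rw [SetLike.mem_coe, MonoidHom.mem_ker, map_commutatorElement,
    commutatorElement_eq_one_iff_mul_comm, mul_comm]

theorem taketa_aux (hM : ∀ χ : G → ℂ, IsIrrCharacter G χ → ∃ (H : Subgroup G) (lam : H →* ℂˣ),
      χ = indFun H (fun h => (lam h : ℂ))) (k : ℕ) : ∀ χ, IsIrrCharacter G χ →
      {d ∈ charDegrees G | d ≤ charDegree χ}.ncard ≤ k → derivedSeries G k ≤ charKer χ := by
  induction k with
  | zero =>
    intro χ hχ h
    rw [Nat.le_zero, Set.ncard_eq_zero (finite_cd.subset (Set.sep_subset _ _))] at h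
    exact absurd h (Set.Nonempty.ne_empty ⟨_, charDegree_mem_cd hχ, le_rfl⟩)
  | succ k ih =>
    intro χ hχ h
    obtain ⟨H, lam, rfl⟩ := hM χ hχ
    refine taketa_step lam fun ψ hψ h1 => ih ψ hψ (Nat.le_of_lt_succ (lt_of_lt_of_le ?_ h))
    have h2 : charDegree (indFun H fun h => (lam h : ℂ)) = H.index :=
      charDegree_eq_of (by rw [indFun_one]; simp)
    refine Set.ncard_lt_ncard ⟨fun d hd => ⟨hd.1, by rw [h2]; exact hd.2.trans h1.le⟩,
      fun h3 => ?_⟩ (finite_cd.subset (Set.sep_subset _ _))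
    have h4 := (h3 ⟨charDegree_mem_cd hχ, le_rfl⟩).2
    omega

theorem taketa (hM : ∀ χ : G → ℂ, IsIrrCharacter G χ → ∃ (H : Subgroup G) (lam : H →* ℂˣ),
      χ = indFun H (fun h => (lam h : ℂ))) {k : ℕ} (hk : (charDegrees G).ncard ≤ k) :
    derivedSeries G k = ⊥ :=
  eq_bot_of_forall_le_charKer fun χ hχ => taketa_aux hM k χ hχ
    ((Set.ncard_le_ncard (Set.sep_subset _ _) finite_cd).trans hk)

end taketa

/-- `G / K` is a Frobenius group with abelian kernel `N / K`. -/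
structure FrobQ {G : Type*} [Group G] (K N : Subgroup G) : Prop where
  nK : K.Normal
  nN : N.Normal
  le : K ≤ N
  ne : K ≠ N
  comm : ∀ a ∈ N, ∀ b ∈ N, a * b * a⁻¹ * b⁻¹ ∈ K
  fpf : ∀ x, x ∉ N → ∀ n ∈ N, x * n * x⁻¹ * n⁻¹ ∈ K → n ∈ K

namespace FrobQ
variable {G : Type*} [Group G] [Finite G] {K N : Subgroup G} (F : FrobQ K N)
include F

theorem exists_comm {W : Subgroup G} (hWN : W ≤ N) {x : G} (hx : x ∉ N)
    (hxW : ∀ w ∈ W, x * w * x⁻¹ ∈ W) {w : G} (hw : w ∈ W) :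
    ∃ a ∈ W, ∃ k ∈ K, w = a⁻¹ * (x * a * x⁻¹) * k := by
  haveI := F.nK
  let π := QuotientGroup.mk' K
  let f : W.map π → W.map π := fun y => ⟨y⁻¹ * (π x * y * (π x)⁻¹), by
    obtain ⟨_, a, ha, rfl⟩ := y
    exact ⟨a⁻¹ * (x * a * x⁻¹), W.mul_mem (W.inv_mem ha) (hxW a ha), by simp⟩⟩
  have hf : Function.Injective f := by
    rintro ⟨_, a, ha, rfl⟩ ⟨_, b, hb, rfl⟩ h
    have e : (π a)⁻¹ * (π x * π a * (π x)⁻¹) = (π b)⁻¹ * (π x * π b * (π x)⁻¹) :=
      congrArg Subtype.val h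
    have h1 := F.fpf x hx (b * a⁻¹) (N.mul_mem (hWN hb) (N.inv_mem (hWN ha))) (by
      rw [← QuotientGroup.eq_one_iff]
      change π _ = 1
      simp only [map_mul, map_inv]
      calc _ = π b * ((π b)⁻¹ * (π x * π b * (π x)⁻¹)) *
          ((π a)⁻¹ * (π x * π a * (π x)⁻¹))⁻¹ * (π b)⁻¹ := by group
        _ = 1 := by rw [e]; group)
    rw [← QuotientGroup.eq_one_iff] at h1
    change π _ = 1 at h1
    rw [map_mul, map_inv, mul_inv_eq_one] at h1
    exact Subtype.ext h1.symm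
  obtain ⟨⟨_, a, ha, rfl⟩, hy⟩ := Finite.injective_iff_surjective.1 hf ⟨π w, w, hw, rfl⟩
  have e : (π a)⁻¹ * (π x * π a * (π x)⁻¹) = π w := congrArg Subtype.val hy
  refine ⟨a, ha, (a⁻¹ * (x * a * x⁻¹))⁻¹ * w, ?_, by group⟩
  rw [← QuotientGroup.eq_one_iff]
  change π _ = 1
  simp only [map_mul, map_inv]
  rw [e, inv_mul_cancel]

theorem linear_eq_one {W : Subgroup G} (hWN : W ≤ N) {x : G} (hx : x ∉ N)
    (hxW : ∀ w ∈ W, x * w * x⁻¹ ∈ W) (ν : N →* ℂˣ) (hν : ∀ k : N, (k : G) ∈ K → ν k = 1)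
    (h : ∀ w (hw : w ∈ W), ν ⟨_, hWN (hxW w hw)⟩ = ν ⟨w, hWN hw⟩) (w : N) (hw : (w : G) ∈ W) :
    ν w = 1 := by
  obtain ⟨a, ha, k, hk, e⟩ := F.exists_comm hWN hx hxW hw
  have : w = (⟨a, hWN ha⟩ : N)⁻¹ * ⟨_, hWN (hxW a ha)⟩ * ⟨k, F.le hk⟩ := Subtype.ext e
  rw [this, map_mul, map_mul, map_inv, h a ha, hν ⟨k, F.le hk⟩ hk, inv_mul_cancel, one_mul]

theorem exists_linear_ne {w : N} (hw : (w : G) ∉ K) :
    ∃ ν : N →* ℂˣ, (∀ k : N, (k : G) ∈ K → ν k = 1) ∧ ν w ≠ 1 := by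
  haveI := F.nK
  obtain ⟨χ, hχ, h1, h2⟩ := exists_irr_ker_apply_ne (K.subgroupOf N) (g := w) hw
  have h3 : χ 1 = 1 := hχ.commutator_le_charKer_iff.1 (by
    rw [commutator_def, Subgroup.commutator_le]
    exact fun a _ b _ => h1 (F.comm a a.2 b b.2))
  obtain ⟨ν, rfl⟩ := hχ.isCharacter.exists_linear h3
  rw [charKer_linear] at h1
  exact ⟨ν, fun k hk => h1 hk, fun h => h2 (by simp [h])⟩

theorem degree_or_vanish {ψ : N → ℂ} (hψ : IsIrrCharacter N ψ) {d : ℕ} (hd : ψ 1 = d) :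
    N.index * d ∈ charDegrees G ∨ ∀ n : N, (n : G) ∉ K → ψ n = 0 := by
  classical
  haveI := F.nK
  haveI := F.nN
  haveI := Fintype.ofFinite G
  haveI := Fintype.ofFinite N
  let E := NEmb.ofNormal N
  by_contra hc
  rw [not_or] at hc
  obtain ⟨h1, h2⟩ := hc
  push Not at h2
  obtain ⟨n0, hn0, hψ0⟩ := h2
  let A := {ν : N →* ℂˣ // ∀ k : N, (k : G) ∈ K → ν k = 1}
  have h3 : ∀ ν : A, ∃ x, x ∉ N ∧ x ∈ E.inertia (ψ * fun g => (ν.1 g : ℂ)) := fun ν => by
    by_contra h3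
    push Not at h3
    have h4 := (E.isIrr_indHom_iff (hψ.mul_linear ν.1)).2 fun x hx => by
      rw [NEmb.ofNormal_range]
      by_contra h4
      exact h3 x h4 hx
    refine h1 (mem_cd_of h4 ?_)
    rw [indHom_one_of_injective _ E.inj, NEmb.ofNormal_range]
    simp [hd]
  choose x hxN hx using h3
  let S : Set G := {g | ∃ n : N, ψ n ≠ 0 ∧ (n : G) = g}
  let W : Subgroup G := Subgroup.closure S
  have hWN : W ≤ N := (Subgroup.closure_le _).2 (by rintro _ ⟨n, -, rfl⟩; exact n.2)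
  have hx1 : ∀ ν n, ψ (E.act (x ν) n) * ν.1 (E.act (x ν) n) = ψ n * ν.1 n := fun ν n =>
    E.mem_inertia.1 (hx ν) n
  have hxW : ∀ ν, ∀ w ∈ W, x ν * w * (x ν)⁻¹ ∈ W := fun ν w hw => by
    induction hw using Subgroup.closure_induction with
    | mem g hg =>
      obtain ⟨n, hn, rfl⟩ := hg
      refine Subgroup.subset_closure ⟨E.act (x ν) n, fun h => ?_, rfl⟩
      have := hx1 ν n
      rw [h, zero_mul] at this
      exact mul_ne_zero hn (ν.1 n).ne_zero this.symm
    | one => simp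
    | mul a b _ _ ha hb =>
      have := W.mul_mem ha hb
      rwa [show x ν * a * (x ν)⁻¹ * (x ν * b * (x ν)⁻¹) = x ν * (a * b) * (x ν)⁻¹ by group] at this
    | inv a _ ha =>
      have := W.inv_mem ha
      rwa [show (x ν * a * (x ν)⁻¹)⁻¹ = x ν * a⁻¹ * (x ν)⁻¹ by group] at this
  let res : A → (W → ℂˣ) := fun ν w => ν.1 ⟨w, hWN w.2⟩
  obtain ⟨ν0, hν0, hν1⟩ := F.exists_linear_ne hn0
  have hn0W : (n0 : G) ∈ W := Subgroup.subset_closure ⟨n0, hψ0, rfl⟩
  let act : G → A → A := fun g ν => ⟨ν.1.comp (E.actEquiv g).toMonoidHom, fun k hk =>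
    ν.2 _ (F.nK.conj_mem _ hk g)⟩
  choose rep hrep using fun β : Set.range res => β.2
  let Φ : Set.range res → Set.range res := fun β => ⟨res (act (x (rep β)) ⟨ν0, hν0⟩), _, rfl⟩
  have hΦ : Function.Injective Φ := fun β β' h => by
    have h4 : ∀ w (hw : w ∈ W), ν0 (E.act (x (rep β)) ⟨w, hWN hw⟩) =
        ν0 (E.act (x (rep β')) ⟨w, hWN hw⟩) := fun w hw =>
      congrFun (congrArg Subtype.val h) ⟨w, hw⟩
    obtain ⟨y, hy⟩ : ∃ y, y = x (rep β) := ⟨_, rfl⟩
    obtain ⟨y', hy'⟩ : ∃ y, y = x (rep β') := ⟨_, rfl⟩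
    have hyW := hy ▸ hxW (rep β)
    have hyW' := hy' ▸ hxW (rep β')
    have hyW'' : ∀ w ∈ W, y'⁻¹ * w * y'⁻¹⁻¹ ∈ W := fun w hw =>
      H1.conj_mem_of_le_normalizer le_rfl
        (Subgroup.inv_mem _ (mem_normalizer_of_conj_mem hyW')) hw
    have h5 : y * y'⁻¹ ∈ N := by
      by_contra h5
      refine hν1 (F.linear_eq_one hWN h5 (fun w hw => ?_) ν0 hν0 (fun w hw => ?_) n0 hn0W)
      · have := hyW _ (hyW'' w hw)
        rwa [show y * (y'⁻¹ * w * y'⁻¹⁻¹) * y⁻¹ = y * y'⁻¹ * w * (y * y'⁻¹)⁻¹ by group] at this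
      · have := h4 _ (hyW'' w hw)
        rw [← hy, ← hy'] at this
        convert this using 2
        · exact Subtype.ext (by simp only [E, NEmb.ofNormal]; group)
        · exact Subtype.ext (by simp only [E, NEmb.ofNormal]; group)
    have h6 : y ∈ E.inertia (ψ * fun g => ((rep β').1 g : ℂ)) := by
      have h7 := Subgroup.mul_mem _ (E.f_mem_inertia (hψ.mul_linear (rep β').1).isClassFunction
        ⟨_, h5⟩) (hy' ▸ hx (rep β'))
      change y * y'⁻¹ * y' ∈ _ at h7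
      rwa [inv_mul_cancel_right] at h7
    have h7 : ∀ n : N, ψ n ≠ 0 → ((rep β).1 / (rep β').1) (E.act y n) =
        ((rep β).1 / (rep β').1) n := fun n hn => by
      have e1 := hx1 (rep β) n
      have e2 := E.mem_inertia.1 h6 n
      rw [← hy] at e1
      simp only [Pi.mul_apply] at e2
      apply Units.ext
      simp only [MonoidHom.div_apply, Units.val_div_eq_div_val]
      have h8 : ψ (E.act y n) ≠ 0 := fun h => by
        rw [h, zero_mul] at e1
        exact mul_ne_zero hn ((rep β).1 n).ne_zero e1.symm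
      rw [div_eq_div_iff (Units.ne_zero _) (Units.ne_zero _)]
      apply mul_left_cancel₀ (mul_ne_zero h8 hn)
      linear_combination (ψ n * ((rep β').1 n : ℂ)) * e1 - (ψ n * ((rep β).1 n : ℂ)) * e2
    have h8 := F.linear_eq_one hWN (hy ▸ hxN (rep β)) hyW ((rep β).1 / (rep β').1)
      (fun k hk => by rw [MonoidHom.div_apply, (rep β).2 k hk, (rep β').2 k hk, div_one])
      (fun w hw => by
        change ((rep β).1 / (rep β').1) (E.act y ⟨w, hWN hw⟩) = _
        induction hw using Subgroup.closure_induction with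
        | mem g hg =>
          obtain ⟨n, hn, rfl⟩ := hg
          exact h7 n hn
        | one => exact congrArg _ (E.act_one' y)
        | mul a b ha hb iha ihb =>
          have e : (⟨a * b, hWN (W.mul_mem ha hb)⟩ : N) = ⟨a, hWN ha⟩ * ⟨b, hWN hb⟩ := rfl
          rw [e, ← E.actEquiv_apply, map_mul, map_mul, map_mul, E.actEquiv_apply,
            E.actEquiv_apply, iha, ihb]
        | inv a ha iha =>
          have e : (⟨a⁻¹, hWN (W.inv_mem ha)⟩ : N) = (⟨a, hWN ha⟩ : N)⁻¹ := rfl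
          rw [e, ← E.actEquiv_apply, map_inv, map_inv, map_inv, E.actEquiv_apply, iha])
    apply Subtype.ext
    rw [← hrep β, ← hrep β']
    funext w
    exact div_eq_one.1 (h8 ⟨w, hWN w.2⟩ w.2)
  obtain ⟨β, hβ⟩ := Finite.injective_iff_surjective.1 hΦ ⟨res ⟨1, fun _ _ => rfl⟩, _, rfl⟩
  have h4 : (x (rep β))⁻¹ * n0 * (x (rep β))⁻¹⁻¹ ∈ W := H1.conj_mem_of_le_normalizer le_rfl
    (Subgroup.inv_mem _ (mem_normalizer_of_conj_mem (hxW (rep β)))) hn0W
  have h5 : ν0 (E.act (x (rep β)) ⟨_, hWN h4⟩) = 1 := congrFun (congrArg Subtype.val hβ) ⟨_, h4⟩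
  exact hν1 (by rw [← h5]; exact congrArg _ (Subtype.ext (by simp only [E, NEmb.ofNormal]; group)))

end FrobQ

end Cfsg.Agent.H8
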