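import Mathlib
import Cfsg.Agent.H8.Deg2

/-!
Groups with two or three character degrees.
-/

set_option autoImplicit false
set_option linter.dupNamespace false

namespace Cfsg.Agent.H8

open Cfsg Cfsg.Agent.H4 Cfsg.Agent.H5 Cfsg.Agent.H3
open scoped ComplexConjugate Pointwise commutatorElement

universe u

section basic
variable {G : Type*} [Group G] [Finite G]

theorem irr_res_of_coprime {N : Type*} [Group N] (E : NEmb N G) {χ : G → ℂ}
    (hχ : IsIrrCharacter G χ) {d : ℕ} (hd : χ 1 = d) (hcop : E.f.range.index.Coprime d) :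
    IsIrrCharacter N fun k => χ (E.f k) := by
  haveI := Fintype.ofFinite G
  haveI := E.finite
  haveI := Fintype.ofFinite N
  obtain ⟨θ, hθ, h5⟩ := exists_irr_under_hom E.f hχ
  obtain ⟨e, h6, h7⟩ := E.degree_dvd_index hθ hχ h5
  obtain rfl : e = 1 := Nat.eq_one_of_dvd_coprimes hcop h6 ⟨charDegree θ, by
    apply Nat.cast_injective (R := ℂ)
    push_cast
    rw [← hd, hθ.isCharacter.charDegree_cast, h7]⟩
  rw [eq_of_constituent_of_degree_le (hχ.isCharacter.comp E.f) hθ h5 (by simp [h7])]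
  exact hθ

theorem cd_mul_of_res_irr (K : Subgroup G) [K.Normal] {χ : G → ℂ} (hχ : IsIrrCharacter G χ)
    (hres : IsIrrCharacter K fun k => χ k) {d e : ℕ} (hd : χ 1 = d)
    (he : e ∈ charDegrees (G ⧸ K)) : e * d ∈ charDegrees G := by
  haveI := Fintype.ofFinite G
  haveI := Fintype.ofFinite K
  obtain ⟨τ, hτ, h1⟩ := mem_cd.1 he
  have h2 := (NEmb.ofNormal K).gallagher_irr hres hχ.isCharacter (fun _ => rfl) hτ.inflate
    (fun n => by
      rw [NEmb.ofNormal_f, (QuotientGroup.eq_one_iff _).2 n.2]; rfl)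
  refine mem_cd_of h2 ?_
  simp only [Pi.mul_apply, QuotientGroup.mk_one, h1, hd]
  push_cast; rfl

theorem cd_mul_of_coprime (K : Subgroup G) [K.Normal] {d e : ℕ} (hd : d ∈ charDegrees G)
    (hcop : K.index.Coprime d) (he : e ∈ charDegrees (G ⧸ K)) : e * d ∈ charDegrees G := by
  obtain ⟨χ, hχ, h1⟩ := mem_cd.1 hd
  exact cd_mul_of_res_irr K hχ (irr_res_of_coprime (NEmb.ofNormal K) hχ h1
    (by rwa [NEmb.ofNormal_range])) h1 he

theorem derivedSeries_le_of_quotient {N : Subgroup G} [N.Normal] {k : ℕ}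
    (h : derivedSeries (G ⧸ N) k = ⊥) : derivedSeries G k ≤ N := by
  have h1 := map_derivedSeries_le_derivedSeries (QuotientGroup.mk' N) k
  rw [h, le_bot_iff, Subgroup.map_eq_bot_iff, QuotientGroup.ker_mk'] at h1
  exact h1

theorem derivedSeries_add_le {A : Subgroup G} {j : ℕ} {i : ℕ}
    (h : derivedSeries G j ≤ (derivedSeries A i).map A.subtype) (k : ℕ) :
    derivedSeries G (j + k) ≤ (derivedSeries A (i + k)).map A.subtype := by
  induction k with
  | zero => exact h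
  | succ k ih =>
    rw [← add_assoc, ← add_assoc, derivedSeries_succ, derivedSeries_succ, Subgroup.map_commutator]
    exact Subgroup.commutator_mono ih ih

theorem derivedSeries_eq_bot_of_le {A : Subgroup G} {j i k : ℕ}
    (h : derivedSeries G j ≤ (derivedSeries A i).map A.subtype)
    (hA : derivedSeries A (i + k) = ⊥) : derivedSeries G (j + k) = ⊥ := by
  have := derivedSeries_add_le h k
  rwa [hA, Subgroup.map_bot, le_bot_iff] at this

theorem map_derivedSeries_one (A : Subgroup G) :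
    (derivedSeries A 1).map A.subtype = ⁅A, A⁆ := by
  rw [derivedSeries_one, Subgroup.map_subtype_commutator]

theorem map_derivedSeries_zero (A : Subgroup G) :
    (derivedSeries A 0).map A.subtype = A := by
  rw [derivedSeries_zero, ← MonoidHom.range_eq_map, Subgroup.range_subtype]

theorem derivedSeries_eq_bot_of_comm (h : ∀ a b : G, a * b = b * a) (k : ℕ) :
    derivedSeries G (k + 1) = ⊥ := by
  refine le_bot_iff.1 ((derivedSeries_antitone G (Nat.le_add_left 1 k)).trans ?_)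
  rw [derivedSeries_one, commutator_def, Subgroup.commutator_le]
  intro a _ b _
  rw [commutatorElement_def, h a b]; simp

theorem comm_of_derivedSeries_one (h : derivedSeries G 1 = ⊥) (a b : G) : a * b = b * a := by
  rw [← commutatorElement_eq_one_iff_mul_comm, ← Subgroup.mem_bot, ← h, derivedSeries_one]
  exact Subgroup.commutator_mem_commutator (Subgroup.mem_top a) (Subgroup.mem_top b)

theorem derivedSeries_one_eq_bot_of_cd (h : ∀ d ∈ charDegrees G, d = 1) :
    derivedSeries G 1 = ⊥ :=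
  derivedSeries_eq_bot_of_comm (comm_iff_cd.2 h) 0

/-- Thompson's normal complement, with the degree information. -/
theorem exists_compl_of_dvd_cd {p : ℕ} (hp : p.Prime) (h : ∀ d ∈ charDegrees G, d ≠ 1 → p ∣ d) :
    ∃ A : Subgroup G, A.Normal ∧ (Nat.card A).Coprime p ∧ (∃ k, A.index = p ^ k) ∧
      (∀ c ∈ charDegrees A, ∃ d ∈ charDegrees G, ordCompl[p] d = c) := by
  obtain ⟨A, hA, h1, k, hk⟩ := S4456.result p hp fun χ => h _ ⟨χ, rfl⟩
  refine ⟨A, hA, h1, ⟨k, hk⟩, fun c hc => ?_⟩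
  obtain ⟨e, he, h2⟩ := cd_over_normal A hc
  rw [hk] at he
  obtain ⟨j, -, rfl⟩ := (Nat.dvd_prime_pow hp).1 he
  refine ⟨_, h2, ?_⟩
  have h3 : ¬ p ∣ c := fun h3 => (Nat.Prime.coprime_iff_not_dvd hp).1 h1.symm
    (h3.trans (dvd_card_of_mem_cd hc))
  rw [Nat.ordCompl_mul, Nat.Prime.factorization_pow hp, (Nat.ordCompl_eq_self_iff_zero_or_not_dvd
    c hp).2 (Or.inr h3)]
  simp [hp.pos]

theorem cd_quotient_commutator_dvd (A : Subgroup G) [A.Normal] {d : ℕ}
    (hd : d ∈ charDegrees (G ⧸ ⁅A, A⁆)) : d ∣ A.index := by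
  have h1 := cd_dvd_index_of_comm (A := A.map (QuotientGroup.mk' ⁅A, A⁆)) (by
    rintro _ ⟨a, ha, rfl⟩ _ ⟨b, hb, rfl⟩
    rw [← commutatorElement_eq_one_iff_mul_comm, ← map_commutatorElement]
    exact (QuotientGroup.eq_one_iff _).2 (Subgroup.commutator_mem_commutator ha hb)) hd
  exact h1.trans (Subgroup.index_map_dvd _ (QuotientGroup.mk'_surjective _))

theorem taketa_of_abelian {A : Subgroup G} [A.Normal] (hA : ∀ a ∈ A, ∀ b ∈ A, a * b = b * a)
    (hn : Group.IsNilpotent (G ⧸ A)) {k : ℕ} (hk : (charDegrees G).ncard ≤ k) :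
    derivedSeries G k = ⊥ := by
  haveI := Fintype.ofFinite G
  refine taketa (fun χ hχ => ?_) hk
  obtain ⟨H, lam, -, h⟩ := exists_indFun_linear_of_abelian_nilpotent A hA hχ
  exact ⟨H, lam, h⟩

theorem isNilpotent_quotient_of_index {A : Subgroup G} [A.Normal] {p k : ℕ} (hp : p.Prime)
    (h : A.index = p ^ k) : Group.IsNilpotent (G ⧸ A) :=
  haveI := Fact.mk hp
  (IsPGroup.of_card (G := G ⧸ A) h).isNilpotent

theorem ordCompl_eq_one_of_dvd {p k d : ℕ} (hp : p.Prime) (h : d ∣ p ^ k) : ordCompl[p] d = 1 := by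
  obtain ⟨j, -, rfl⟩ := (Nat.dvd_prime_pow hp).1 h
  rw [Nat.Prime.factorization_pow hp]
  simp [hp.pos]

end basic

theorem two_degrees (G : Type u) [Group G] [Finite G] :
    ∀ m : ℕ, (∀ d ∈ charDegrees G, d = 1 ∨ d = m) → derivedSeries G 2 = ⊥ := by
  refine H2.card_induction (P := fun G _ _ => ∀ m : ℕ, (∀ d ∈ charDegrees G, d = 1 ∨ d = m) →
    derivedSeries G 2 = ⊥) (fun G _ _ ih => ?_) G
  intro m h
  by_cases hm : m = 1
  · exact derivedSeries_eq_bot_of_comm (comm_iff_cd.2 fun d hd => (h d hd).elim id (hm ▸ id)) 1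
  obtain ⟨p, hp, hpm⟩ := Nat.exists_prime_and_dvd hm
  obtain ⟨A, hA, h1, ⟨k, hk⟩, h2⟩ := exists_compl_of_dvd_cd (G := G) hp
    fun d hd hd1 => ((h d hd).resolve_left hd1).symm ▸ hpm
  by_cases hm' : ordCompl[p] m = 1
  · have h3 : ∀ a b : A, a * b = b * a := comm_iff_cd.2 fun c hc => by
      obtain ⟨d, hd, rfl⟩ := h2 c hc
      rcases h d hd with rfl | rfl
      · simp
      · exact hm'
    refine taketa_of_abelian (A := A) (fun a ha b hb => congrArg Subtype.val (h3 ⟨a, ha⟩ ⟨b, hb⟩))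
      (isNilpotent_quotient_of_index hp hk) ?_
    exact (Set.ncard_le_ncard (t := {1, m}) h).trans ((Set.ncard_insert_le 1 {m}).trans (by simp))
  have h3 : derivedSeries G 1 ≤ ⁅A, A⁆ :=
    derivedSeries_le_of_quotient (derivedSeries_one_eq_bot_of_cd fun d hd => by
      rcases h d (cd_quotient_subset _ hd) with rfl | rfl
      · rfl
      · exact (hm' (ordCompl_eq_one_of_dvd hp (hk ▸ cd_quotient_commutator_dvd A hd))).elim)
  by_cases hAt : A = ⊤
  · subst hAt
    refine derivedSeries_eq_bot_of_comm (comm_iff_cd.2 fun d hd => (h d hd).resolve_right ?_) 1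
    rintro rfl
    rw [Subgroup.card_top] at h1
    exact (Nat.Prime.coprime_iff_not_dvd hp).1 h1.symm (hpm.trans (dvd_card_of_mem_cd hd))
  refine derivedSeries_eq_bot_of_le (A := A) (j := 1) (i := 1) (k := 1)
    (by rwa [map_derivedSeries_one]) (ih A (H1.card_lt_of_ne_top hAt) (ordCompl[p] m)
      fun c hc => ?_)
  obtain ⟨d, hd, rfl⟩ := h2 c hc
  rcases h d hd with rfl | rfl
  · simp
  · exact Or.inr rfl

section types
variable {G : Type*} [Group G] [Fintype G] {m n : ℕ}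

theorem inner_mul_swap {χ ψ ξ : G → ℂ} (hχ : IsCharacter G χ) (hψ : IsCharacter G ψ)
    (hξ : IsCharacter G ξ) :
    classInner (χ * ψ) ξ = classInner (ξ * fun g => conj (ψ g)) χ := by
  rw [classInner_mul_left, hχ.classInner_comm (ψ := fun g => conj (ψ g) * ξ g) (hψ.conj.mul hξ)]
  congr 1
  funext g
  exact mul_comm _ _

theorem type_dichotomy (h : ∀ d ∈ charDegrees G, d = 1 ∨ d = m ∨ d = n) (hmn : m.Coprime n)
    (hne : m ≠ n) {χ ψ : G → ℂ} (hχ : IsIrrCharacter G χ) (hψ : IsIrrCharacter G ψ)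
    (h1 : χ 1 = m) (h2 : ψ 1 = n) :
    (∀ ξ, IsIrrCharacter G ξ → classInner (χ * ψ) ξ ≠ 0 → ξ 1 = m) ∨
      ∀ ξ, IsIrrCharacter G ξ → classInner (χ * ψ) ξ ≠ 0 → ξ 1 = n := by
  classical
  have hc := hχ.isCharacter.mul hψ.isCharacter
  have hdeg : ∀ ξ, IsIrrCharacter G ξ → classInner (χ * ψ) ξ ≠ 0 →
      charDegree ξ = m ∨ charDegree ξ = n := fun ξ hξ h3 => by
    rcases h _ (charDegree_mem_cd hξ) with h4 | h4
    · have h5 : ξ 1 = 1 := by rw [← hξ.isCharacter.charDegree_cast, h4]; simp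
      rw [inner_mul_swap hχ.isCharacter hψ.isCharacter hξ.isCharacter] at h3
      have h6 := (isIrr_mul_of_linear hξ.isCharacter h5 hψ.conj).eq_of_classInner_ne_zero hχ h3
      have h7 := congrFun h6 1
      simp only [Pi.mul_apply, h5, h1, h2, one_mul, map_natCast, Nat.cast_inj] at h7
      exact (hne h7.symm).elim
    · exact h4
  have hsum := charDegree_eq_sum_nin hc
  rw [charDegree_eq_of (d := m * n) (by simp [h1, h2]),
    ← Finset.sum_filter_add_sum_filter_not _ fun η : IrrCharacter G => charDegree η.1 = m] at hsum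
  have e1 : ∑ η : IrrCharacter G with charDegree η.1 = m, nin (χ * ψ) η * charDegree η.1 =
      (∑ η : IrrCharacter G with charDegree η.1 = m, nin (χ * ψ) η) * m := by
    rw [Finset.sum_mul]
    exact Finset.sum_congr rfl fun η hη => by rw [(Finset.mem_filter.1 hη).2]
  have e2 : ∑ η : IrrCharacter G with ¬ charDegree η.1 = m, nin (χ * ψ) η * charDegree η.1 =
      (∑ η : IrrCharacter G with ¬ charDegree η.1 = m, nin (χ * ψ) η) * n := by
    rw [Finset.sum_mul]
    refine Finset.sum_congr rfl fun η hη => ?_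
    by_cases h3 : nin (χ * ψ) η = 0
    · simp [h3]
    · rw [(hdeg η η.2 ((nin_ne_zero_iff hc η.2.isCharacter).1 h3)).resolve_left
        (Finset.mem_filter.1 hη).2]
  rw [e1, e2] at hsum
  generalize hB : ∑ η : IrrCharacter G with charDegree η.1 = m, nin (χ * ψ) η = B at hsum
  generalize hC : ∑ η : IrrCharacter G with ¬ charDegree η.1 = m, nin (χ * ψ) η = C at hsum
  have hm0 : 0 < m := pos_of_mem_cd (mem_cd_of hχ h1)
  have hn0 : 0 < n := pos_of_mem_cd (mem_cd_of hψ h2)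
  have h3 : m ∣ C := hmn.dvd_of_dvd_mul_right
    ((Nat.dvd_add_right (Nat.dvd_mul_left m B)).1 (hsum ▸ Nat.dvd_mul_right m n))
  have h4 : C = 0 ∨ B = 0 := by
    obtain ⟨c, rfl⟩ := h3
    rcases c with _ | c
    · simp
    · right
      by_contra h5
      have := Nat.pos_of_ne_zero h5
      nlinarith [Nat.mul_pos hm0 hn0, Nat.zero_le (m * c * n), Nat.mul_pos this hm0]
  rcases h4 with rfl | rfl
  · refine Or.inl fun ξ hξ h5 => ?_
    rw [← hξ.isCharacter.charDegree_cast]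
    by_contra h6
    have := (Finset.sum_eq_zero_iff.1 hC) ⟨ξ, hξ⟩ (Finset.mem_filter.2 ⟨Finset.mem_univ _,
      fun h7 => h6 (by rw [← h7])⟩)
    exact (nin_ne_zero_iff hc hξ.isCharacter).2 h5 this
  · refine Or.inr fun ξ hξ h5 => ?_
    rw [← hξ.isCharacter.charDegree_cast, (hdeg ξ hξ h5).resolve_left fun h7 => ?_]
    have := (Finset.sum_eq_zero_iff.1 hB) ⟨ξ, hξ⟩ (Finset.mem_filter.2 ⟨Finset.mem_univ _, h7⟩)
    exact (nin_ne_zero_iff hc hξ.isCharacter).2 h5 this

/-- The irreducible characters of degree `m` whose product with `ψ` has only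
constituents of degree `m`. -/
noncomputable def typeSet (m : ℕ) (ψ : G → ℂ) : Finset (IrrCharacter G) :=
  bfin {χ | χ.1 1 = (m : ℂ) ∧
    ∀ ξ, IsIrrCharacter G ξ → classInner (χ.1 * ψ) ξ ≠ 0 → ξ 1 = (m : ℂ)}

theorem mem_typeSet {ψ : G → ℂ} {χ : IrrCharacter G} : χ ∈ typeSet m ψ ↔ χ.1 1 = (m : ℂ) ∧
    ∀ ξ, IsIrrCharacter G ξ → classInner (χ.1 * ψ) ξ ≠ 0 → ξ 1 = (m : ℂ) := mem_bfin

/-- The sum over `typeSet`. -/
noncomputable def typeSum (m : ℕ) (ψ : G → ℂ) : G → ℂ := ∑ χ ∈ typeSet m ψ, χ.1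

theorem mul_typeSum (h : ∀ d ∈ charDegrees G, d = 1 ∨ d = m ∨ d = n) (hmn : m.Coprime n)
    (hne : m ≠ n) {ψ : G → ℂ} (hψ : IsIrrCharacter G ψ) (h2 : ψ 1 = n) (hm0 : m ≠ 0) :
    typeSum m ψ * ψ = (n : ℂ) • typeSum m fun g => conj (ψ g) := by
  classical
  have hcl : ∀ φ : G → ℂ, IsClassFunction G (typeSum m φ) := fun φ =>
    isClassFunction_sum _ _ fun χ _ => χ.2.isClassFunction
  have h2' : (fun g => conj (ψ g)) 1 = n := by simp [h2]
  have hne' : (m : ℂ) ≠ n := by exact_mod_cast hne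
  refine ((hcl ψ).mul hψ.isClassFunction).ext_irr ((hcl _).smul _) fun ξ hξ => ?_
  rw [classInner_smul_left, typeSum, typeSum, Finset.sum_mul, classInner_sum_left,
    classInner_sum_left]
  have hc := hξ.isCharacter.mul hψ.isCharacter.conj
  simp only [fun χ : IrrCharacter G => inner_mul_swap χ.2.isCharacter hψ.isCharacter
    hξ.isCharacter (χ := χ.1)]
  by_cases h3 : ξ 1 = m ∧ ∀ η, IsIrrCharacter G η →
      classInner (ξ * fun g => conj (ψ g)) η ≠ 0 → η 1 = m
  · rw [Finset.sum_eq_single (f := fun χ : IrrCharacter G => classInner χ.1 ξ) ⟨ξ, hξ⟩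
      (fun χ _ h4 => χ.2.classInner_of_ne hξ
      fun h5 => h4 (Subtype.ext h5)) (fun h4 => (h4 (mem_typeSet.2 h3)).elim),
      hξ.classInner_self, mul_one, Finset.sum_subset (Finset.subset_univ _)
        fun χ _ h4 => by_contra fun h4' => h4 (mem_typeSet.2 ?_)]
    · apply mul_right_cancel₀ (Nat.cast_ne_zero.2 hm0 : (m : ℂ) ≠ 0)
      have h5 := hc.isClassFunction.apply_eq_sum 1
      simp only [Pi.mul_apply, h3.1, h2, map_natCast] at h5
      rw [mul_comm (n : ℂ), h5, Finset.sum_mul]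
      refine Finset.sum_congr rfl fun χ _ => ?_
      by_cases h6 : classInner (ξ * fun g => conj (ψ g)) χ.1 = 0
      · rw [h6, zero_mul, zero_mul]
      · rw [h3.2 χ χ.2 h6]
    · have h5 := h3.2 χ χ.2 h4'
      refine ⟨h5, (type_dichotomy h hmn hne χ.2 hψ h5 h2).resolve_right fun h6 => hne' ?_⟩
      rw [← h3.1, h6 ξ hξ (by
        rwa [inner_mul_swap χ.2.isCharacter hψ.isCharacter hξ.isCharacter])]
  · rw [Finset.sum_eq_zero fun χ hχ => ?_, Finset.sum_eq_zero fun χ hχ => ?_, mul_zero]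
    · exact χ.2.classInner_of_ne hξ fun h4 => h3 (h4 ▸ mem_typeSet.1 hχ)
    · by_contra h4
      obtain ⟨h5, h6⟩ := mem_typeSet.1 hχ
      have h7 := h6 ξ hξ (by
        rwa [inner_mul_swap χ.2.isCharacter hψ.isCharacter hξ.isCharacter])
      refine h3 ⟨h7, (type_dichotomy h hmn hne hξ hψ.conj h7 h2').resolve_right fun h8 => hne' ?_⟩
      rw [← h5, h8 χ χ.2 h4]

theorem typeSum_eq_zero (h : ∀ d ∈ charDegrees G, d = 1 ∨ d = m ∨ d = n)
    (hmn : m.Coprime n) (hne : m ≠ n) (hm0 : m ≠ 0) {ψ : G → ℂ}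
    (hψ : IsIrrCharacter G ψ) (h2 : ψ 1 = n) {g : G} (hg : g ∉ charCenter ψ) :
    typeSum m ψ g = 0 := by
  have e1 := mul_typeSum h hmn hne hψ h2 hm0
  have e2 := mul_typeSum h hmn hne hψ.conj (by simp [h2]) hm0
  rw [show (fun g => conj (conj (ψ g))) = ψ from funext fun g => Complex.conj_conj _] at e2
  by_contra h5
  have e3 := congrFun e1 g
  have e4 := congrFun e2 g
  rw [Pi.mul_apply, Pi.smul_apply, smul_eq_mul] at e3 e4
  generalize typeSum m ψ g = u at e3 e4 h5
  generalize typeSum m (fun g => conj (ψ g)) g = v at e3 e4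
  have e5 : ψ g * conj (ψ g) = n * n := by
    apply mul_left_cancel₀ h5
    linear_combination conj (ψ g) * e3 + n * e4
  refine hg (hψ.isCharacter.mem_charCenter.2 ?_)
  rw [Complex.mul_conj, Complex.normSq_eq_norm_sq] at e5
  have e6 : ‖ψ g‖ ^ 2 = (n : ℝ) ^ 2 := by rw [sq (n : ℝ)]; exact_mod_cast e5
  rw [h2, Complex.norm_natCast]
  exact (sq_eq_sq₀ (norm_nonneg _) (Nat.cast_nonneg _)).1 e6

theorem not_type_of_charCenter (h : ∀ d ∈ charDegrees G, d = 1 ∨ d = m ∨ d = n)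
    (hmn : m.Coprime n) (hne : m ≠ n) (hm1 : m ≠ 1) {χ ψ : G → ℂ} (hχ : IsIrrCharacter G χ)
    (hψ : IsIrrCharacter G ψ) (h1 : χ 1 = m) (h2 : ψ 1 = n) (hZ : charCenter ψ = ⊥) :
    ¬ ∀ ξ, IsIrrCharacter G ξ → classInner (χ * ψ) ξ ≠ 0 → ξ 1 = m := by
  classical
  intro h3
  have hm0 : m ≠ 0 := (pos_of_mem_cd (mem_cd_of hχ h1)).ne'
  have h4 : ∀ g, g ≠ 1 → typeSum m ψ g = 0 := fun g hg =>
    typeSum_eq_zero h hmn hne hm0 hψ h2 (by rwa [hZ, Subgroup.mem_bot])
  have h5 : classInner (typeSum m ψ) (fun _ => 1) = 0 := by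
    unfold typeSum
    rw [classInner_sum_left]
    refine Finset.sum_eq_zero fun η hη => η.2.classInner_of_ne isIrrCharacter_one fun h6 => hm1 ?_
    have h7 : η.1 1 = m := (mem_typeSet.1 hη).1
    rw [h6] at h7
    exact Nat.cast_eq_one.1 h7.symm
  rw [classInner_one_right, Finset.sum_eq_single 1 (fun g _ hg => h4 g hg)
    (fun h => (h (Finset.mem_univ _)).elim)] at h5
  have h6 : typeSum m ψ 1 = 0 :=
    (mul_eq_zero.1 h5).resolve_left (inv_ne_zero natCard_ne_zero')
  unfold typeSum at h6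
  rw [Finset.sum_apply, Finset.sum_congr rfl (g := fun _ => (m : ℂ))
    fun η hη => (mem_typeSet.1 hη).1,
    Finset.sum_const, nsmul_eq_mul, mul_eq_zero, Nat.cast_eq_zero,
    Nat.cast_eq_zero, Finset.card_eq_zero] at h6
  have h7 : (⟨χ, hχ⟩ : IrrCharacter G) ∈ typeSet m ψ := mem_typeSet.2 ⟨h1, h3⟩
  rw [h6.resolve_right hm0] at h7
  exact Finset.notMem_empty _ h7

end types

/-- A perfect normal subgroup of order divisible by `p` is not in the kernel of some character of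
degree prime to `p`. -/
theorem exists_not_le_charKer_not_dvd {G : Type*} [Group G] [Finite G] {N : Subgroup G} [N.Normal]
    (hN : ⁅N, N⁆ = N) {p : ℕ} [hp : Fact p.Prime] (h : p ∣ Nat.card N) :
    ∃ χ, IsIrrCharacter G χ ∧ ¬ N ≤ charKer χ ∧ ¬ p ∣ charDegree χ := by
  classical
  haveI := Fintype.ofFinite G
  haveI := Fintype.ofFinite N
  let P : Sylow p G := default
  have hPN : (P : Subgroup G) ≤ Subgroup.normalizer (N : Set G) := Subgroup.le_normalizer_of_normal
  have h1 : (Nat.card N : ZMod p) = ∑ θ : IrrCharacter N, (charDegree θ.1 : ZMod p) ^ 2 := by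
    have h2 := sum_irr_degree_sq (G := N)
    simp only [← irr_coe_charDegree] at h2
    have h3 : ∑ θ : IrrCharacter N, charDegree θ.1 ^ 2 = Nat.card N := by exact_mod_cast h2
    rw [← h3]; push_cast; rfl
  rw [sum_irr_eq_sum_sInv P.2 hPN _ (fun x hx χ => by
    congr 2; unfold charDegree; rw [cjI_apply, map_one]), (ZMod.natCast_eq_zero_iff _ _).2 h] at h1
  obtain ⟨θ, hθ1, hθ2, hθ3⟩ : ∃ θ : IrrCharacter N, SInv P θ.1 ∧ θ ≠ irrOne N ∧
      ¬ p ∣ charDegree θ.1 := by
    by_contra h2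
    push Not at h2
    rw [Finset.sum_eq_single (irrOne N) (fun θ hθ h3 => by
      rw [(ZMod.natCast_eq_zero_iff _ _).2 (h2 θ (Finset.mem_filter.1 hθ).2 h3)]; simp)
      (fun h3 => (h3 (Finset.mem_filter.2 ⟨Finset.mem_univ _, fun _ _ _ _ _ => rfl⟩)).elim)] at h1
    have : charDegree (irrOne N).1 = 1 := charDegree_one
    simp [this] at h1
  let H := N ⊔ (P : Subgroup G)
  haveI := Fintype.ofFinite H
  let E := NEmb.ofLeNormal (le_sup_left : N ≤ H)
  obtain ⟨a, ha⟩ : ∃ a, E.f.range.index = p ^ a := by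
    rw [NEmb.ofLeNormal_index, H1.relIndex_sup_of_le_normalizer hPN]
    obtain ⟨k, hk⟩ := IsPGroup.iff_card.1 P.2
    obtain ⟨a, -, ha⟩ := (Nat.dvd_prime_pow hp.out).1 (hk ▸ Subgroup.relIndex_dvd_card N P)
    exact ⟨a, ha⟩
  have hdet : detOrder θ.1 = 1 := by
    rw [detOrder_eq, orderOf_eq_one_iff]
    ext1 x
    have h3 : x ∈ commutator N := by
      have : (x : G) ∈ ⁅N, N⁆ := hN.symm ▸ x.2
      rw [← Subgroup.map_subtype_commutator] at this
      obtain ⟨y, hy, e⟩ := this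
      exact (Subtype.ext e : y = x) ▸ hy
    exact Abelianization.commutator_subset_ker _ h3
  obtain ⟨φ, hφ, h3, -⟩ := E.exists_canonical_ext θ.2 (fun g n => by
      obtain ⟨k, hk, s, hs, e⟩ := (H1.mem_sup_of_le_normalizer_left hPN).1 g.2
      exact EInv.mul (hPN hs) (eInv_of_mem hk θ.2.isClassFunction) (hθ1 s hs) _ _ (by
        rw [e]; rfl))
    (irr_coe_charDegree θ).symm
    (by rw [ha]; exact ((Nat.Prime.coprime_iff_not_dvd hp.out).2 hθ3).pow_left a)
    (by rw [hdet]; exact Nat.coprime_one_right _)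
  have hc := isCharacter_indFun H hφ.isCharacter
  have h4 : ¬ p ∣ charDegree (indFun H φ) := by
    rw [charDegree_eq_of (d := H.index * charDegree θ.1) (by
      rw [indFun_one, ← map_one E.f, h3, ← irr_coe_charDegree]; push_cast; rfl)]
    exact fun h5 => ((Nat.Prime.dvd_mul hp.out).1 h5).elim
      (fun h6 => P.not_dvd_index (h6.trans (Subgroup.index_dvd_of_le le_sup_right))) hθ3
  rw [charDegree_eq_sum_nin hc] at h4
  obtain ⟨χ, -, h5⟩ := Finset.exists_ne_zero_of_sum_ne_zero (s := Finset.univ)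
    (f := fun η : IrrCharacter G => ((nin (indFun H φ) η * charDegree η.1 : ℕ) : ZMod p)) (by
      rw [← Nat.cast_sum, Ne, ZMod.natCast_eq_zero_iff]; exact h4)
  rw [Ne, ZMod.natCast_eq_zero_iff] at h5
  refine ⟨χ, χ.2, fun h6 => hθ2 (Subtype.ext (θ.2.eq_one_of_forall_eq fun x => ?_)),
    fun h6 => h5 (h6.mul_left _)⟩
  have h7 : nin (indFun H φ) χ ≠ 0 := fun h7 => h5 (by simp [h7])
  rw [nin_ne_zero_iff hc χ.2.isCharacter, inner_indFun_left _ _ χ.2.isClassFunction,
    hφ.isCharacter.classInner_comm (χ.2.isCharacter.restrict H)] at h7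
  have h8 := (χ.2.isCharacter.restrict H).charKer_le_of_constituent hφ h7 (x := E.f x)
    ((χ.2.isCharacter.restrict H).mem_charKer.2 (apply_of_mem_charKer (h6 x.2)))
  rw [← h3, ← h3, map_one]
  exact apply_of_mem_charKer h8

section minquot
variable {G : Type*} [Group G] [Finite G]

theorem isPGroup_of_forall_prime {p : ℕ} (h : ∀ q : ℕ, q.Prime → q ∣ Nat.card G → q = p) :
    IsPGroup p G :=
  IsPGroup.of_card (Nat.eq_prime_pow_of_unique_prime_dvd Nat.card_pos.ne' fun hq h1 => h _ hq h1)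

theorem isNilpotent_of_commutator_le_center (h : commutator G ≤ Subgroup.center G) :
    Group.IsNilpotent G :=
  isNilpotent_of_ker_le_center (Abelianization.of (G := G)) (by rwa [Abelianization.ker_of])

omit [Finite G] in
theorem comm_of_commutator_eq {x a b : G} (h : x * a * x⁻¹ * a⁻¹ = x * b * x⁻¹ * b⁻¹) :
    b⁻¹ * a * x = x * (b⁻¹ * a) :=
  calc b⁻¹ * a * x = b⁻¹ * (x * a * x⁻¹ * a⁻¹)⁻¹ * x * a := by group
    _ = x * (b⁻¹ * a) := by rw [h]; group

theorem min_nonabelian (hs : Group.IsSolvable G) (hna : commutator G ≠ ⊥)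
    (hmin : ∀ L : Subgroup G, L.Normal → L ≠ ⊥ → commutator G ≤ L) :
    (∃ p : ℕ, p.Prime ∧ IsPGroup p G ∧ commutator G ≤ Subgroup.center G) ∨
      (FrobQ ⊥ (commutator G) ∧ ∃ q : ℕ, q.Prime ∧ IsPGroup q (commutator G)) := by
  have hD : H2.IsMinNormal (commutator G) := by
    obtain ⟨M, hM, h1⟩ := H2.exists_isMinNormal_le (N := commutator G) inferInstance hna
    rwa [← h1.antisymm (hmin M hM.normal hM.ne_bot)]
  obtain ⟨hc, q, hq, hqD⟩ := hD.exists_isPGroup inferInstance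
  have hcomm : ∀ a ∈ commutator G, ∀ b ∈ commutator G, a * b = b * a := fun a ha b hb =>
    H2.mul_comm_of_mem ha hb
  have hmem : ∀ a b : G, a * b * a⁻¹ * b⁻¹ ∈ commutator G := fun a b =>
    Subgroup.commutator_mem_commutator (Subgroup.mem_top a) (Subgroup.mem_top b)
  by_cases hZ : Subgroup.center G = ⊥
  · refine Or.inr ⟨⟨inferInstance, inferInstance, bot_le, hna.symm, fun a ha b hb => by
      rw [hcomm a ha b hb]; simp, fun x hx n hn h1 => ?_⟩, q, hq, hqD⟩
    have key : ∀ x, x ∉ Subgroup.centralizer (commutator G : Set G) →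
        commutator G ⊓ Subgroup.centralizer {x} = ⊥ := fun x hx => by
      by_contra h2
      refine hx fun d hd => ?_
      have h3 : (commutator G ⊓ Subgroup.centralizer {x}).Normal := ⟨fun c hc y =>
        Subgroup.mem_inf.2 ⟨Subgroup.Normal.conj_mem inferInstance c hc.1 y, by
        have h4 := Subgroup.mem_centralizer_singleton_iff.1 hc.2
        have h5 := hcomm c hc.1 _ (hmem x⁻¹ y⁻¹)
        rw [Subgroup.mem_centralizer_singleton_iff]
        calc y * c * y⁻¹ * x = y * (c * x) * (x⁻¹ * y⁻¹ * x⁻¹⁻¹ * y⁻¹⁻¹) * y⁻¹ := by group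
          _ = y * x * (c * (x⁻¹ * y⁻¹ * x⁻¹⁻¹ * y⁻¹⁻¹)) * y⁻¹ := by rw [h4]; group
          _ = x * (y * c * y⁻¹) := by rw [h5]; group⟩⟩
      exact (Subgroup.mem_centralizer_singleton_iff.1 (hmin _ h3 h2 hd).2)
    have hC : Subgroup.centralizer (commutator G : Set G) ≤ commutator G := by
      obtain ⟨x, hx⟩ : ∃ x, x ∉ Subgroup.centralizer (commutator G : Set G) := by
        by_contra h2
        push Not at h2
        exact hna (eq_bot_iff.2 fun d hd => hZ ▸ Subgroup.mem_center_iff.2 fun g =>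
          (h2 g d hd).symm)
      have h2 := key x hx
      let f : commutator G → commutator G := fun d => ⟨_, hmem x d⟩
      have hf : Function.Injective f := fun a b h3 => by
        have h4 : x * a * x⁻¹ * (a : G)⁻¹ = x * b * x⁻¹ * (b : G)⁻¹ := congrArg Subtype.val h3
        have h5 : (b : G)⁻¹ * a ∈ commutator G ⊓ Subgroup.centralizer {x} :=
          Subgroup.mem_inf.2 ⟨mul_mem (inv_mem b.2) a.2,
            Subgroup.mem_centralizer_singleton_iff.2 (comm_of_commutator_eq h4)⟩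
        rw [h2, Subgroup.mem_bot, inv_mul_eq_one] at h5
        exact Subtype.ext h5.symm
      have h3 : ∀ y : G, ∃ d ∈ commutator G, d⁻¹ * y ∈ Subgroup.centralizer {x} := fun y => by
        obtain ⟨d, hd⟩ := Finite.injective_iff_surjective.1 hf ⟨_, hmem x y⟩
        have h4 : x * d * x⁻¹ * (d : G)⁻¹ = x * y * x⁻¹ * y⁻¹ := congrArg Subtype.val hd
        exact ⟨d, d.2, Subgroup.mem_centralizer_singleton_iff.2 (comm_of_commutator_eq h4.symm)⟩
      intro c hc
      obtain ⟨d, hd, h4⟩ := h3 c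
      have h5 : d⁻¹ * c ∈ Subgroup.center G := Subgroup.mem_center_iff.2 fun g => by
        obtain ⟨e, he, h6⟩ := h3 g
        have h7 : ⁅e⁻¹ * g, d⁻¹ * c⁆ ∈ commutator G ⊓ Subgroup.centralizer {x} :=
          Subgroup.mem_inf.2 ⟨hmem _ _, mul_mem (mul_mem (mul_mem h6 h4) (inv_mem h6)) (inv_mem h4)⟩
        rw [h2, Subgroup.mem_bot, commutatorElement_eq_one_iff_mul_comm] at h7
        have h8 : e * (d⁻¹ * c) = d⁻¹ * c * e := by
          rw [← mul_assoc, hcomm e he _ (inv_mem hd), mul_assoc, hc e he, mul_assoc]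
        calc g * (d⁻¹ * c) = e * (e⁻¹ * g * (d⁻¹ * c)) := by group
          _ = e * (d⁻¹ * c) * (e⁻¹ * g) := by rw [h7]; group
          _ = _ := by rw [h8]; group
      rw [hZ, Subgroup.mem_bot, inv_mul_eq_one] at h5
      exact h5 ▸ hd
    rw [← key x fun h2 => hx (hC h2)]
    refine ⟨hn, Subgroup.mem_centralizer_singleton_iff.2 ?_⟩
    rw [Subgroup.mem_bot] at h1
    calc n * x = (x * n * x⁻¹ * n⁻¹)⁻¹ * x * n := by group
      _ = x * n := by rw [h1]; group
  · have h1 := hmin _ inferInstance hZ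
    refine Or.inl ⟨q, hq, isPGroup_of_forall_prime fun r hr h2 => ?_, h1⟩
    haveI := isNilpotent_of_commutator_le_center h1
    haveI := Fact.mk hr
    haveI := Fact.mk hq
    let R : Sylow r G := default
    have h3 := hmin R inferInstance (R.ne_bot_of_dvd_card h2)
    by_contra h4
    exact hna (eq_bot_iff.2 (le_inf h3 le_rfl |>.trans
      (IsPGroup.disjoint_of_ne r q h4 _ _ R.2 hqD).le_bot))

theorem FrobQ.comap_mk {K : Subgroup G} [K.Normal] {D : Subgroup (G ⧸ K)} (F : FrobQ ⊥ D) :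
    FrobQ K (D.comap (QuotientGroup.mk' K)) := by
  have e : ∀ g : G, g ∈ K ↔ QuotientGroup.mk' K g ∈ (⊥ : Subgroup (G ⧸ K)) := fun g => by
    rw [Subgroup.mem_bot]; exact (QuotientGroup.eq_one_iff g).symm
  haveI := F.nN
  refine ⟨inferInstance, inferInstance, fun k hk => F.le ((e k).1 hk), fun h => F.ne ?_,
    fun a ha b hb => (e _).2 (by simpa using F.comm _ ha _ hb),
    fun x hx n hn h => (e _).2 (F.fpf _ hx _ hn (by simpa using (e _).1 h))⟩
  refine (eq_bot_iff.2 fun d hd => ?_).symm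
  obtain ⟨g, rfl⟩ := QuotientGroup.mk'_surjective K d
  exact (e g).1 (h ▸ hd)

theorem FrobQ.coprime_bot {D : Subgroup G} (F : FrobQ ⊥ D) : (Nat.card D).Coprime D.index := by
  refine Nat.coprime_of_dvd fun q hq h1 h2 => ?_
  haveI := Fact.mk hq
  haveI := F.nN
  let P : Sylow q G := default
  have h3 : D ⊓ (P : Subgroup G) ≠ ⊥ := fun h3 => by
    have h4 := H1.card_sup_of_disjoint (N := D) (H := P) Subgroup.le_normalizer_of_normal h3
    have h5 := Subgroup.card_mul_index (D ⊔ (P : Subgroup G))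
    rw [h4, ← Subgroup.card_mul_index (P : Subgroup G), mul_comm (Nat.card D), mul_assoc] at h5
    exact P.not_dvd_index (Nat.eq_of_mul_eq_mul_left Nat.card_pos h5 ▸ h1.mul_right _)
  obtain ⟨⟨z, hz1, hz2⟩, hz3⟩ := Subgroup.ne_bot_iff_exists_ne_one.1
    (H2.inf_centralizer_ne_bot_of_isPGroup (P.2.to_inf_right (H := D)) P.2
      (H1.le_normalizer_inf Subgroup.le_normalizer_of_normal Subgroup.le_normalizer) h3)
  refine P.not_dvd_index (h2.trans (Subgroup.index_dvd_of_le fun x hx => by_contra fun h4 => ?_))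
  refine hz3 (Subtype.ext (Subgroup.mem_bot.1 (F.fpf x h4 z hz1.1 ?_)))
  rw [hz2 x hx]; simp

theorem FrobQ.index_mem_cd {K N : Subgroup G} (F : FrobQ K N) : N.index ∈ charDegrees G := by
  obtain ⟨w, hw, hw1⟩ := SetLike.exists_of_lt (lt_of_le_of_ne F.le F.ne)
  obtain ⟨ν, -, -⟩ := F.exists_linear_ne (w := ⟨w, hw⟩) hw1
  rcases F.degree_or_vanish (isIrrCharacter_linear ν) (d := 1) (by simp) with h | h
  · rwa [mul_one] at h
  · exact ((ν _).ne_zero (h ⟨w, hw⟩ hw1)).elim

theorem FrobQ.mul_mem_or {K N : Subgroup G} (F : FrobQ K N) {d : ℕ} (hd : d ∈ charDegrees N) :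
    N.index * d ∈ charDegrees G ∨ ¬ (K.relIndex N).Coprime d := by
  haveI := F.nK
  haveI := Fintype.ofFinite N
  haveI := Fintype.ofFinite K
  obtain ⟨ψ, hψ, h1⟩ := mem_cd.1 hd
  refine (F.degree_or_vanish hψ h1).imp_right fun h2 h3 => F.ne ?_
  let E := NEmb.ofLeNormal F.le
  have h4 := irr_res_of_coprime E hψ h1 (by rwa [NEmb.ofLeNormal_index])
  have h5 := E.inner_of_vanish ψ (χ := ψ) fun g hg => h2 g (by
    rwa [NEmb.ofLeNormal_range] at hg)
  rw [h4.classInner_self, hψ.classInner_self, mul_one, NEmb.ofLeNormal_index] at h5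
  exact F.le.antisymm (Subgroup.relIndex_eq_one.1 (by exact_mod_cast h5.symm))

/-- A minimal non-abelian factor group of a solvable group. -/
theorem exists_min_quotient (hs : Group.IsSolvable G) (hna : commutator G ≠ ⊥) :
    ∃ (K : Subgroup G) (_ : K.Normal), commutator (G ⧸ K) ≠ ⊥ ∧
      ((∃ p : ℕ, p.Prime ∧ IsPGroup p (G ⧸ K) ∧ commutator (G ⧸ K) ≤ Subgroup.center (G ⧸ K)) ∨
      ∃ N, FrobQ K N ∧ commutator G ≤ N ∧ N ≠ ⊤ ∧ (K.relIndex N).Coprime N.index ∧
        ∃ q k : ℕ, q.Prime ∧ K.relIndex N = q ^ k) := by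
  obtain ⟨K, ⟨hK, hK1⟩, hmax⟩ := (wellFounded_gt (α := Subgroup G)).has_min
    {K | K.Normal ∧ ¬ commutator G ≤ K} ⟨⊥, inferInstance, fun h => hna (le_bot_iff.1 h)⟩
  have hs' := QuotientGroup.mk'_surjective K
  have e : commutator (G ⧸ K) = (commutator G).map (QuotientGroup.mk' K) := by
    rw [commutator_def, commutator_def, Subgroup.map_commutator, Subgroup.map_top_of_surjective _ hs']
  have h1 : commutator (G ⧸ K) ≠ ⊥ := fun h => hK1 (by
    rwa [e, Subgroup.map_eq_bot_iff, QuotientGroup.ker_mk'] at h)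
  refine ⟨K, hK, h1, (min_nonabelian inferInstance h1 fun L hL hL1 => ?_).imp_right
    fun ⟨F, q, hq, h2⟩ => ⟨_, F.comap_mk, ?_, fun h3 => ?_, ?_, ?_⟩⟩
  · rw [e, Subgroup.map_le_iff_le_comap]
    by_contra h2
    refine hmax _ ⟨inferInstance, h2⟩ (lt_of_le_of_ne (QuotientGroup.le_comap_mk' K L) fun h3 => hL1 ?_)
    rw [← Subgroup.map_comap_eq_self_of_surjective hs' L, ← h3, QuotientGroup.map_mk'_self]
  · rw [e]; exact Subgroup.le_comap_map _ _
  · have h4 : commutator (G ⧸ K) = ⊤ := by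
      rw [← Subgroup.map_comap_eq_self_of_surjective hs' (commutator _), h3,
        Subgroup.map_top_of_surjective _ hs']
    haveI : Nontrivial (G ⧸ K) := by
      by_contra h5
      rw [not_nontrivial_iff_subsingleton] at h5
      exact h1 (Subsingleton.elim _ _)
    exact (Group.IsSolvable.commutator_lt_top_of_nontrivial _).ne h4
  · rw [H9.relIndex_eq_card_map_mk', Subgroup.map_comap_eq_self_of_surjective hs',
      Subgroup.index_comap_of_surjective _ hs']
    exact F.coprime_bot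
  · haveI := Fact.mk hq
    obtain ⟨k, hk⟩ := IsPGroup.iff_card.1 h2
    exact ⟨q, k, hq, by
      rw [H9.relIndex_eq_card_map_mk', Subgroup.map_comap_eq_self_of_surjective hs', hk]⟩

theorem exists_cd_ne_one (h : commutator G ≠ ⊥) : ∃ d ∈ charDegrees G, d ≠ 1 := by
  by_contra h1
  push Not at h1
  exact h (derivedSeries_one G ▸ derivedSeries_one_eq_bot_of_cd h1)

theorem three_of_two {k : ℕ} (h : ∀ d ∈ charDegrees G, d = 1 ∨ d = k) : derivedSeries G 3 = ⊥ :=
  le_bot_iff.1 ((derivedSeries_antitone G (by norm_num : 2 ≤ 3)).trans (two_degrees G k h).le)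

theorem three_solvable {m n : ℕ} (h : ∀ d ∈ charDegrees G, d = 1 ∨ d = m ∨ d = n)
    (hmn : m.Coprime n) (hm1 : m ≠ 1) (hn1 : n ≠ 1) (hm : m ∈ charDegrees G)
    (hn : n ∈ charDegrees G) (hs : Group.IsSolvable G) : derivedSeries G 3 = ⊥ := by
  by_cases hna : commutator G = ⊥
  · exact three_of_two (k := 1) fun d hd => Or.inl (comm_iff_cd.1
      (comm_of_derivedSeries_one (by rwa [derivedSeries_one])) d hd)
  obtain ⟨K, hK, h1, h2⟩ := exists_min_quotient hs hna
  have hprod : m * n ∉ charDegrees G := fun h3 => by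
    have := pos_of_mem_cd hm
    have := pos_of_mem_cd hn
    rcases h _ h3 with h4 | h4 | h4
    · exact hm1 (Nat.eq_one_of_mul_eq_one_right h4)
    · exact hn1 (Nat.eq_of_mul_eq_mul_left ‹0 < m› (h4.trans (mul_one m).symm))
    · exact hm1 (Nat.eq_of_mul_eq_mul_right ‹0 < n› (h4.trans (one_mul n).symm))
  rcases h2 with ⟨p, hp, h2, -⟩ | ⟨N, F, h2, h3, h4, -⟩
  · haveI := Fact.mk hp
    obtain ⟨d, hd, hd1⟩ := exists_cd_ne_one h1
    obtain ⟨k, hk⟩ := IsPGroup.iff_card.1 h2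
    obtain ⟨j, hj⟩ := exists_pow_of_mem_cd h2 hd
    have h3 : ∀ e, d.Coprime e → K.index.Coprime e := fun e he => by
      rw [Subgroup.index_eq_card, hk]
      refine Nat.Coprime.pow_left k (he.coprime_dvd_left ?_)
      rw [hj] at hd1 ⊢
      exact dvd_pow_self p (by rintro rfl; exact hd1 rfl)
    rcases h d (cd_quotient_subset K hd) with rfl | rfl | rfl
    · exact (hd1 rfl).elim
    · exact (hprod (cd_mul_of_coprime K hn (h3 n hmn) hd)).elim
    · exact (hprod (mul_comm d m ▸ cd_mul_of_coprime K hm (h3 m hmn.symm) hd)).elim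
  haveI := F.nN
  have key : ∀ m n : ℕ, (∀ d ∈ charDegrees G, d = 1 ∨ d = m ∨ d = n) → m.Coprime n → m ≠ 1 →
      N.index = m → ∀ d ∈ charDegrees N, d = 1 ∨ d = n := fun m n h hmn hm1 h5 d hd => by
    have hm0 : 0 < m := h5 ▸ Nat.pos_of_ne_zero Subgroup.index_ne_zero_of_finite
    rcases F.mul_mem_or hd with h6 | h6
    · rw [h5] at h6
      rcases h _ h6 with h7 | h7 | h7
      · exact (hm1 (Nat.eq_one_of_mul_eq_one_right h7)).elim
      · exact Or.inl (Nat.eq_of_mul_eq_mul_left hm0 (h7.trans (mul_one m).symm))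
      · exact (hm1 (Nat.eq_one_of_dvd_coprimes hmn dvd_rfl ⟨d, h7.symm⟩)).elim
    · obtain ⟨e, he, h7⟩ := cd_over_normal N hd
      rcases h _ h7 with h8 | h8 | h8
      · exact Or.inl (Nat.eq_one_of_mul_eq_one_left h8)
      · exact (h6 (h4.coprime_dvd_right (h5 ▸ Dvd.intro_left e h8))).elim
      · obtain rfl : e = 1 := Nat.eq_one_of_dvd_coprimes hmn (h5 ▸ he) ⟨d, h8.symm⟩
        exact Or.inr (by rw [← h8, one_mul])
  have h5 : ∃ k, ∀ d ∈ charDegrees N, d = 1 ∨ d = k := by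
    rcases h _ F.index_mem_cd with h5 | h5 | h5
    · exact (h3 (Subgroup.index_eq_one.1 h5)).elim
    · exact ⟨n, key m n h hmn hm1 h5⟩
    · exact ⟨m, key n m (fun d hd => (h d hd).imp_right Or.symm) hmn.symm hn1 h5⟩
  obtain ⟨k, h5⟩ := h5
  exact derivedSeries_eq_bot_of_le (A := N) (j := 1) (i := 0) (k := 2)
    (by rwa [map_derivedSeries_zero, derivedSeries_one]) (two_degrees N k h5)

theorem charCenter_eq_bot_of_minNormal {N : Subgroup G} (hN : H2.IsMinNormal N)
    (hNs : ¬ Group.IsSolvable N)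
    (hq : ∀ (Z : Subgroup G) [Z.Normal], Z ≠ ⊥ → Group.IsSolvable (G ⧸ Z)) {τ : G → ℂ}
    (hτ : IsIrrCharacter G τ) (h : ¬ N ≤ charKer τ) :
    ⁅N, N⁆ = N ∧ charCenter τ = ⊥ ∧ charDegree τ ≠ 1 := by
  haveI := hN.normal
  have h1 : ⁅N, N⁆ = N := hN.eq_of_le inferInstance (Subgroup.commutator_le_left N N) fun h1 =>
    hNs (Group.isSolvable_of_comm fun a b => Subtype.ext
      (commutatorElement_eq_one_iff_mul_comm.1 (Subgroup.mem_bot.1
        (h1 ▸ Subgroup.commutator_mem_commutator a.2 b.2))))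
  haveI := hτ.isClassFunction.charCenter_normal
  refine ⟨h1, by_contra fun h2 => ?_, fun h2 => h (h1 ▸ (Subgroup.commutator_mono le_top le_top).trans
    (hτ.commutator_le_charKer_iff.2 (by rw [← hτ.isCharacter.charDegree_cast, h2]; simp)))⟩
  rcases hN.inf_eq_bot_or_le (charCenter τ) with h3 | h3
  · haveI := hq _ h2
    refine hNs (Group.isSolvable_of_isSolvable_injective
      (f := (QuotientGroup.mk' (charCenter τ)).comp N.subtype) ?_)
    rw [injective_iff_map_eq_one]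
    intro x hx
    exact Subtype.ext (Subgroup.mem_bot.1 (h3 ▸ ⟨x.2, (QuotientGroup.eq_one_iff _).1 hx⟩))
  · exact h (h1 ▸ Subgroup.commutator_le.2 fun a ha b _ =>
      hτ.isCharacter.commutator_mem_charKer (h3 ha) b)

theorem exists_over_dvd {N : Subgroup G} [N.Normal] {d : ℕ} (hd : d ∈ charDegrees N)
    (hd1 : d ≠ 1) : ∃ χ, IsIrrCharacter G χ ∧ ¬ N ≤ charKer χ ∧ d ∣ charDegree χ := by
  haveI := Fintype.ofFinite G
  haveI := Fintype.ofFinite N
  obtain ⟨θ, hθ, h1⟩ := mem_cd.1 hd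
  let E := NEmb.ofNormal N
  obtain ⟨χ, hχ, h2⟩ := exists_irr_over_hom E.f E.inj hθ
  obtain ⟨e, -, h3⟩ := E.degree_dvd_index hθ hχ h2
  refine ⟨χ, hχ, fun h4 => hd1 ?_, ⟨e, charDegree_eq_of (by rw [h3, h1]; push_cast; ring)⟩⟩
  have h5 := (hχ.isCharacter.comp E.f).charKer_le_of_constituent hθ h2
  have h6 := hθ.eq_one_of_forall_eq fun x => apply_of_mem_charKer (h5
    ((hχ.isCharacter.comp E.f).mem_charKer.2 (by
      rw [map_one]; exact apply_of_mem_charKer (h4 x.2))))
  rw [h6] at h1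
  exact Nat.cast_eq_one.1 h1.symm

end minquot

theorem three_degrees (G : Type u) [Group G] [Finite G] :
    ∀ m n : ℕ, (∀ d ∈ charDegrees G, d = 1 ∨ d = m ∨ d = n) → derivedSeries G 3 = ⊥ := by
  refine H2.card_induction (P := fun G _ _ => ∀ m n : ℕ,
    (∀ d ∈ charDegrees G, d = 1 ∨ d = m ∨ d = n) →
    derivedSeries G 3 = ⊥) (fun G _ _ ih => ?_) G
  intro m n h
  by_cases hm : m = 1 ∨ m ∉ charDegrees G
  · refine three_of_two (k := n) fun d hd => ?_
    rcases h d hd with h1 | h1 | h1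
    · exact Or.inl h1
    · exact Or.inl (h1 ▸ hm.resolve_right (not_not.2 (h1 ▸ hd)))
    · exact Or.inr h1
  by_cases hn : n = 1 ∨ n ∉ charDegrees G
  · refine three_of_two (k := m) fun d hd => ?_
    rcases h d hd with h1 | h1 | h1
    · exact Or.inl h1
    · exact Or.inr h1
    · exact Or.inl (h1 ▸ hn.resolve_right (not_not.2 (h1 ▸ hd)))
  rw [not_or, not_not] at hm hn
  by_cases hmn : m.Coprime n
  · refine three_solvable h hmn hm.1 hn.1 hm.2 hn.2 (by_contra fun hs => ?_)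
    haveI := Fintype.ofFinite G
    haveI : Nontrivial G := by
      by_contra h5
      rw [not_nontrivial_iff_subsingleton] at h5
      exact hs inferInstance
    obtain ⟨N, hN⟩ := H2.exists_isMinNormal (G := G)
    haveI := hN.normal
    have hq : ∀ (Z : Subgroup G) [Z.Normal], Z ≠ ⊥ → Group.IsSolvable (G ⧸ Z) := fun Z _ hZ =>
      ⟨⟨3, ih _ (H1.card_quotient_lt hZ) m n fun d hd => h d (cd_quotient_subset Z hd)⟩⟩
    have hNs : ¬ Group.IsSolvable N := fun h1 =>
      haveI := hq N hN.ne_bot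
      hs (Group.isSolvable_of_ker_le_range N.subtype (QuotientGroup.mk' N) (by simp))
    obtain ⟨d, hd, hd1⟩ := exists_cd_ne_one (G := N) fun h1 => hNs ⟨⟨1, by rwa [derivedSeries_one]⟩⟩
    obtain ⟨χ, hχ, h1, h2⟩ := exists_over_dvd hd hd1
    obtain ⟨p, hp, h3⟩ := Nat.exists_prime_and_dvd hd1
    haveI := Fact.mk hp
    obtain ⟨h4, h5, h6⟩ := charCenter_eq_bot_of_minNormal hN hNs hq hχ h1
    obtain ⟨τ, hτ, h7, h8⟩ := exists_not_le_charKer_not_dvd h4 (h3.trans (dvd_card_of_mem_cd hd))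
    obtain ⟨-, h9, h10⟩ := charCenter_eq_bot_of_minNormal hN hNs hq hτ h7
    have hne : m ≠ n := by rintro rfl; exact hm.1 ((Nat.coprime_self m).1 hmn)
    have key : ∀ χ ψ, IsIrrCharacter G χ → IsIrrCharacter G ψ → charDegree χ = m →
        charDegree ψ = n → charCenter χ = ⊥ → charCenter ψ = ⊥ → False :=
      fun χ ψ hχ hψ e1 e2 z1 z2 => by
      have e3 : χ 1 = m := by rw [← e1, hχ.isCharacter.charDegree_cast]
      have e4 : ψ 1 = n := by rw [← e2, hψ.isCharacter.charDegree_cast]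
      rcases type_dichotomy h hmn hne hχ hψ e3 e4 with h11 | h11
      · exact not_type_of_charCenter h hmn hne hm.1 hχ hψ e3 e4 z2 h11
      · exact not_type_of_charCenter (fun d hd => (h d hd).imp_right Or.symm) hmn.symm hne.symm
          hn.1 hψ hχ e4 e3 z1 (by rwa [mul_comm])
    have h11 : charDegree χ ≠ charDegree τ := fun e => h8 (e ▸ h3.trans h2)
    rcases (h _ (charDegree_mem_cd hχ)).resolve_left h6 with e1 | e1 <;>
      rcases (h _ (charDegree_mem_cd hτ)).resolve_left h10 with e2 | e2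
    · exact h11 (e1.trans e2.symm)
    · exact key χ τ hχ hτ e1 e2 h5 h9
    · exact key τ χ hτ hχ e2 e1 h9 h5
    · exact h11 (e1.trans e2.symm)
  obtain ⟨p, hp, hpm, hpn⟩ := Nat.Prime.not_coprime_iff_dvd.1 hmn
  obtain ⟨A, hA, h1, ⟨k, hk⟩, h2⟩ := exists_compl_of_dvd_cd (G := G) hp fun d hd hd1 => by
    rcases (h d hd).resolve_left hd1 with rfl | rfl <;> assumption
  have h3 : ∀ c ∈ charDegrees A, c = 1 ∨ c = ordCompl[p] m ∨ c = ordCompl[p] n := fun c hc => by
    obtain ⟨d, hd, rfl⟩ := h2 c hc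
    rcases h d hd with rfl | rfl | rfl <;> simp
  have h4 : ∀ d ∈ charDegrees (G ⧸ ⁅A, A⁆), ordCompl[p] d = 1 := fun d hd =>
    ordCompl_eq_one_of_dvd hp (hk ▸ cd_quotient_commutator_dvd A hd)
  have key : ∀ m n : ℕ, (∀ d ∈ charDegrees G, d = 1 ∨ d = m ∨ d = n) →
      (∀ c ∈ charDegrees A, c = 1 ∨ c = ordCompl[p] m ∨ c = ordCompl[p] n) → ordCompl[p] m = 1 →
      ordCompl[p] n ≠ 1 → derivedSeries G 3 = ⊥ := fun m n h h3 hm' hn' =>
    derivedSeries_eq_bot_of_le (A := A) (j := 2) (i := 1) (k := 1) (by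
      rw [map_derivedSeries_one]
      refine derivedSeries_le_of_quotient (two_degrees _ m fun d hd => ?_)
      refine (h d (cd_quotient_subset _ hd)).imp_right fun h5 => h5.resolve_right ?_
      rintro rfl
      exact hn' (h4 d hd)) (two_degrees A _ fun c hc => by
        rcases h3 c hc with h5 | h5 | h5
        exacts [Or.inl h5, Or.inl (h5.trans hm'), Or.inr h5])
  by_cases hm' : ordCompl[p] m = 1 <;> by_cases hn' : ordCompl[p] n = 1
  · have h5 : ∀ a b : A, a * b = b * a := comm_iff_cd.2 fun c hc => by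
      rcases h3 c hc with h5 | h5 | h5
      exacts [h5, h5.trans hm', h5.trans hn']
    refine taketa_of_abelian (A := A) (fun a ha b hb => congrArg Subtype.val (h5 ⟨a, ha⟩ ⟨b, hb⟩))
      (isNilpotent_quotient_of_index hp hk) ?_
    exact (Set.ncard_le_ncard (t := {1, m, n}) h).trans ((Set.ncard_insert_le 1 {m, n}).trans
      (Nat.succ_le_succ ((Set.ncard_insert_le m {n}).trans (by simp))))
  · exact key m n h h3 hm' hn'
  · exact key n m (fun d hd => (h d hd).imp_right Or.symm) (fun d hd => (h3 d hd).imp_right Or.symm)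
      hn' hm'
  have h5 : derivedSeries G 1 ≤ ⁅A, A⁆ :=
    derivedSeries_le_of_quotient (derivedSeries_one_eq_bot_of_cd fun d hd => by
      rcases h d (cd_quotient_subset _ hd) with rfl | rfl | rfl
      exacts [rfl, (hm' (h4 d hd)).elim, (hn' (h4 d hd)).elim])
  have hAt : A ≠ ⊤ := by
    rintro rfl
    rw [Subgroup.card_top] at h1
    exact (Nat.Prime.coprime_iff_not_dvd hp).1 h1.symm (hpm.trans (dvd_card_of_mem_cd hm.2))
  exact derivedSeries_eq_bot_of_le (A := A) (j := 1) (i := 1) (k := 2)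
    (by rwa [map_derivedSeries_one]) (ih A (H1.card_lt_of_ne_top hAt) _ _ h3)

theorem exists_three_of_ncard {S : Set ℕ} (hS : S.Finite) (h1 : 1 ∈ S) (h : S.ncard ≤ 3) :
    ∃ m n, ∀ d ∈ S, d = 1 ∨ d = m ∨ d = n := by
  by_contra h2
  push Not at h2
  obtain ⟨a, ha, a1, -, -⟩ := h2 1 1
  obtain ⟨b, hb, b1, ba, -⟩ := h2 a a
  obtain ⟨c, hc, c1, ca, cb⟩ := h2 a b
  have h3 : ({1, a, b, c} : Set ℕ).ncard = 4 := by
    rw [Set.ncard_insert_of_notMem (by simp [a1.symm, b1.symm, c1.symm]),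
      Set.ncard_insert_of_notMem (by simp [ba.symm, ca.symm]), Set.ncard_pair cb.symm]
  have := Set.ncard_le_ncard (s := {1, a, b, c}) (t := S) (by
    rintro x (rfl | rfl | rfl | rfl) <;> assumption) hS
  omega

end Cfsg.Agent.H8
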