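import Mathlib
import Cfsg.Agent.H8.Deg3
import Cfsg.Agent.H2.Frattini

/-!
Large character degrees: kernels, nilpotent length, normal Sylow subgroups.
-/

set_option autoImplicit false
set_option linter.dupNamespace false

namespace Cfsg.Agent.H8

open Cfsg Cfsg.Agent.H4 Cfsg.Agent.H5 Cfsg.Agent.H3
open scoped ComplexConjugate Pointwise commutatorElement

universe u

section sylow
variable {G : Type*} [Group G] [Finite G]

theorem sum_card_fixedBy_eq {P X : Type*} [Group P] [Fintype P] [Fintype X] [MulAction P X] :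
    ∑ x : P, Nat.card (MulAction.fixedBy X x) = ∑ w : X, Nat.card (MulAction.stabilizer P w) := by
  classical
  have h1 : ∀ x : P, Nat.card (MulAction.fixedBy X x) = ∑ w : X, if x • w = w then 1 else 0 :=
    fun x => natCard_subtype_eq_sum (R := ℕ) (fun w : X => x • w = w)
  have h2 : ∀ w : X, Nat.card (MulAction.stabilizer P w) = ∑ x : P, if x • w = w then 1 else 0 :=
    fun w => natCard_subtype_eq_sum (R := ℕ) (fun x : P => x • w = w)
  simp only [h1, h2]
  exact Finset.sum_comm

theorem sylow_orbit_bound {p : ℕ} [hp : Fact p.Prime] (P : Sylow p G) {r : ℕ}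
    (hr : nin (fun x => (Nat.card (MulAction.fixedBy (Sylow p G)
      ((P : Subgroup G).subtype x)) : ℂ)) (fun _ => 1) = r) : p * r ≤ p + (Nat.card (Sylow p G) - 1) := by
  classical
  haveI := Fintype.ofFinite (Sylow p G)
  haveI := Fintype.ofFinite (P : Subgroup G)
  have h5 : Nat.card P * r = ∑ w : Sylow p G, Nat.card (MulAction.stabilizer (P : Subgroup G) w) := by
    rw [← sum_card_fixedBy_eq]
    apply Nat.cast_injective (R := ℂ)
    push_cast
    rw [← hr, nin_cast ((isCharacter_perm (G := G) (Sylow p G)).comp (P : Subgroup G).subtype)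
      isCharacter_one,
      card_mul_classInner]
    simp only [map_one, mul_one]
    rfl
  have h6 : ∀ w : Sylow p G, w ≠ P → p * Nat.card (MulAction.stabilizer (P : Subgroup G) w) ≤ Nat.card P :=
    fun w hw => by
    obtain ⟨k, hk⟩ := P.2.index (MulAction.stabilizer (P : Subgroup G) w)
    rw [← (MulAction.stabilizer (P : Subgroup G) w).card_mul_index, mul_comm]
    refine Nat.mul_le_mul_left _ (hk ▸ Nat.le_self_pow ?_ p)
    rintro rfl
    rw [pow_zero, Subgroup.index_eq_one] at hk
    have h7 : w ∈ MulAction.fixedPoints (P : Subgroup G) (Sylow p G) := fun x =>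
      (hk ▸ Subgroup.mem_top x : x ∈ MulAction.stabilizer (P : Subgroup G) w)
    rw [P.2.sylow_mem_fixedPoints_iff] at h7
    exact hw (Sylow.ext (P.is_maximal' w.2 h7))
  have h7 : p * (Nat.card P * r) ≤ Nat.card P * (p + (Nat.card (Sylow p G) - 1)) := by
    rw [h5, Finset.mul_sum, ← Finset.add_sum_erase _ _ (Finset.mem_univ P), mul_add, mul_comm _ p]
    refine Nat.add_le_add (Nat.mul_le_mul_left _ (Subgroup.card_le_card_group _)) ?_
    refine (Finset.sum_le_sum fun w hw => h6 w (Finset.ne_of_mem_erase hw)).trans ?_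
    rw [Finset.sum_const, Finset.card_erase_of_mem (Finset.mem_univ _), smul_eq_mul, mul_comm,
      Finset.card_univ, Nat.card_eq_fintype_card (α := Sylow p G)]
  rw [mul_left_comm] at h7
  exact Nat.le_of_mul_le_mul_left h7 Nat.card_pos

theorem sylow_arith {ι : Type*} [Fintype ι] (o : ι) (a d c : ι → ℕ) {p r t : ℕ} (h1 : a o = 1)
    (h1' : d o = 1) (h : ∀ i, d i < p) (h2 : ∀ i, a i ≠ 0 → c i ≠ 0) (h3 : r = ∑ i, a i * c i)
    (h4 : t = ∑ i, a i * d i) (h8 : p * r ≤ p + (t - 1)) : t = 1 := by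
  classical
  rw [← Finset.add_sum_erase _ _ (Finset.mem_univ o), h1] at h3 h4
  have h9 : ∑ i ∈ Finset.univ.erase o, a i * d i + ∑ i ∈ Finset.univ.erase o, a i ≤
      p * ∑ i ∈ Finset.univ.erase o, a i * c i := by
    rw [← Finset.sum_add_distrib, Finset.mul_sum]
    refine Finset.sum_le_sum fun i _ => ?_
    by_cases h10 : a i = 0
    · simp [h10]
    · rw [← Nat.mul_succ, mul_left_comm]
      exact Nat.mul_le_mul_left _ ((h i).trans_le
        (Nat.le_mul_of_pos_right p (Nat.pos_of_ne_zero (h2 i h10))))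
  have h10 := Nat.pos_of_ne_zero (h2 _ (h1 ▸ one_ne_zero))
  rw [h1'] at h4
  have h12 : ∑ i ∈ Finset.univ.erase o, a i = 0 := by
    rw [h4, h3, one_mul, one_mul, mul_add] at h8
    have := Nat.le_mul_of_pos_right p h10
    omega
  rwa [Finset.sum_eq_zero fun i hi => by rw [Finset.sum_eq_zero_iff.1 h12 i hi, zero_mul]] at h4

theorem degree_eq_one_of_indFun_one {p : ℕ} (h : ∀ d ∈ charDegrees G, d < p) [Fintype G]
    {P N : Subgroup G} (hPN : P ≤ N) {π : G → ℂ} (hind : π = indFun N fun _ => 1) {t : ℕ}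
    (ht : π 1 = t) (h8 : p * nin (fun x => π (P.subtype x)) (fun _ => 1) ≤ p + (t - 1)) :
    t = 1 := by
  haveI := Fintype.ofFinite P
  haveI := Fintype.ofFinite N
  have hc : IsCharacter G π := by rw [hind]; exact isCharacter_indFun N isCharacter_one
  have h1 : nin π (irrOne G) = 1 := nin_eq_of (by
    rw [hind, inner_indFun_left _ _ (irrOne G).2.isClassFunction]
    exact classInner_one_one.trans Nat.cast_one.symm)
  have h2 : ∀ χ : IrrCharacter G, nin π χ ≠ 0 →
      nin (fun x => χ.1 (P.subtype x)) (fun _ => 1) ≠ 0 := fun χ h2 => by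
    have h3 := (nin_ne_zero_iff hc χ.2.isCharacter).1 h2
    rw [hind, inner_indFun_left _ _ χ.2.isClassFunction] at h3
    have h4 := inner_comp_ne_zero (Subgroup.inclusion hPN) isCharacter_one
      (χ.2.isCharacter.restrict N) h3
    exact (nin_ne_zero_iff (χ.2.isCharacter.comp P.subtype) isCharacter_one).2
      fun h5 => h4 ((classInner_eq_zero_symm _ _).1 h5)
  have h3 := nin_comp_eq_sum P.subtype hc isCharacter_one
  have h4 := charDegree_eq_sum_nin hc
  rw [charDegree_eq_of ht] at h4
  exact sylow_arith (irrOne G) (fun χ : IrrCharacter G => nin π χ)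
    (fun χ : IrrCharacter G => charDegree χ.1)
    (fun χ : IrrCharacter G => nin (fun x => χ.1 (P.subtype x)) (fun _ => 1))
    h1 charDegree_one (fun χ => h _ ⟨χ, rfl⟩) h2 h3 h4 h8

theorem sylow_normal_of_cd_lt {p : ℕ} [hp : Fact p.Prime] (h : ∀ d ∈ charDegrees G, d < p)
    (P : Sylow p G) : (P : Subgroup G).Normal := by
  haveI := Fintype.ofFinite G
  have hPN : (P : Subgroup G) ≤ MulAction.stabilizer G P := by
    rw [P.stabilizer_eq_normalizer]; exact Subgroup.le_normalizer
  have h9 := degree_eq_one_of_indFun_one h hPN (permChar_eq_indFun _ P)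
    (t := Nat.card (Sylow p G)) (by simp) (sylow_orbit_bound P rfl)
  haveI : Subsingleton (Sylow p G) := (Nat.card_eq_one_iff_unique.1 h9).1
  exact P.normal_of_subsingleton

theorem comm_of_cd_lt {p : ℕ} [hp : Fact p.Prime] {P : Subgroup G} (hP : IsPGroup p P)
    (h : ∀ d ∈ charDegrees G, d < p) : ∀ x ∈ P, ∀ y ∈ P, x * y = y * x := fun x hx y hy =>
  congrArg Subtype.val (comm_of_not_dvd_cd hP (fun d hd h1 => by
    obtain ⟨e, he, h2⟩ := cd_le_subgroup P hd
    exact (Nat.le_of_dvd (pos_of_mem_cd hd) h1).not_gt (h2.trans_lt (h e he))) ⟨x, hx⟩ ⟨y, hy⟩)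

end sylow

section kernels
variable {G : Type*} [Group G] [Finite G]

theorem irr_res_of_sup_charKer {χ : G → ℂ} (hχ : IsIrrCharacter G χ) {H : Subgroup G}
    (h : H ⊔ charKer χ = ⊤) : IsIrrCharacter H fun x => χ x := by
  haveI := hχ.isCharacter.charKer_normal
  have h1 := (hχ.deflate (N := charKer χ) le_rfl).comp_of_surjective
    ((QuotientGroup.mk' (charKer χ)).comp H.subtype) (fun q => by
      obtain ⟨g, rfl⟩ := QuotientGroup.mk'_surjective _ q
      obtain ⟨y, hy, k, hk, rfl⟩ := (H1.mem_sup_of_le_normalizer_right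
        Subgroup.le_normalizer_of_normal).1 (h ▸ Subgroup.mem_top g)
      exact ⟨⟨y, hy⟩, by simp [(QuotientGroup.eq_one_iff k).2 hk]⟩)
  convert h1 using 2 with x
  exact (deflate_mk le_rfl (x : G)).symm

theorem exists_larger_or_vanish {χ : G → ℂ} (hχ : IsIrrCharacter G χ) {H : Subgroup G}
    (hH : IsCoatom H) (h : ¬ charKer χ ≤ H) :
    (∃ ψ, IsIrrCharacter G ψ ∧ charDegree χ < charDegree ψ ∧ charKer ψ < charKer χ) ∨
      ∃ C : Subgroup G, C.Normal ∧ C ≤ H ∧ ∀ x ∈ H, χ x ≠ 0 → x ∈ C := by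
  haveI := Fintype.ofFinite G
  haveI := Fintype.ofFinite H
  have hθ := irr_res_of_sup_charKer hχ (H2.coatom_sup_eq_top hH h)
  refine or_iff_not_imp_left.2 fun hno => ?_
  have key : ∀ ψ, IsIrrCharacter G ψ → classInner (indFun H fun x => χ x) ψ ≠ 0 →
      ∀ x : H, ψ x = χ x := fun ψ hψ h1 => by
    rw [inner_indFun_left _ _ hψ.isClassFunction,
      hθ.isCharacter.classInner_comm (hψ.isCharacter.restrict H)] at h1
    by_cases h2 : charKer ψ ≤ H
    · refine congrFun (eq_of_constituent_of_degree_le (hψ.isCharacter.restrict H) hθ h1 ?_)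
      by_contra h3
      refine hno ⟨ψ, hψ, ?_, lt_of_le_of_ne (fun x hx => ?_) fun h4 => h (h4 ▸ h2)⟩
      · simp only [OneMemClass.coe_one, ← hψ.isCharacter.charDegree_cast,
          ← hχ.isCharacter.charDegree_cast, Complex.natCast_re, Nat.cast_le, not_le] at h3
        exact h3
      · exact hχ.isCharacter.mem_charKer.2 (apply_of_mem_charKer (χ := fun x : H => χ x)
          ((hψ.isCharacter.restrict H).charKer_le_of_constituent hθ h1 (x := ⟨x, h2 hx⟩)
            ((hψ.isCharacter.restrict H).mem_charKer.2 (apply_of_mem_charKer hx))))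
    · exact congrFun ((irr_res_of_sup_charKer hψ
        (H2.coatom_sup_eq_top hH h2)).eq_of_classInner_ne_zero hθ h1)
  have h1 : ∀ x : H, indFun H (fun x => χ x) x =
      (∑ ψ : IrrCharacter G, classInner (indFun H fun x => χ x) ψ) * χ x := fun x => by
    rw [(indFun_isClassFunction H _).apply_eq_sum, Finset.sum_mul]
    refine Finset.sum_congr rfl fun ψ _ => ?_
    by_cases h2 : classInner (indFun H fun x => χ x) ψ = 0
    · rw [h2, zero_mul, zero_mul]
    · rw [key ψ ψ.2 h2]
  generalize (∑ ψ : IrrCharacter G, classInner (indFun H fun x => χ x) ψ) = c at h1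
  rw [indFun_res H hχ.isClassFunction] at h1
  have hc := isCharacter_indFun H (isCharacter_one (G := H))
  refine ⟨_, hc.charKer_normal, fun x hx => mem_of_mem_charKer_indFun_one hx, fun x hx h2 =>
    hc.mem_charKer.2 ?_⟩
  exact (mul_right_cancel₀ h2 (h1 ⟨x, hx⟩)).trans
    (mul_right_cancel₀ hχ.apply_one_ne_zero (h1 1)).symm

theorem exists_larger_of_not_nilpotent {χ : G → ℂ} (hχ : IsIrrCharacter G χ)
    (h : ¬ Group.IsNilpotent (charKer χ)) :
    ∃ ψ, IsIrrCharacter G ψ ∧ charDegree χ < charDegree ψ ∧ charKer ψ < charKer χ := by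
  haveI := hχ.isCharacter.charKer_normal
  obtain ⟨p, hp, Q, hQ, h1⟩ : ∃ (p : ℕ) (_ : Fact p.Prime) (Q : Subgroup G),
      SylowIn p Q (charKer χ) ∧ Subgroup.normalizer (Q : Set G) ≠ ⊤ := by
    by_contra h1
    push Not at h1
    exact h (H2.isNilpotent_of_forall_sylowIn fun p hp Q hQ => (h1 p hp Q hQ).symm ▸ le_top)
  obtain ⟨H, hH, h2⟩ := H2.exists_isCoatom_ge h1
  have fr : ∀ L : Subgroup G, L.Normal → SylowIn p Q L → L ≤ H → False := fun L hL h3 h4 =>
    hH.1 (eq_top_iff.2 fun g _ => by
      obtain ⟨n, hn, m, hm, rfl⟩ := h3.frattini (g := g) (Subgroup.le_normalizer_of_normal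
        (Subgroup.mem_top g))
      exact mul_mem (h4 hn) (h2 hm))
  refine (exists_larger_or_vanish hχ hH fun h3 => fr _ inferInstance hQ h3).resolve_right ?_
  rintro ⟨C, hC, h3, h4⟩
  refine fr (C ⊓ charKer χ) inferInstance (hQ.of_le (fun x hx => ⟨h4 x (h2
    (Subgroup.le_normalizer hx)) ?_, hQ.le hx⟩) inf_le_right) (inf_le_left.trans h3)
  rw [apply_of_mem_charKer (hQ.le hx)]
  exact hχ.apply_one_ne_zero

theorem exists_larger_of_eq_fitting {χ : G → ℂ} (hχ : IsIrrCharacter G χ) {K : Subgroup G}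
    [K.Normal] (hK : charKer χ = K) (h : K = fittingSubgroup G) (hs : Group.IsSolvable (G ⧸ K))
    (ht : K ≠ ⊤) :
    ∃ ψ, IsIrrCharacter G ψ ∧ charDegree χ < charDegree ψ ∧ charKer ψ < charKer χ := by
  haveI := Fintype.ofFinite G
  obtain ⟨M, hM, h1, -, h2⟩ := exists_chief_above (L := K) (K := ⊤) ht.lt_top
  have h3 : ⁅M, M⁆ ≤ K := commutator_le_of_chief hs le_rfl h1 h2
  have hKn : Group.IsNilpotent K := h ▸ H1.isNilpotent_fittingSubgroup G
  have h4 : ¬ ⁅M, K⁆ ≤ frattini G := fun h4 => by
    refine h1.not_ge (h ▸ H1.le_fittingSubgroup (H2.isNilpotent_of_map_mk_of_le_frattini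
      (B := frattini G) le_rfl (isNilpotent_of_commutator_le_center ?_)))
    rw [← Subgroup.map_le_map_iff_of_injective (Subgroup.subtype_injective _),
      Subgroup.map_subtype_commutator, ← Subgroup.map_commutator]
    rintro _ ⟨x, hx, rfl⟩
    refine ⟨⟨_, x, h1.le (h3 hx), rfl⟩, Subgroup.mem_center_iff.2 ?_, rfl⟩
    rintro ⟨_, y, hy, rfl⟩
    apply Subtype.ext
    change QuotientGroup.mk' _ y * QuotientGroup.mk' _ x = QuotientGroup.mk' _ x * QuotientGroup.mk' _ y
    rw [← commutatorElement_eq_one_iff_mul_comm, ← map_commutatorElement]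
    exact (QuotientGroup.eq_one_iff _).2 (h4 (Subgroup.commutator_mem_commutator hy (h3 hx)))
  rw [H1.le_frattini_iff] at h4
  push Not at h4
  obtain ⟨H, hH, h4⟩ := h4
  have h5 : ¬ K ≤ H := fun h5 => h4 ((Subgroup.commutator_le_right M K).trans h5)
  refine (exists_larger_or_vanish hχ hH (hK ▸ h5)).resolve_right ?_
  rintro ⟨C, hC, h6, h7⟩
  rcases h2 (M ⊓ (C ⊔ K)) inferInstance (le_inf h1.le le_sup_right) inf_le_left with h8 | h8
  · haveI := Fintype.ofFinite M
    haveI := Fintype.ofFinite K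
    let E := NEmb.ofLeNormal h1.le
    have h9 := E.inner_of_vanish (χ := fun x => χ x) (fun _ => 1) fun g hg => by
      rw [NEmb.ofLeNormal_range] at hg
      obtain ⟨k, hk, y, hy, e⟩ := (H1.mem_sup_of_le_normalizer_left (N := K) (H := H)
        Subgroup.le_normalizer_of_normal).1 (by
          rw [sup_comm, H2.coatom_sup_eq_top hH h5]; exact Subgroup.mem_top (g : G))
      by_contra h9
      rw [← e, apply_mul_of_mem_charKer (hK.ge hk)] at h9
      refine hg (h8.le (Subgroup.mem_inf.2 ⟨g.2, ?_⟩))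
      change (g : G) ∈ _
      rw [← e]
      exact mul_mem (Subgroup.mem_sup_right hk) (Subgroup.mem_sup_left (h7 y hy h9))
    rw [(hχ.classInner_restrict_one_eq_zero_iff M).2 (hK ▸ h1.not_ge), mul_zero] at h9
    exact (hχ.classInner_restrict_one_eq_zero_iff K).1 h9 hK.ge
  · refine h4 ((Subgroup.commutator_mono (h8.ge.trans inf_le_right) le_rfl).trans
      (Subgroup.commutator_le.2 fun x hx k hk => ?_))
    obtain ⟨c, hc, y, hy, rfl⟩ := (H1.mem_sup_of_le_normalizer_left
      Subgroup.le_normalizer_of_normal).1 hx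
    have h9 : ⁅y, k⁆ ∈ H := H1.le_frattini_iff.1 (H2.commutator_le_frattini_of_normal hKn) H hH
      (Subgroup.commutator_mem_commutator hy hk)
    rw [show ⁅c * y, k⁆ = c * ⁅y, k⁆ * (k * c⁻¹ * k⁻¹) by simp only [commutatorElement_def]; group]
    exact mul_mem (mul_mem (h6 hc) h9) (h6 (hC.conj_mem _ (inv_mem hc) k))

theorem ncard_cd_quotient_fitting_lt (hs : Group.IsSolvable G) (h : fittingSubgroup G ≠ ⊤) :
    (charDegrees (G ⧸ fittingSubgroup G)).ncard < (charDegrees G).ncard := by
  refine Set.ncard_lt_ncard (ssubset_of_subset_of_ne (cd_quotient_subset _) fun h1 => ?_) finite_cd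
  obtain ⟨b, hb, h2⟩ := Set.exists_max_image (charDegrees G) id finite_cd ⟨1, one_mem_cd⟩
  rw [← h1] at hb
  obtain ⟨τ, rfl⟩ := hb
  have h3 : ∃ ψ, IsIrrCharacter G ψ ∧ charDegree (fun g : G => τ.1 g) < charDegree ψ ∧
      charKer ψ < charKer fun g : G => τ.1 g := by
    haveI := τ.2.inflate.isCharacter.charKer_normal
    by_cases h3 : Group.IsNilpotent (charKer fun g : G => τ.1 g)
    · exact exists_larger_of_eq_fitting τ.2.inflate ((H1.le_fittingSubgroup h3).antisymm
        (le_charKer_inflate _)) rfl inferInstance h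
    · exact exists_larger_of_not_nilpotent τ.2.inflate h3
  obtain ⟨ψ, hψ, h4, -⟩ := h3
  exact h4.not_ge (h2 _ (charDegree_mem_cd hψ))

omit [Finite G] in
theorem isNilpotent_quotient_comap {Q : Type*} [Group Q] (f : G →* Q) {A B : Subgroup Q}
    [(A.subgroupOf B).Normal] [((A.comap f).subgroupOf (B.comap f)).Normal]
    (h : Group.IsNilpotent (B ⧸ A.subgroupOf B)) :
    Group.IsNilpotent (B.comap f ⧸ (A.comap f).subgroupOf (B.comap f)) := by
  let g : B.comap f →* B ⧸ A.subgroupOf B := (QuotientGroup.mk' _).comp (f.subgroupComap B)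
  have h1 : (A.comap f).subgroupOf (B.comap f) = g.ker := by
    ext x
    exact (QuotientGroup.eq_one_iff (N := A.subgroupOf B) (f.subgroupComap B x)).symm
  exact Group.nilpotent_of_mulEquiv ((QuotientGroup.quotientMulEquivOfEq h1).trans
    (QuotientGroup.quotientKerEquivRange g)).symm

end kernels

theorem exists_nilpotent_series (n : ℕ) : ∀ (G : Type u) [Group G] [Finite G],
    Group.IsSolvable G → (Nontrivial G → (charDegrees G).ncard ≤ n) →
    ∃ N : ℕ → Subgroup G, N 0 = ⊥ ∧ N n = ⊤ ∧ Monotone N ∧ (∀ i, (N i).Normal) ∧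
      ∀ i, ∀ _ : ((N i).subgroupOf (N (i + 1))).Normal,
        Group.IsNilpotent (N (i + 1) ⧸ (N i).subgroupOf (N (i + 1))) := by
  induction n with
  | zero =>
    intro G _ _ _ h
    haveI : Subsingleton G := by
      by_contra h1
      have := h (not_subsingleton_iff_nontrivial.1 h1)
      rw [Nat.le_zero, Set.ncard_eq_zero finite_cd] at this
      exact Set.notMem_empty 1 (this ▸ one_mem_cd)
    exact ⟨fun _ => ⊥, rfl, Subsingleton.elim _ _, monotone_const, fun _ => inferInstance,
      fun _ _ => inferInstance⟩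
  | succ n ih =>
    intro G _ _ hs h
    obtain ⟨N, h0, h1, h2, h3, h4⟩ := ih (G ⧸ fittingSubgroup G) inferInstance fun h1 => by
      have h2 : fittingSubgroup G ≠ ⊤ := QuotientGroup.nontrivial_iff.1 h1
      haveI : Nontrivial G := by
        by_contra h3
        rw [not_nontrivial_iff_subsingleton] at h3
        exact h2 (Subsingleton.elim _ _)
      have := ncard_cd_quotient_fitting_lt hs h2
      have := h inferInstance
      omega
    refine ⟨fun i => Nat.casesOn i ⊥ fun j => (N j).comap (QuotientGroup.mk' _), rfl, ?_,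
      monotone_nat_of_le_succ fun i => ?_, fun i => ?_, fun i hi => ?_⟩
    · change (N n).comap _ = ⊤
      rw [h1, Subgroup.comap_top]
    · cases i with
      | zero => exact bot_le
      | succ i => exact Subgroup.comap_mono (h2 (Nat.le_succ i))
    · cases i with
      | zero => exact Subgroup.normal_bot
      | succ i => exact (h3 i).comap _
    · cases i with
      | zero =>
        haveI : Group.IsNilpotent ((N 0).comap (QuotientGroup.mk' (fittingSubgroup G))) := by
          rw [h0, MonoidHom.comap_bot, QuotientGroup.ker_mk']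
          exact H1.isNilpotent_fittingSubgroup G
        exact Group.nilpotent_quotient_of_nilpotent _
      | succ i =>
        haveI := h3 i
        exact isNilpotent_quotient_comap (QuotientGroup.mk' _) (h4 i inferInstance)

end Cfsg.Agent.H8
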