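import Mathlib
import Cfsg.Agent.H8.Deg4
import Cfsg.Agent.H9.Repl

/-!
Structure of groups with two character degrees.
-/

set_option autoImplicit false
set_option linter.dupNamespace false

namespace Cfsg.Agent.H8

open Cfsg Cfsg.Agent.H4 Cfsg.Agent.H5 Cfsg.Agent.H3
open scoped ComplexConjugate Pointwise commutatorElement

universe u

section lin
variable {G : Type*} [Group G] [Finite G]

theorem exists_linear_ne_one (h : ∀ a b : G, a * b = b * a) {u : G} (hu : u ≠ 1) :
    ∃ lam : G →* ℂˣ, lam u ≠ 1 := by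
  obtain ⟨χ, hχ, h1⟩ := exists_irr_apply_ne hu
  obtain ⟨lam, rfl⟩ := hχ.exists_linear_of_comm h
  exact ⟨lam, fun h2 => h1 (by simp [h2])⟩

theorem exists_linear_ne_one₂ (h : ∀ a b : G, a * b = b * a) {u v : G} (hu : u ≠ 1) (hv : v ≠ 1) :
    ∃ lam : G →* ℂˣ, lam u ≠ 1 ∧ lam v ≠ 1 := by
  obtain ⟨l1, h1⟩ := exists_linear_ne_one h hu
  obtain ⟨l2, h2⟩ := exists_linear_ne_one h hv
  by_cases h3 : l1 v = 1
  · by_cases h4 : l2 u = 1
    · exact ⟨l1 * l2, by simpa [h4] using h1, by simpa [h3] using h2⟩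
    · exact ⟨l2, h4, h2⟩
  · exact ⟨l1, h1, h3⟩

theorem exists_over_inertia [Fintype G] {N : Subgroup G} [N.Normal] [Fintype N] {θ : N → ℂ}
    (hθ : IsIrrCharacter N θ) {e : ℕ} (he : θ 1 = e) {T : Subgroup G} (hNT : N ≤ T)
    (hT : (NEmb.ofNormal N).inertia θ ≤ T) {φ : T → ℂ} (hφ : IsCharacter T φ)
    (hext : ∀ n : N, φ ⟨n, hNT n.2⟩ = θ n) {d : ℕ} (hd : d ∈ charDegrees (T ⧸ N.subgroupOf T)) :
    ∃ χ, IsIrrCharacter G χ ∧ χ 1 = (T.index * (d * e) : ℕ) ∧
      classInner (fun n : N => χ n) θ ≠ 0 := by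
  haveI := Fintype.ofFinite T
  obtain ⟨τ, hτ, h1⟩ := mem_cd.1 hd
  let E := NEmb.ofNormal N
  have h0 : ∀ n, E.f n ∈ T := fun n => hNT n.2
  have h2 : ∀ n, τ ((E.restrict T h0).f n) = τ 1 := fun n => by
    rw [(QuotientGroup.eq_one_iff _).2 (show (E.restrict T h0).f n ∈ N.subgroupOf T from n.2)]
  have h3 := (E.restrict T h0).gallagher_irr hθ hφ hext hτ.inflate h2
  have h4 : classInner (fun n => ((fun g : T => τ g) * φ) ⟨E.f n, h0 n⟩) θ = d := by
    have : (fun n => ((fun g : T => τ g) * φ) ⟨E.f n, h0 n⟩) = (d : ℂ) • θ := funext fun n => by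
      rw [Pi.mul_apply, Pi.smul_apply, smul_eq_mul, ← h1, ← h2 n, ← hext n]; rfl
    rw [this, classInner_smul_left, hθ.classInner_self, mul_one]
  have h5 : (d : ℂ) ≠ 0 := Nat.cast_ne_zero.2 (pos_of_mem_cd hd).ne'
  obtain ⟨h6, h7⟩ := E.isIrr_indFun_of_inertia_le hθ T h0 hT h3 (h4 ▸ h5)
  refine ⟨_, h6, ?_, by rw [h4] at h7; exact h7 ▸ h5⟩
  rw [indFun_one, Pi.mul_apply, QuotientGroup.mk_one, h1, show φ 1 = θ 1 from hext 1, he]
  push_cast; rfl

theorem degree_le_index_of_commutator_mem {χ : G → ℂ} (hχ : IsIrrCharacter G χ) {B : Subgroup G}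
    (h : ∀ x ∈ B, ∀ y ∈ B, ⁅x, y⁆ ∈ charKer χ) : charDegree χ ≤ B.index := by
  haveI := hχ.isCharacter.charKer_normal
  have h1 := (hχ.deflate (N := charKer χ) le_rfl).degree_le_index_of_comm
    (B.map (QuotientGroup.mk' _)) (by
      rintro _ ⟨a, ha, rfl⟩ _ ⟨b, hb, rfl⟩
      rw [← commutatorElement_eq_one_iff_mul_comm, ← map_commutatorElement]
      exact (QuotientGroup.eq_one_iff _).2 (h a ha b hb)) (d := charDegree χ)
    ((deflate_mk le_rfl 1).trans hχ.isCharacter.charDegree_cast.symm)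
  exact h1.trans (Nat.le_of_dvd (Nat.pos_of_ne_zero Subgroup.index_ne_zero_of_finite)
    (Subgroup.index_map_dvd _ (QuotientGroup.mk'_surjective _)))

/-- The stabilizer of a linear character of a normal subgroup. -/
def linI {A : Subgroup G} [A.Normal] (lam : A →* ℂˣ) : Subgroup G :=
  (NEmb.ofNormal A).inertia fun a => (lam a : ℂ)

omit [Finite G] in
theorem mem_linI {A : Subgroup G} [hA : A.Normal] {lam : A →* ℂˣ} {g : G} :
    g ∈ linI lam ↔ ∀ a (ha : a ∈ A), lam ⟨g * a * g⁻¹, hA.conj_mem a ha g⟩ = lam ⟨a, ha⟩ :=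
  (NEmb.mem_inertia _).trans ⟨fun h a ha => Units.ext (h ⟨a, ha⟩),
    fun h a => congrArg Units.val (h a a.2)⟩

omit [Finite G] in
theorem le_linI {A : Subgroup G} [A.Normal] (lam : A →* ℂˣ) : A ≤ linI lam := fun a ha =>
  (NEmb.ofNormal A).f_mem_inertia (isCharacter_linear lam).isClassFunction ⟨a, ha⟩

/-- conjugate of a linear character -/
def linC {A : Subgroup G} [A.Normal] (lam : A →* ℂˣ) (u : G) : A →* ℂˣ :=
  lam.comp ((NEmb.ofNormal A).actEquiv u).toMonoidHom

omit [Finite G] in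
theorem linC_apply {A : Subgroup G} [hA : A.Normal] (lam : A →* ℂˣ) (u : G) (a : A) :
    linC lam u a = lam ⟨u * a * u⁻¹, hA.conj_mem a a.2 u⟩ := rfl

omit [Finite G] in
theorem le_linI_linC {A : Subgroup G} [hA : A.Normal] (lam : A →* ℂˣ) [hn : (linI lam).Normal]
    (u : G) : linI lam ≤ linI (linC lam u) := fun t ht => mem_linI.2 fun a ha => by
  rw [linC_apply, linC_apply, ← mem_linI.1 (hn.conj_mem t ht u) (u * a * u⁻¹)]
  congr 2
  group

omit [Finite G] in
theorem inf_le_linI_div {A : Subgroup G} [A.Normal] (lam μ : A →* ℂˣ) :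
    linI lam ⊓ linI μ ≤ linI (lam / μ) := fun t ht => mem_linI.2 fun a ha => by
  rw [MonoidHom.div_apply, MonoidHom.div_apply, mem_linI.1 ht.1 a ha, mem_linI.1 ht.2 a ha]

omit [Finite G] in
theorem mem_linI_of_div {A : Subgroup G} [hA : A.Normal] (hcop : (Nat.card A).Coprime A.index)
    {lam : A →* ℂˣ} {u : G} (h : u ∈ linI (linC lam u / lam)) : u ∈ linI lam := by
  have key : ∀ (k : ℕ) a (ha : a ∈ A), lam ⟨u ^ k * a * (u ^ k)⁻¹, hA.conj_mem a ha _⟩ =
      lam ⟨a, ha⟩ * (linC lam u / lam) ⟨a, ha⟩ ^ k := fun k => by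
    induction k with
    | zero => intro a ha; simp
    | succ k ih =>
      intro a ha
      have h1 := ih (u * a * u⁻¹) (hA.conj_mem a ha u)
      rw [mem_linI.1 h a ha] at h1
      have h2 : lam ⟨a, ha⟩ * (linC lam u / lam) ⟨a, ha⟩ =
          lam ⟨u * a * u⁻¹, hA.conj_mem a ha u⟩ := by
        rw [MonoidHom.div_apply, mul_div_cancel]; rfl
      rw [pow_succ' ((linC lam u / lam) _), ← mul_assoc, h2, ← h1]
      congr 2
      rw [pow_succ]; group
  refine mem_linI.2 fun a ha => ?_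
  have h1 := key A.index a ha
  rw [mem_linI.1 (le_linI lam (A.pow_index_mem u)) a ha, left_eq_mul] at h1
  have h2 : (linC lam u / lam) ⟨a, ha⟩ ^ Nat.card A = 1 := by
    rw [← map_pow, pow_card_eq_one', map_one]
  have h3 := pow_gcd_eq_one.2 ⟨h2, h1⟩
  rw [hcop, pow_one, MonoidHom.div_apply, div_eq_one] at h3
  exact h3

theorem linI_index_mul_mem {A : Subgroup G} [A.Normal] (hcop : (Nat.card A).Coprime A.index)
    (lam : A →* ℂˣ) {d : ℕ} (hd : d ∈ charDegrees (linI lam ⧸ A.subgroupOf (linI lam))) :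
    (linI lam).index * d ∈ charDegrees G := by
  haveI := Fintype.ofFinite G
  haveI := Fintype.ofFinite A
  have h0 : ∀ n, (NEmb.ofNormal A).f n ∈ linI lam := fun n => le_linI lam n.2
  obtain ⟨φ, hφ, h1, -⟩ := ((NEmb.ofNormal A).restrict _ h0).exists_ext_of_coprime
    (isIrrCharacter_linear lam) (fun g n => (NEmb.mem_inertia _).1 g.2 n) (by
      rw [NEmb.restrict_range, NEmb.ofNormal_range]
      exact hcop.symm.coprime_dvd_left (Subgroup.relIndex_dvd_index_of_normal A _))
  obtain ⟨χ, hχ, h2, -⟩ := exists_over_inertia (isIrrCharacter_linear lam) (e := 1) (by simp)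
    (le_linI lam) le_rfl hφ.isCharacter h1 hd
  rw [mul_one] at h2
  exact mem_cd_of hχ h2

theorem not_commutator_le_of_nilpotent {A : Subgroup G} [A.Normal]
    (hn : Group.IsNilpotent (G ⧸ A)) (h : ¬ commutator G ≤ A) :
    ¬ commutator G ≤ ⁅commutator G, ⊤⁆ ⊔ A := fun h1 => by
  have hs' := QuotientGroup.mk'_surjective A
  haveI : ((commutator G).map (QuotientGroup.mk' A)).Normal :=
    Subgroup.Normal.map inferInstance _ hs'
  have h2 := H1.commutator_lt_of_isNilpotent (U := (commutator G).map (QuotientGroup.mk' A))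
    (L := ⊤) inferInstance le_top Subgroup.le_normalizer_of_normal (by
      rwa [Ne, Subgroup.map_eq_bot_iff, QuotientGroup.ker_mk'])
  refine h2.not_ge ((Subgroup.map_mono h1).trans ?_)
  rw [Subgroup.map_sup, QuotientGroup.map_mk'_self, sup_bot_eq, Subgroup.map_commutator,
    Subgroup.map_top_of_surjective _ hs']

theorem exists_abelian_normal_of_two {A : Subgroup G} [hA : A.Normal]
    (hc : ∀ a ∈ A, ∀ b ∈ A, a * b = b * a) (hcop : (Nat.card A).Coprime A.index)
    (hn : Group.IsNilpotent (G ⧸ A)) {m : ℕ} (h : ∀ d ∈ charDegrees G, d = 1 ∨ d = m)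
    (hZ : ¬ A ≤ Subgroup.center G) :
    ∃ T : Subgroup G, T.Normal ∧ (∀ a ∈ T, ∀ b ∈ T, a * b = b * a) ∧ T.index = m := by
  have hc' : ∀ a b : A, a * b = b * a := fun a b => Subtype.ext (hc a a.2 b b.2)
  have hT : ∀ lam : A →* ℂˣ, linI lam ≠ ⊤ → (linI lam).index = m ∧
      (∀ x ∈ linI lam, ∀ y ∈ linI lam, ⁅x, y⁆ ∈ A) ∧ commutator G ≤ linI lam := fun lam h1 => by
    have h2 : (linI lam).index ≠ 1 := by rwa [Ne, Subgroup.index_eq_one]
    have h3 : (linI lam).index = m := by
      have := linI_index_mul_mem hcop lam one_mem_cd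
      rw [mul_one] at this
      exact (h _ this).resolve_left h2
    have h4 : ∀ x ∈ linI lam, ∀ y ∈ linI lam, ⁅x, y⁆ ∈ A := fun x hx y hy => by
      have h4 := (comm_iff_cd (G := linI lam ⧸ A.subgroupOf (linI lam))).2 (fun d hd => by
        rcases h _ (linI_index_mul_mem hcop lam hd) with h5 | h5
        · exact Nat.eq_one_of_mul_eq_one_left h5
        · exact Nat.eq_of_mul_eq_mul_left (Nat.pos_of_ne_zero Subgroup.index_ne_zero_of_finite)
            (h5.trans (h3.symm.trans (mul_one _).symm)))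
        (QuotientGroup.mk' _ ⟨x, hx⟩) (QuotientGroup.mk' _ ⟨y, hy⟩)
      rw [← commutatorElement_eq_one_iff_mul_comm, ← map_commutatorElement] at h4
      exact (QuotientGroup.eq_one_iff (N := A.subgroupOf (linI lam)) _).1 h4
    refine ⟨h3, h4, by_contra fun h5 => ?_⟩
    have h6 := not_commutator_le_of_nilpotent hn fun h6 => h5 (h6.trans (le_linI lam))
    obtain ⟨χ, hχ, h7, h8⟩ : ∃ χ, IsIrrCharacter G χ ∧ ⁅commutator G, ⊤⁆ ⊔ A ≤ charKer χ ∧
        ¬ commutator G ≤ charKer χ := by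
      by_contra h7
      push Not at h7
      exact h6 (le_of_forall_le_charKer h7)
    have h9 : charDegree χ = m := (h _ (charDegree_mem_cd hχ)).resolve_left fun h9 =>
      h8 (hχ.commutator_le_charKer_iff.2 (by rw [← hχ.isCharacter.charDegree_cast, h9]; simp))
    haveI := hχ.isCharacter.charKer_normal
    have h10 := degree_le_index_of_commutator_mem hχ (B := linI lam ⊔ commutator G)
      fun x hx y hy => by
      obtain ⟨t, ht, c, hc, rfl⟩ := (H1.mem_sup_of_le_normalizer_right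
        Subgroup.le_normalizer_of_normal).1 hx
      obtain ⟨t', ht', c', hc', rfl⟩ := (H1.mem_sup_of_le_normalizer_right
        Subgroup.le_normalizer_of_normal).1 hy
      have e : ∀ c ∈ commutator G, ∀ g, Commute (QuotientGroup.mk' (charKer χ) c)
          (QuotientGroup.mk' (charKer χ) g) := fun c hc g => by
        rw [← commutatorElement_eq_one_iff_commute, ← map_commutatorElement]
        exact (QuotientGroup.eq_one_iff _).2 (h7 (Subgroup.mem_sup_left
          (Subgroup.commutator_mem_commutator hc (Subgroup.mem_top g))))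
      have e2 : Commute (QuotientGroup.mk' (charKer χ) t) (QuotientGroup.mk' (charKer χ) t') := by
        rw [← commutatorElement_eq_one_iff_commute, ← map_commutatorElement]
        exact (QuotientGroup.eq_one_iff _).2 (h7 (Subgroup.mem_sup_right (h4 t ht t' ht')))
      rw [← QuotientGroup.eq_one_iff]
      change QuotientGroup.mk' (charKer χ) _ = 1
      rw [map_commutatorElement, commutatorElement_eq_one_iff_commute, map_mul]
      refine Commute.mul_left ?_ (e c hc _)
      rw [map_mul]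
      exact e2.mul_right (e c' hc' t).symm
    rw [h9, ← h3] at h10
    exact h10.not_gt (Subgroup.index_strictAnti (left_lt_sup.2 h5))
  have hn' : ∀ lam : A →* ℂˣ, (linI lam).Normal := fun lam => by
    by_cases h1 : linI lam = ⊤
    · rw [h1]; infer_instance
    · exact Subgroup.Normal.of_commutator_le _ (hT lam h1).2.2
  have heq : ∀ lam μ : A →* ℂˣ, linI lam ≠ ⊤ → linI μ ≠ ⊤ → linI lam ≤ linI μ →
      linI lam = linI μ := fun lam μ h1 h2 h3 =>
    h3.eq_of_not_lt fun h4 => (Subgroup.index_strictAnti h4).ne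
      (((hT μ h2).1).trans (hT lam h1).1.symm)
  have hle : ∀ lam μ : A →* ℂˣ, linI lam ≠ ⊤ → linI lam ≤ linI μ := fun lam μ h1 => by
    by_cases h2 : linI μ = ⊤
    · rw [h2]; exact le_top
    have h3 : linI (lam * μ) ⊓ linI lam ≤ linI μ := by
      have := inf_le_linI_div (lam * μ) lam
      rwa [show lam * μ / lam = μ from MonoidHom.ext fun a => by simp] at this
    by_cases h4 : linI (lam * μ) = ⊤
    · rwa [h4, top_inf_eq] at h3
    by_contra h5
    have h6 : linI (lam * μ) ≤ linI lam := fun u hu => by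
      haveI := hn' lam
      haveI := hn' μ
      refine mem_linI_of_div hcop (by_contra fun h6 => h5 ?_)
      have h7 : linI (linC lam u / lam) ≠ ⊤ := fun h7 => h6 (h7 ▸ Subgroup.mem_top u)
      have h8 : linC lam u / lam = μ / linC μ u := MonoidHom.ext fun a => by
        have := mem_linI.1 hu a a.2
        rw [MonoidHom.mul_apply, MonoidHom.mul_apply] at this
        rw [MonoidHom.div_apply, MonoidHom.div_apply, div_eq_div_iff_mul_eq_mul, linC_apply,
          linC_apply, this, mul_comm]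
      rw [heq lam _ h1 h7 ((le_inf (le_linI_linC lam u) le_rfl).trans (inf_le_linI_div _ _)), h8,
        ← heq μ _ h2 (h8 ▸ h7) ((le_inf le_rfl (le_linI_linC μ u)).trans (inf_le_linI_div _ _))]
    rw [heq _ _ h4 h1 h6, inf_idem] at h3
    exact h5 h3
  obtain ⟨lam, h1⟩ : ∃ lam : A →* ℂˣ, linI lam ≠ ⊤ := by
    by_contra h1
    push Not at h1
    refine hZ fun a ha => Subgroup.mem_center_iff.2 fun g => by_contra fun h2 => ?_
    obtain ⟨lam, h3⟩ := exists_linear_ne_one hc'
      (u := ⟨_, hA.conj_mem a ha g⟩ * ⟨a, ha⟩⁻¹) fun h3 => h2 (by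
        rw [mul_inv_eq_one] at h3
        exact mul_inv_eq_iff_eq_mul.1 (congrArg Subtype.val h3))
    rw [map_mul, map_inv, mem_linI.1 (h1 lam ▸ Subgroup.mem_top g) a ha] at h3
    exact h3 (mul_inv_cancel _)
  have h2 : ∀ t ∈ linI lam, ∀ a ∈ A, t * a = a * t := fun t ht a ha => by
    by_contra h2
    obtain ⟨μ, h3⟩ := exists_linear_ne_one hc'
      (u := ⟨_, hA.conj_mem a ha t⟩ * ⟨a, ha⟩⁻¹) fun h3 => h2 (by
        rw [mul_inv_eq_one] at h3
        exact mul_inv_eq_iff_eq_mul.1 (congrArg Subtype.val h3))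
    rw [map_mul, map_inv, mem_linI.1 (hle lam μ h1 ht) a ha] at h3
    exact h3 (mul_inv_cancel _)
  refine ⟨_, hn' lam, fun x hx y hy => ?_, (hT lam h1).1⟩
  have h3 := (hT lam h1).2.1 x hx y hy
  have h4 := H9.commutatorElement_pow_left_of_commute (a := y) (h2 x hx _ h3).symm A.index
  rw [commutatorElement_eq_one_iff_mul_comm.2 (h2 y hy _ (A.pow_index_mem x)).symm] at h4
  have h5 : ⁅x, y⁆ ^ Nat.card A = 1 :=
    congrArg Subtype.val (pow_card_eq_one' (x := (⟨_, h3⟩ : A)))
  have h6 := pow_gcd_eq_one.2 ⟨h5, h4.symm⟩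
  rwa [hcop, pow_one, commutatorElement_eq_one_iff_mul_comm] at h6

theorem two_degrees_structure {m : ℕ} (h : ∀ d ∈ charDegrees G, d = 1 ∨ d = m)
    (hm : m ∈ charDegrees G) (hm1 : m ≠ 1) :
    (∃ A : Subgroup G, A.Normal ∧ (∀ a ∈ A, ∀ b ∈ A, a * b = b * a) ∧ A.index = m) ∨
      ∃ p e : ℕ, p.Prime ∧ m = p ^ e ∧ ∃ P A : Subgroup G, P.Normal ∧ A.Normal ∧ IsPGroup p P ∧
        A ≤ Subgroup.center G ∧ P ⊓ A = ⊥ ∧ P ⊔ A = ⊤ := by
  have hN : ∀ p : ℕ, p.Prime → p ∣ m → ∃ A : Subgroup G, A.Normal ∧ (Nat.card A).Coprime p ∧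
      ∃ k, A.index = p ^ k := fun p hp hpm => by
    obtain ⟨A, hA, h1, h2, -⟩ := exists_compl_of_dvd_cd (G := G) hp
      fun d hd hd1 => ((h d hd).resolve_left hd1).symm ▸ hpm
    exact ⟨A, hA, h1, h2⟩
  have hab : ∀ A : Subgroup G, A.Normal → (Nat.card A).Coprime m →
      ∀ a ∈ A, ∀ b ∈ A, a * b = b * a := fun A hA h1 a ha b hb =>
    congrArg Subtype.val ((comm_iff_cd (G := A)).2 (fun c hc => by
      obtain ⟨e, -, h2⟩ := cd_over_normal A hc
      rcases h _ h2 with h3 | h3
      · exact Nat.eq_one_of_mul_eq_one_left h3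
      · exact Nat.eq_one_of_dvd_coprimes h1 (dvd_card_of_mem_cd hc) (Dvd.intro_left e h3))
      ⟨a, ha⟩ ⟨b, hb⟩)
  by_cases hpp : ∃ p e : ℕ, p.Prime ∧ m = p ^ e
  · obtain ⟨p, e, hp, rfl⟩ := hpp
    haveI := Fact.mk hp
    obtain ⟨A, hA, h1, k, hk⟩ := hN p hp (dvd_pow_self p (by rintro rfl; exact hm1 rfl))
    by_cases hZ : A ≤ Subgroup.center G
    · let P : Sylow p G := default
      have h2 : (P : Subgroup G) ⊔ A = ⊤ := by
        rw [← Subgroup.index_eq_one]
        exact Nat.eq_one_of_dvd_coprimes (((Nat.Prime.coprime_iff_not_dvd hp).2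
          P.not_dvd_index).pow_left k) (hk ▸ Subgroup.index_dvd_of_le le_sup_right)
          (Subgroup.index_dvd_of_le le_sup_left)
      refine Or.inr ⟨p, e, hp, rfl, P, A, H2.normal_of_sup_eq_top Subgroup.le_normalizer
        (hZ.trans (Subgroup.center_le_normalizer _)) h2, hA, P.2, hZ, ?_, h2⟩
      obtain ⟨j, hj⟩ := IsPGroup.iff_card.1 P.2
      exact Subgroup.inf_eq_bot_of_coprime (hj ▸ (h1.symm.pow_left j))
    · exact Or.inl (exists_abelian_normal_of_two (hab A hA (h1.pow_right e))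
        (hk ▸ h1.pow_right k) (isNilpotent_quotient_of_index hp hk) h hZ)
  choose! N hN1 hN2 k hN3 using hN
  let A : Subgroup G := ⨅ (p : ℕ) (_ : p.Prime) (_ : p ∣ m), N p
  have hA : ∀ x, x ∈ A ↔ ∀ p : ℕ, p.Prime → p ∣ m → x ∈ N p := fun x => by
    simp only [A, Subgroup.mem_iInf]
  haveI hAn : A.Normal := ⟨fun a ha g => (hA _).2 fun p hp hpm =>
    (hN1 p hp hpm).conj_mem a ((hA a).1 ha p hp hpm) g⟩
  have h1 : commutator G ≤ A := fun x hx => (hA x).2 fun p hp hpm => by
    haveI := hN1 p hp hpm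
    haveI := Fact.mk hp
    refine derivedSeries_le_of_quotient (k := 1) (derivedSeries_one_eq_bot_of_cd fun d hd => ?_)
      (by rwa [derivedSeries_one])
    refine (h d (cd_quotient_subset _ hd)).resolve_right ?_
    rintro rfl
    obtain ⟨j, hj⟩ := exists_pow_of_mem_cd (IsPGroup.of_card (G := G ⧸ N p) (hN3 p hp hpm)) hd
    exact hpp ⟨p, j, hp, hj⟩
  have h2 : (Nat.card A).Coprime m := Nat.coprime_of_dvd fun p hp h2 hpm =>
    (Nat.Prime.coprime_iff_not_dvd hp).1 (hN2 p hp hpm).symm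
      (h2.trans (Subgroup.card_dvd_of_le fun x hx => (hA x).1 hx p hp hpm))
  have h3 : (Nat.card A).Coprime A.index := Nat.coprime_of_dvd fun q hq h3 h4 => by
    haveI := Fact.mk hq
    obtain ⟨x, hx⟩ := exists_prime_orderOf_dvd_card' (G := G ⧸ A) q h4
    obtain ⟨g, rfl⟩ := QuotientGroup.mk'_surjective A x
    have h5 : g ^ m ^ Nat.card G ∈ A := (hA _).2 fun p hp hpm => by
      haveI := hN1 p hp hpm
      have h5 : k p ≤ Nat.card G := ((Nat.lt_pow_self hp.one_lt).trans_le (hN3 p hp hpm ▸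
        Nat.le_of_dvd Nat.card_pos (N p).index_dvd_card)).le
      obtain ⟨c, hc⟩ := (pow_dvd_pow p h5).trans (pow_dvd_pow_of_dvd hpm _)
      rw [hc, pow_mul, ← hN3 p hp hpm]
      exact pow_mem ((N p).pow_index_mem g) c
    rw [← QuotientGroup.eq_one_iff, QuotientGroup.mk_pow, ← orderOf_dvd_iff_pow_eq_one] at h5
    exact (Nat.Prime.coprime_iff_not_dvd hq).1 (h2.coprime_dvd_left h3)
      (hq.dvd_of_dvd_pow (hx ▸ h5))
  refine Or.inl (exists_abelian_normal_of_two (hab A hAn h2) h3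
    (isNilpotent_of_commutator_le_center ?_) h fun hZ => hm1 (comm_iff_cd.1 (fun x y => ?_) m hm))
  · rw [← derivedSeries_one, ← map_derivedSeries_eq (QuotientGroup.mk'_surjective A),
      derivedSeries_one, (Subgroup.map_eq_bot_iff _).2 (by rwa [QuotientGroup.ker_mk'])]
    exact bot_le
  have h4 : ⁅x, y⁆ ∈ A := h1 (Subgroup.commutator_mem_commutator (Subgroup.mem_top x)
    (Subgroup.mem_top y))
  have h5 := H9.commutatorElement_pow_left_of_commute (a := y)
    (Subgroup.mem_center_iff.1 (hZ h4) x).symm A.index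
  rw [commutatorElement_eq_one_iff_mul_comm.2
    (Subgroup.mem_center_iff.1 (hZ (A.pow_index_mem x)) y).symm] at h5
  have h6 : ⁅x, y⁆ ^ Nat.card A = 1 :=
    congrArg Subtype.val (pow_card_eq_one' (x := (⟨_, h4⟩ : A)))
  have h7 := pow_gcd_eq_one.2 ⟨h6, h5.symm⟩
  rwa [h3, pow_one, commutatorElement_eq_one_iff_mul_comm] at h7

/-- The product of an extension with a fully ramified character of the factor group. -/
theorem isIrr_mul_of_charCenter {θ χ : G → ℂ} (hθ : IsIrrCharacter G θ)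
    (h : ∀ a b : G, a * b * a⁻¹ * b⁻¹ ∈ charCenter θ) (hχ : IsCharacter G χ)
    (hres : IsIrrCharacter (charCenter θ) fun z => χ z) : IsIrrCharacter G (θ * χ) := by
  haveI := Fintype.ofFinite G
  haveI := Fintype.ofFinite (charCenter θ)
  refine (hθ.isCharacter.mul hχ).isIrr_of_classInner_self ?_
  have h1 := (classInner_restrict_self_eq_iff (θ * χ) (charCenter θ)).2 fun g hg => by
    rw [Pi.mul_apply, apply_eq_zero_of_not_mem_charCenter hθ (h g) hg, zero_mul]
  have h2 : classInner (fun x : charCenter θ => (θ * χ) x) (fun x : charCenter θ => (θ * χ) x) =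
      (charCenter θ).index * classInner (fun x : charCenter θ => χ x) fun x => χ x := by
    rw [classInner_def, classInner_def, mul_left_comm]
    congr 1
    rw [Finset.mul_sum]
    refine Finset.sum_congr rfl fun z _ => ?_
    have h2 : θ z * conj (θ z) = (charCenter θ).index := by
      rw [Complex.mul_conj, Complex.normSq_eq_norm_sq, hθ.isCharacter.mem_charCenter.1 z.2,
        ← degree_sq_eq_index_charCenter hθ h, ← hθ.isCharacter.charDegree_cast]
      simp
    rw [Pi.mul_apply, map_mul, ← h2]; ring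
  rw [h2, hres.classInner_self] at h1
  exact (mul_left_cancel₀ (index_ne_zero_C _) h1).symm

theorem sum_card_centralizer_gt {A : Subgroup G} (hA : ∀ a ∈ A, ∀ b ∈ A, a * b = b * a) {p : ℕ}
    (hp : 1 < p) (h : ∀ d ∈ charDegrees G, d ≤ p) [Fintype A] :
    Nat.card A * Nat.card G < p * ∑ a : A, Nat.card (Subgroup.centralizer ({(a : G)} : Set G)) := by
  have h1 : ∀ χ : IrrCharacter G, (Nat.card A * charDegree χ.1 : ℝ) ≤ ∑ a : A, ‖χ.1 a‖ ^ 2 :=
    fun χ => by
    have h1 := (χ.2.isCharacter.restrict A).degree_le_classInner_of_comm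
      fun a b => Subtype.ext (hA a a.2 b b.2)
    rw [classInner_self_re, OneMemClass.coe_one, ← irr_coe_charDegree, Complex.natCast_re,
      le_inv_mul_iff₀ (by exact_mod_cast Nat.card_pos)] at h1
    exact h1
  have h2 : Nat.card A * ∑ χ : IrrCharacter G, charDegree χ.1 ≤
      ∑ a : A, Nat.card (Subgroup.centralizer ({(a : G)} : Set G)) := by
    have h2 := Finset.sum_le_sum fun χ (_ : χ ∈ Finset.univ) => h1 χ
    rw [Finset.sum_comm, ← Finset.mul_sum] at h2
    simp only [sum_irr_norm_sq] at h2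
    exact_mod_cast h2
  have h3 : Nat.card G < p * ∑ χ : IrrCharacter G, charDegree χ.1 := by
    have h3 := sum_irr_degree_sq (G := G)
    simp only [← irr_coe_charDegree] at h3
    have h4 : ∑ θ : IrrCharacter G, charDegree θ.1 ^ 2 = Nat.card G := by exact_mod_cast h3
    rw [← h4, Finset.mul_sum]
    refine Finset.sum_lt_sum (fun χ _ => ?_) ⟨irrOne G, Finset.mem_univ _, ?_⟩
    · rw [sq]; exact Nat.mul_le_mul_right _ (h _ ⟨χ, rfl⟩)
    · rw [show charDegree (irrOne G).1 = 1 from charDegree_one]; simpa using hp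
  calc _ < Nat.card A * (p * ∑ χ : IrrCharacter G, charDegree χ.1) :=
        Nat.mul_lt_mul_of_pos_left h3 Nat.card_pos
    _ ≤ _ := by rw [mul_left_comm]; exact Nat.mul_le_mul_left _ h2

omit [Finite G] in
theorem comm_sup_zpowers {A : Subgroup G} (hA : ∀ a ∈ A, ∀ b ∈ A, a * b = b * a) {g : G}
    (h : ∀ a ∈ A, g * a = a * g) :
    ∀ x ∈ A ⊔ Subgroup.zpowers g, ∀ y ∈ A ⊔ Subgroup.zpowers g, x * y = y * x := by
  have h1 : A ⊔ Subgroup.zpowers g ≤ Subgroup.centralizer ((A ⊔ Subgroup.zpowers g :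
      Subgroup G) : Set G) := by
    refine sup_le ?_ ?_ <;> rw [Subgroup.le_centralizer_iff] <;> refine sup_le ?_ ?_
    · exact fun a ha b hb => hA b hb a ha
    · exact Subgroup.zpowers_le.2 fun a ha => (h a ha).symm
    · rw [Subgroup.le_centralizer_iff]; exact Subgroup.zpowers_le.2 fun a ha => (h a ha).symm
    · exact Subgroup.le_centralizer _
  exact fun x hx y hy => h1 hy x hx

theorem index_eq_of_between {A B : Subgroup G} {p : ℕ} (hp : p.Prime) (hA : A.index = p ^ 2)
    (h : A < B) (hB : B ≠ ⊤) : B.index = p := by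
  obtain ⟨i, hi, h1⟩ := (Nat.dvd_prime_pow hp).1 (hA ▸ Subgroup.index_dvd_of_le h.le)
  have h2 := Subgroup.index_strictAnti h
  rw [hA, h1, Nat.pow_lt_pow_iff_right hp.one_lt] at h2
  have h3 : i ≠ 0 := by rintro rfl; exact hB (Subgroup.index_eq_one.1 h1)
  rw [h1, show i = 1 by omega, pow_one]

theorem center_index_of_prime_degree {p k : ℕ} (hp : p.Prime)
    (hZ : (Subgroup.center G).index = p ^ k) (h : ∀ d ∈ charDegrees G, d = 1 ∨ d = p)
    (hna : commutator G ≠ ⊥)
    (hno : ¬ ∃ A : Subgroup G, A.Normal ∧ (∀ a ∈ A, ∀ b ∈ A, a * b = b * a) ∧ A.index = p) :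
    (Subgroup.center G).index = p ^ 3 := by
  classical
  haveI := Fintype.ofFinite G
  haveI := isNilpotent_quotient_of_index hp hZ
  haveI : Group.IsNilpotent G := isNilpotent_of_ker_le_center (QuotientGroup.mk' _)
    (QuotientGroup.ker_mk' _).le
  obtain ⟨θ, hθ, h1, h2⟩ : ∃ θ, IsIrrCharacter G θ ∧ ⁅commutator G, ⊤⁆ ≤ charKer θ ∧
      ¬ commutator G ≤ charKer θ := by
    by_contra h1
    push Not at h1
    exact (H1.commutator_lt_of_isNilpotent (U := commutator G) (L := ⊤) inferInstance le_top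
      Subgroup.le_normalizer_of_normal hna).not_ge (le_of_forall_le_charKer h1)
  have h3 : charDegree θ = p := (h _ (charDegree_mem_cd hθ)).resolve_left fun h9 =>
    h2 (hθ.commutator_le_charKer_iff.2 (by rw [← hθ.isCharacter.charDegree_cast, h9]; simp))
  have h4 : commutator G ≤ charCenter θ := fun c hc => hθ.mem_charCenter_of_commutator fun g =>
    h1 (Subgroup.commutator_mem_commutator hc (Subgroup.mem_top g))
  have h5 : ∀ a b : G, a * b * a⁻¹ * b⁻¹ ∈ charCenter θ := fun a b =>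
    h4 (Subgroup.commutator_mem_commutator (Subgroup.mem_top a) (Subgroup.mem_top b))
  have hI := degree_sq_eq_index_charCenter hθ h5
  rw [h3] at hI
  have hp2 : p ^ 2 ∉ charDegrees G := fun h6 => by
    have := hp.one_lt
    rcases h _ h6 with h7 | h7 <;> nlinarith
  have hZA := hθ.center_le_charCenter
  haveI hAn := hθ.isClassFunction.charCenter_normal
  haveI := Fintype.ofFinite (charCenter θ)
  have hc' : ∀ a b : charCenter θ, a * b = b * a := comm_iff_cd.2 fun d hd => by
    by_contra hd1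
    obtain ⟨ψ, hψ, e1⟩ := mem_cd.1 hd
    let E := NEmb.ofNormal (charCenter θ)
    obtain ⟨χ, hχ, h6⟩ := exists_irr_over_hom E.f E.inj hψ
    obtain ⟨e, -, h7⟩ := E.degree_dvd_index hψ hχ h6
    have h8 : charDegree χ = e * d := charDegree_eq_of (by rw [h7, e1]; push_cast; rfl)
    have h9 : e * d = p := (h _ (h8 ▸ charDegree_mem_cd hχ)).resolve_left fun h9 =>
      hd1 (Nat.eq_one_of_mul_eq_one_left h9)
    obtain rfl : e = 1 := ((Nat.dvd_prime hp).1 (Dvd.intro _ h9)).resolve_right fun h10 =>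
      hd1 (Nat.eq_of_mul_eq_mul_left hp.pos (by rw [mul_one, ← h10, h9, h10]))
    have h10 := eq_of_constituent_of_degree_le (hχ.isCharacter.comp E.f) hψ h6 (by simp [h7])
    refine hp2 (mem_cd_of (isIrr_mul_of_charCenter hθ h5 hχ.isCharacter (h10 ▸ hψ :)) ?_)
    rw [Pi.mul_apply, ← hθ.isCharacter.charDegree_cast, ← hχ.isCharacter.charDegree_cast, h8, h9, h3]
    push_cast; ring
  generalize charCenter θ = A at *
  have hc : ∀ a ∈ A, ∀ b ∈ A, a * b = b * a := fun a ha b hb =>
    congrArg Subtype.val (hc' ⟨a, ha⟩ ⟨b, hb⟩)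
  have h6 : ∀ g, g ∉ A → ∃ b ∈ A, g * b ≠ b * g := fun g hg => by
    by_contra h6
    push Not at h6
    have h7 := comm_sup_zpowers hc h6
    by_cases h8 : A ⊔ Subgroup.zpowers g = ⊤
    · exact hna (derivedSeries_one G ▸ derivedSeries_eq_bot_of_comm
        (fun a b => h7 a (h8 ▸ Subgroup.mem_top a) b (h8 ▸ Subgroup.mem_top b)) 0)
    · exact hno ⟨_, Subgroup.Normal.of_commutator_le _ (h4.trans le_sup_left), h7,
        index_eq_of_between hp hI.symm (left_lt_sup.2 (by rwa [Subgroup.zpowers_le])) h8⟩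
  have h7 : ∀ a ∈ A, a ∉ Subgroup.center G → Subgroup.centralizer ({a} : Set G) = A :=
    fun a ha ha1 => by
    refine le_antisymm (fun g hg => by_contra fun hg1 => ha1 (Subgroup.mem_center_iff.2
      fun y => by_contra fun hy => ?_)) fun b hb =>
        Subgroup.mem_centralizer_singleton_iff.2 (hc b hb a ha)
    obtain ⟨b, hb, hb1⟩ := h6 g hg1
    have e : ∀ g b (hb : b ∈ A), g * b ≠ b * g →
        (⟨_, hAn.conj_mem b hb g⟩ * ⟨b, hb⟩⁻¹ : A) ≠ 1 := fun g b hb h8 h9 => h8 (by
      rw [mul_inv_eq_one] at h9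
      exact mul_inv_eq_iff_eq_mul.1 (congrArg Subtype.val h9))
    obtain ⟨lam, h8, h9⟩ := exists_linear_ne_one₂ hc' (e g b hb hb1) (e y a ha hy)
    rw [map_mul, map_inv, Ne, mul_inv_eq_one] at h8 h9
    have h10 : g ∉ linI lam := fun h10 => h8 (mem_linI.1 h10 b hb)
    have h11 : A < linI lam := lt_of_le_of_ne (le_linI lam) fun h11 => hp2 (mem_cd_of
      (((NEmb.ofNormal A).isIrr_indHom_iff (isIrrCharacter_linear lam)).2 (by
        rw [NEmb.ofNormal_range]; exact h11.ge)) (by
        rw [indHom_one_of_injective _ (NEmb.inj _), NEmb.ofNormal_range, ← hI]; simp))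
    have h12 := index_eq_of_between hp hI.symm h11 fun h12 => h10 (h12 ▸ Subgroup.mem_top g)
    haveI := Subgroup.Normal.of_commutator_le _ (h4.trans h11.le)
    have h13 : linI lam ⊔ Subgroup.centralizer ({a} : Set G) = ⊤ := by
      rw [← Subgroup.index_eq_one]
      refine ((Nat.dvd_prime hp).1 (h12 ▸ Subgroup.index_dvd_of_le le_sup_left)).resolve_right
        fun h13 => (Subgroup.index_strictAnti (left_lt_sup.2 fun h14 => h10 (h14 hg))).ne
          (h13.trans h12.symm)
    obtain ⟨t, ht, c, hc1, rfl⟩ := (H1.mem_sup_of_le_normalizer_left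
      Subgroup.le_normalizer_of_normal).1 (h13 ▸ Subgroup.mem_top y)
    refine h9 ((congrArg lam (Subtype.ext ?_)).trans (mem_linI.1 ht a ha))
    change t * c * a * (t * c)⁻¹ = t * a * t⁻¹
    rw [mul_assoc t, Subgroup.mem_centralizer_singleton_iff.1 hc1]; group
  have h8 := sum_card_centralizer_gt hc hp.one_lt fun d hd => by
    rcases h d hd with rfl | rfl
    exacts [hp.one_le, le_rfl]
  have h9 : ∑ a : A, Nat.card (Subgroup.centralizer ({(a : G)} : Set G)) +
      Nat.card (Subgroup.center G) * Nat.card A =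
      Nat.card (Subgroup.center G) * Nat.card G + Nat.card A * Nat.card A := by
    have e1 : Nat.card (Subgroup.center G) =
        ∑ a : A, if (a : G) ∈ Subgroup.center G then 1 else 0 := by
      rw [← H1.card_subgroupOf_of_le hZA]
      exact natCard_subtype_eq_sum (R := ℕ) fun a : A => (a : G) ∈ Subgroup.center G
    have e2 : Nat.card A * Nat.card A = ∑ _a : A, Nat.card A := by
      rw [Finset.sum_const, Finset.card_univ, smul_eq_mul, Nat.card_eq_fintype_card]
    rw [e2, e1, Finset.sum_mul, Finset.sum_mul, ← Finset.sum_add_distrib, ← Finset.sum_add_distrib]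
    refine Finset.sum_congr rfl fun a _ => ?_
    split_ifs with h9
    · rw [Subgroup.centralizer_eq_top_iff_subset.2 (by simpa using h9), Subgroup.card_top]; ring
    · rw [h7 a a.2 h9]; ring
  have h10 := Subgroup.relIndex_mul_index hZA
  rw [← hI, hZ] at h10
  obtain ⟨j, -, hj⟩ := (Nat.dvd_prime_pow hp).1 (Dvd.intro _ h10)
  have h11 := H1.card_mul_relIndex hZA
  have h12 := A.card_mul_index
  rw [← hI] at h12
  have h13 : j ≠ 0 := by
    rintro rfl
    rw [pow_zero, Subgroup.relIndex_eq_one] at hj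
    obtain ⟨g, hg⟩ : ∃ g, g ∉ A := by
      by_contra h13
      push Not at h13
      rw [(Subgroup.eq_top_iff' A).2 h13, Subgroup.index_top] at hI
      have := hp.one_lt
      nlinarith
    obtain ⟨b, hb, hb1⟩ := h6 g hg
    exact hb1 (Subgroup.mem_center_iff.1 (hj hb) g)
  have h14 : j ≤ 1 := by
    by_contra h14
    have h15 : p ^ 2 ≤ p ^ j := Nat.pow_le_pow_right hp.pos (by omega)
    rw [hj] at h11
    have hz : 0 < Nat.card (Subgroup.center G) := Nat.card_pos
    generalize Nat.card (Subgroup.center G) = z at *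
    generalize ∑ a : A, Nat.card (Subgroup.centralizer ({(a : G)} : Set G)) = s at *
    rw [← h12, ← h11] at h8 h9
    generalize p ^ j = c at *
    have hp2 := hp.two_le
    have h16 : z * c * (z * c * p ^ 2) + p * (z * (z * c)) <
        p * (z * (z * c * p ^ 2) + z * c * (z * c)) := by rw [← h9, mul_add]; omega
    have h17 : c * p + 1 < p ^ 2 + c := by
      refine Nat.lt_of_mul_lt_mul_left (a := z * z * c * p) ?_
      nlinarith
    nlinarith
  rw [hZ, ← h10, hj, show j = 1 by omega]; ring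

end lin

end Cfsg.Agent.H8
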