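import Mathlib
import Cfsg.Agent.H8.FS1

/-!
# Invariant bilinear forms, real representations and the Frobenius-Schur indicator
-/

namespace Cfsg.Agent.H8

open Cfsg Cfsg.Agent.H4 Cfsg.Agent.H5 Matrix
open scoped ComplexConjugate ComplexOrder

section Form
variable {G : Type*} [Group G] {ι : Type*} [Fintype ι] [DecidableEq ι]

/-- the contragredient matrix representation -/
def dualMat (X : G →* Matrix ι ι ℂ) : G →* Matrix ι ι ℂ where
  toFun g := (X g⁻¹)ᵀ
  map_one' := by simp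
  map_mul' a b := by rw [_root_.mul_inv_rev, map_mul, Matrix.transpose_mul]

theorem dualMat_apply (X : G →* Matrix ι ι ℂ) (g : G) : dualMat X g = (X g⁻¹)ᵀ := rfl

theorem mem_invariants_dual (X : G →* Matrix ι ι ℂ) (B : Matrix ι ι ℂ) :
    B ∈ (sqRep (dualMat X)).invariants ↔ ∀ g, (X g)ᵀ * B * X g = B := by
  rw [Representation.mem_invariants]
  simp only [sqRep_apply, dualMat_apply, Matrix.transpose_transpose, Matrix.mul_assoc]
  exact ⟨fun h g => by simpa using h g⁻¹, fun h g => h g⁻¹⟩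

variable [Fintype G]

theorem inv_form (X : G →* Matrix ι ι ℂ) (hirr : IsIrrCharacter G fun g => (X g).trace)
    (hreal : ∀ g, (X g).trace.im = 0) :
    (∃ B : Matrix ι ι ℂ, B ≠ 0 ∧ ∀ g, (X g)ᵀ * B * X g = B) ∧
      ∀ B : Matrix ι ι ℂ, (∀ g, (X g)ᵀ * B * X g = B) → Bᵀ = fsInd (fun g => (X g).trace) • B := by
  have hc : ∀ g, conj (X g).trace = (X g).trace := fun g => Complex.conj_eq_iff_im.mpr (hreal g)
  have htr : ∀ g, (dualMat X g).trace = (X g).trace := fun g => by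
    rw [dualMat_apply, Matrix.trace_transpose, ← hc g]
    exact hirr.isCharacter.apply_inv g
  have h1 : (Nat.card G : ℂ)⁻¹ * ∑ g, (sqRep (dualMat X)).character g = 1 := by
    rw [← hirr.classInner_self, classInner_def]
    congr 1
    exact Finset.sum_congr rfl fun g _ => by rw [sqRep_character, htr, hc, pow_two]
  have h2 : Module.finrank ℂ (sqRep (dualMat X)).invariants = 1 := by
    have := classInner_character_one (sqRep (dualMat X))
    rw [classInner_one_right, h1] at this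
    exact_mod_cast this.symm
  obtain ⟨B₀, hB0, hB⟩ := finrank_eq_one_iff'.mp h2
  refine ⟨⟨B₀, fun h => hB0 (Subtype.ext h), (mem_invariants_dual X _).mp B₀.2⟩, ?_⟩
  obtain ⟨ε, hε⟩ := hB ⟨(B₀ : Matrix ι ι ℂ)ᵀ, (mem_invariants_dual X _).mpr fun g => by
    have := congrArg Matrix.transpose ((mem_invariants_dual X _).mp B₀.2 g)
    simpa [Matrix.transpose_mul, Matrix.mul_assoc] using this⟩
  have hε' : ε • (B₀ : Matrix ι ι ℂ) = (B₀ : Matrix ι ι ℂ)ᵀ := congrArg Subtype.val hε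
  have h3 : ∀ B ∈ (sqRep (dualMat X)).invariants, Bᵀ = ε • B := fun B hBm => by
    obtain ⟨c, hc⟩ := hB ⟨B, hBm⟩
    have : c • (B₀ : Matrix ι ι ℂ) = B := congrArg Subtype.val hc
    rw [← this, Matrix.transpose_smul, ← hε', smul_comm]
  have h4 : transL ι * (∑ g, sqRep (dualMat X) g) = ε • ∑ g, sqRep (dualMat X) g := by
    ext1 Y
    rw [Module.End.mul_apply, transL_apply, LinearMap.smul_apply]
    refine h3 _ ((Representation.mem_invariants _ _).mpr fun g => ?_)
    rw [← Module.End.mul_apply, Finset.mul_sum]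
    congr 1
    simp only [← map_mul]
    exact Fintype.sum_equiv (Equiv.mulLeft g) _ _ fun _ => rfl
  have h5 := congrArg (LinearMap.trace ℂ _) h4
  rw [Finset.mul_sum, map_sum, map_smul, map_sum] at h5
  simp only [transL_comm, trace_sqRep_mul_transL, htr] at h5
  have h6 : fsInd (fun g => (X g).trace) = ε := by
    rw [fsInd, h5, smul_eq_mul, mul_left_comm]
    exact (congrArg (ε * ·) h1).trans (mul_one ε)
  intro B hBi
  rw [h6]
  exact h3 B ((mem_invariants_dual X B).mpr hBi)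

theorem sum_conjTranspose_mul_posDef (X : G →* Matrix ι ι ℂ) : (∑ g, (X g)ᴴ * X g).PosDef := by
  classical
  rw [← Finset.add_sum_erase _ _ (Finset.mem_univ (1 : G)), map_one, Matrix.conjTranspose_one, mul_one]
  exact Matrix.PosDef.one.add_posSemidef
    (Matrix.posSemidef_sum _ fun g _ => Matrix.posSemidef_conjTranspose_mul_self _)

theorem sum_conjTranspose_mul_inv (X : G →* Matrix ι ι ℂ) (h : G) :
    (X h)ᴴ * (∑ g, (X g)ᴴ * X g) * X h = ∑ g, (X g)ᴴ * X g := by
  rw [Finset.mul_sum, Finset.sum_mul]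
  refine Fintype.sum_equiv (Equiv.mulRight h) _ _ fun g => ?_
  simp [Matrix.mul_assoc]

theorem fsInd_eq_one_of_real (X : G →* Matrix ι ι ℂ) (hirr : IsIrrCharacter G fun g => (X g).trace)
    (hr : ∀ g i j, (X g i j).im = 0) : fsInd (fun g => (X g).trace) = 1 := by
  have hT : ∀ g, (X g)ᴴ = (X g)ᵀ := fun g => by
    ext i j; exact Complex.conj_eq_iff_im.mpr (hr g j i)
  have hreal : ∀ g, (X g).trace.im = 0 := fun g => by
    rw [Matrix.trace, Complex.im_sum]; exact Finset.sum_eq_zero fun i _ => hr g i i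
  have h1 := (inv_form X hirr hreal).2 (∑ g, (X g)ᴴ * X g) fun g => by
    rw [← hT]; exact sum_conjTranspose_mul_inv X g
  have h2 : (∑ g, (X g)ᴴ * X g)ᵀ = ∑ g, (X g)ᴴ * X g := by
    simp [hT, Matrix.transpose_sum, Matrix.transpose_mul]
  rw [h2] at h1
  have hne : Nonempty ι := by
    by_contra h
    rw [not_nonempty_iff] at h
    exact hirr.apply_one_ne_zero (by simp)
  have h3 : (∑ g, (X g)ᴴ * X g) ≠ 0 := (sum_conjTranspose_mul_posDef X).isUnit.ne_zero
  by_contra h
  apply h3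
  have : (1 - fsInd fun g => (X g).trace) • (∑ g, (X g)ᴴ * X g) = 0 := by
    rw [sub_smul, one_smul, ← h1, sub_self]
  exact (smul_eq_zero.mp this).resolve_left (sub_ne_zero.mpr (Ne.symm h))

omit [Fintype G] in
theorem schur_matrix [Finite G] (X : G →* Matrix ι ι ℂ) (hirr : IsIrrCharacter G fun g => (X g).trace)
    {A : Matrix ι ι ℂ} (hA : ∀ g, A * X g = X g * A) : ∃ c : ℂ, A = c • (1 : Matrix ι ι ℂ) := by
  haveI := isIrreducible_of_isIrrCharacter (repOfMatrix X)
    (by rw [funext (repOfMatrix_character X)]; exact hirr)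
  obtain ⟨c, hc⟩ := schur_scalar (repOfMatrix X) (Matrix.toLin' A) fun g => by
    rw [repOfMatrix_apply, ← Matrix.toLin'_mul, ← Matrix.toLin'_mul, hA]
  refine ⟨c, Matrix.toLin'.injective ?_⟩
  rw [hc, map_smul, Matrix.toLin'_one]

theorem exists_isUnit_pencil (A B : Matrix ι ι ℂ) (h : IsUnit (A + B)) :
    ∃ t : ℝ, IsUnit (A + ((t : ℂ) * Complex.I) • B) := by
  by_contra hc
  push Not at hc
  set q : Polynomial ℂ := (A.map Polynomial.C + (Polynomial.X : Polynomial ℂ) • B.map Polynomial.C).det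
  have hq : ∀ z : ℂ, q.eval z = (A + z • B).det := fun z => by
    rw [← Polynomial.coe_evalRingHom, RingHom.map_det]
    congr 1
    ext i j
    simp only [RingHom.mapMatrix_apply, Matrix.map_apply, Matrix.add_apply, Matrix.smul_apply, smul_eq_mul,
      Polynomial.coe_evalRingHom, Polynomial.eval_add, Polynomial.eval_mul, Polynomial.eval_C, Polynomial.eval_X]
  have h0 : q = 0 := by
    refine Polynomial.eq_zero_of_infinite_isRoot _ (Set.infinite_of_injective_forall_mem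
      (f := fun t : ℝ => (t : ℂ) * Complex.I) (fun a b hab => ?_) fun t => ?_)
    · exact_mod_cast mul_right_cancel₀ Complex.I_ne_zero hab
    · have := hc t
      rw [Matrix.isUnit_iff_isUnit_det, isUnit_iff_ne_zero, not_not] at this
      exact (hq _).trans this
  have := hq 1
  rw [h0, Polynomial.eval_zero, one_smul] at this
  exact ((Matrix.isUnit_iff_isUnit_det _).mp h).ne_zero this.symm

theorem pos_of_mul_pos_of_pos' {a b : ℂ} (h : 0 < a * b) (hb : 0 < b) : 0 < a := by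
  have := div_pos h hb
  rwa [mul_div_assoc, div_self hb.ne', mul_one] at this

theorem exists_real_matrix (X : G →* Matrix ι ι ℂ) (hirr : IsIrrCharacter G fun g => (X g).trace)
    (h : fsInd (fun g => (X g).trace) = 1) :
    ∃ Y : G →* Matrix ι ι ℂ, (∀ g i j, (Y g i j).im = 0) ∧ ∀ g, (Y g).trace = (X g).trace := by
  have hreal : ∀ g, (X g).trace.im = 0 := real_of_fsInd_ne_zero hirr (by rw [h]; exact one_ne_zero)
  obtain ⟨⟨B, hB0, hB⟩, h2⟩ := inv_form X hirr hreal
  have hsym : Bᵀ = B := by rw [h2 B hB, h, one_smul]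
  set H := ∑ g, (X g)ᴴ * X g with hH
  have hpd : H.PosDef := sum_conjTranspose_mul_posDef X
  have hHi : ∀ g, (X g)ᴴ * H * X g = H := sum_conjTranspose_mul_inv X
  have hHu : IsUnit H.det := (Matrix.isUnit_iff_isUnit_det _).mp hpd.isUnit
  set c : Matrix ι ι ℂ →+* Matrix ι ι ℂ := (starRingEnd ℂ).mapMatrix with hc
  have cc : ∀ M, c (c M) = M := fun M => by ext i j; simp [hc]
  have cT : ∀ M : Matrix ι ι ℂ, c Mᵀ = Mᴴ := fun M => by ext i j; simp [hc]
  have cS : ∀ (z : ℂ) (M : Matrix ι ι ℂ), c (z • M) = conj z • c M := fun z M => by ext i j; simp [hc]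
  have cB : c B = Bᴴ := by rw [← cT, hsym]
  have hXi : ∀ g, X g * X g⁻¹ = 1 := fun g => by rw [← map_mul, mul_inv_cancel, map_one]
  obtain ⟨A, hA⟩ : ∃ A, A = H⁻¹ * c B := ⟨_, rfl⟩
  have hA1 : ∀ g, A * c (X g) = X g * A := fun g => by
    have e1 : (X g)ᴴ * c B * c (X g) = c B := by rw [← cT, ← map_mul, ← map_mul, hB]
    have e2 : H⁻¹ = X g * H⁻¹ * (X g)ᴴ := by
      refine Matrix.inv_eq_right_inv ?_
      have e3 : H * X g = (X g⁻¹)ᴴ * H := by
        conv_rhs => rw [← hHi g]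
        rw [← Matrix.mul_assoc, ← Matrix.mul_assoc, ← Matrix.conjTranspose_mul, hXi,
          Matrix.conjTranspose_one, Matrix.one_mul]
      rw [← Matrix.mul_assoc, ← Matrix.mul_assoc, e3, Matrix.mul_assoc _ H, Matrix.mul_nonsing_inv _ hHu,
        Matrix.mul_one, ← Matrix.conjTranspose_mul, hXi, Matrix.conjTranspose_one]
    rw [hA]
    conv_lhs => rw [e2]
    rw [Matrix.mul_assoc, Matrix.mul_assoc, ← Matrix.mul_assoc (X g)ᴴ, e1, Matrix.mul_assoc]
  have hA2 : ∀ g, c A * X g = c (X g) * c A := fun g => by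
    have := congrArg c (hA1 g)
    rwa [map_mul, map_mul, cc] at this
  obtain ⟨κ, hκ⟩ := schur_matrix X hirr (A := A * c A) fun g => by
    rw [Matrix.mul_assoc, hA2, ← Matrix.mul_assoc, hA1, Matrix.mul_assoc]
  -- positivity of `κ`
  have hcH : c H = Hᵀ := by
    have := cT Hᵀ
    rw [Matrix.transpose_transpose] at this
    rw [this]
    ext i j
    have := congrFun (congrFun hpd.isHermitian j) i
    simpa using this
  have hcHi : c H⁻¹ = (H⁻¹)ᵀ := by
    rw [Matrix.transpose_nonsing_inv, ← hcH]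
    refine (Matrix.inv_eq_right_inv ?_).symm
    rw [← map_mul, Matrix.mul_nonsing_inv _ hHu, map_one]
  have e4 : Bᴴ * (H⁻¹)ᵀ * B = κ • H := by
    have := congrArg (H * ·) hκ
    simp only [hA, map_mul, cc, hcHi] at this
    rw [cB, Matrix.mul_assoc H⁻¹, ← Matrix.mul_assoc, Matrix.mul_nonsing_inv _ hHu, Matrix.one_mul,
      ← Matrix.mul_assoc, Matrix.mul_smul, Matrix.mul_one] at this
    exact this
  obtain ⟨v, hv⟩ : ∃ v, B *ᵥ v ≠ 0 := by
    by_contra hcon
    push Not at hcon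
    exact hB0 (Matrix.toLin'.injective (by ext1 v; ext; simp [hcon]))
  have hv0 : v ≠ 0 := by rintro rfl; simp at hv
  have p1 : 0 < star (B *ᵥ v) ⬝ᵥ ((H⁻¹)ᵀ *ᵥ (B *ᵥ v)) := hpd.inv.transpose.dotProduct_mulVec_pos hv
  have p2 : 0 < star v ⬝ᵥ (H *ᵥ v) := hpd.dotProduct_mulVec_pos hv0
  rw [Matrix.star_mulVec, ← Matrix.dotProduct_mulVec, Matrix.mulVec_mulVec, Matrix.mulVec_mulVec, e4,
    Matrix.smul_mulVec, dotProduct_smul, smul_eq_mul] at p1
  have hκ0 : 0 < κ := pos_of_mul_pos_of_pos' p1 p2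
  obtain ⟨r, hr0, hr⟩ : ∃ r : ℝ, 0 < r ∧ κ = (r : ℂ) * r := by
    obtain ⟨h1, h2⟩ := Complex.pos_iff.mp hκ0
    refine ⟨Real.sqrt κ.re, Real.sqrt_pos.mpr h1, ?_⟩
    rw [← Complex.ofReal_mul, Real.mul_self_sqrt h1.le]
    exact Complex.ext rfl (by simp [← h2])
  have hr1 : (r : ℂ) ≠ 0 := by exact_mod_cast hr0.ne'
  obtain ⟨A', hA'⟩ : ∃ A', A' = (r : ℂ)⁻¹ • A := ⟨_, rfl⟩
  have hA3 : A' * c A' = 1 := by
    rw [hA', cS, Matrix.smul_mul, Matrix.mul_smul, hκ, smul_smul, smul_smul, hr, map_inv₀,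
      Complex.conj_ofReal]
    rw [show (r : ℂ)⁻¹ * (r : ℂ)⁻¹ * (r * r) = 1 by field_simp, one_smul]
  have hA4 : ∀ g, A' * c (X g) = X g * A' := fun g => by
    rw [hA', Matrix.smul_mul, Matrix.mul_smul, hA1]
  obtain ⟨t, ht⟩ := exists_isUnit_pencil (1 + A') (1 - A') (by
    rw [add_add_sub_cancel, ← two_smul ℂ, Matrix.isUnit_iff_isUnit_det, Matrix.det_smul, Matrix.det_one]
    simp)
  set P := 1 + A' + ((t : ℂ) * Complex.I) • (1 - A') with hP
  have hP1 : A' * c P = P := by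
    rw [hP, map_add, map_add, cS, map_sub, map_one, Matrix.mul_add, Matrix.mul_add, Matrix.mul_smul,
      Matrix.mul_sub, hA3, Matrix.mul_one, map_mul, Complex.conj_ofReal, Complex.conj_I, mul_neg, neg_smul,
      ← smul_neg, neg_sub, add_comm A']
  have hPu : IsUnit P.det := (Matrix.isUnit_iff_isUnit_det _).mp ht
  have hP2 : c P⁻¹ = P⁻¹ * A' := by
    have e1 : P⁻¹ * A' * c P = 1 := by rw [Matrix.mul_assoc, hP1, Matrix.nonsing_inv_mul _ hPu]
    have e2 : c P * c P⁻¹ = 1 := by rw [← map_mul, Matrix.mul_nonsing_inv _ hPu, map_one]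
    rw [← Matrix.one_mul (c P⁻¹), ← e1, Matrix.mul_assoc, e2, Matrix.mul_one]
  refine ⟨⟨⟨fun g => P⁻¹ * X g * P, ?_⟩, fun a b => ?_⟩, fun g i j => ?_, fun g => ?_⟩
  · rw [map_one, Matrix.mul_one, Matrix.nonsing_inv_mul _ hPu]
  · simp only [map_mul, Matrix.mul_assoc]
    rw [← Matrix.mul_assoc P P⁻¹, Matrix.mul_nonsing_inv _ hPu, Matrix.one_mul]
  · have : c (P⁻¹ * X g * P) = P⁻¹ * X g * P := by
      rw [map_mul, map_mul, hP2, Matrix.mul_assoc P⁻¹, hA4, Matrix.mul_assoc, Matrix.mul_assoc, hP1,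
        Matrix.mul_assoc]
    exact Complex.conj_eq_iff_im.mp (congrFun (congrFun this i) j)
  · change (P⁻¹ * X g * P).trace = _
    rw [Matrix.trace_mul_cycle, Matrix.mul_nonsing_inv _ hPu, Matrix.one_mul]

end Form

section Ind
variable {G : Type*} [Group G] [Fintype G] {χ : G → ℂ}

theorem exists_real_of_fsInd (hχ : IsIrrCharacter G χ) (h : fsInd χ = 1) :
    ∃ (n : ℕ) (Y : G →* Matrix (Fin n) (Fin n) ℂ), (∀ g i j, (Y g i j).im = 0) ∧ ∀ g, (Y g).trace = χ g := by
  obtain ⟨n, X, hX⟩ := exists_matrix_of_isCharacter hχ.isCharacter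
  obtain rfl : χ = fun g => (X g).trace := (funext hX).symm
  exact ⟨n, exists_real_matrix X hχ h⟩

theorem fsInd_indFun_eq_one {H : Subgroup G} [Fintype H] {ψ : H → ℂ} (hψ : IsIrrCharacter H ψ)
    (h : fsInd ψ = 1) (hirr : IsIrrCharacter G (indFun H ψ)) : fsInd (indFun H ψ) = 1 := by
  classical
  obtain ⟨n, Y, hY, hY'⟩ := exists_real_of_fsInd hψ h
  obtain rfl : ψ = fun g => (Y g).trace := (funext hY').symm
  rw [← funext (trace_indMat_eq_indFun H Y)] at hirr ⊢
  refine fsInd_eq_one_of_real _ hirr fun g i j => ?_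
  rw [indMat_apply]
  by_cases hx : i.1.out⁻¹ * g * j.1.out ∈ H
  · rw [extMat_mem _ _ hx]; exact hY _ _ _
  · rw [extMat_not_mem _ _ hx]; rfl

theorem fsInd_indFun (H : Subgroup G) (θ : H → ℂ) :
    fsInd (indFun H θ) = (Nat.card H : ℂ)⁻¹ * ∑ g : G, extendByZero H θ (g * g) := by
  rw [fsInd]
  simp only [indFun_apply']
  rw [← Finset.mul_sum, Finset.sum_comm, mul_left_comm]
  congr 1
  have : ∀ x : G, ∑ g : G, extendByZero H θ (x * (g * g) * x⁻¹) = ∑ g : G, extendByZero H θ (g * g) :=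
    fun x => Fintype.sum_equiv (MulAut.conj x).toEquiv _ _ fun g => by
      congr 1; simp [mul_assoc]
  rw [Finset.sum_congr rfl fun x _ => this x, Finset.sum_const, Finset.card_univ, nsmul_eq_mul,
    Fintype.card_eq_nat_card, ← mul_assoc, inv_mul_cancel₀ natCard_ne_zero', one_mul]

theorem fsInd_eq_sum (hχ : IsClassFunction G χ) :
    fsInd χ = ∑ ψ : IrrCharacter G, classInner χ ψ * fsInd (ψ : G → ℂ) := by
  simp only [fsInd]
  rw [Finset.sum_congr rfl fun s _ => hχ.apply_eq_sum (s * s), Finset.sum_comm, Finset.mul_sum]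
  exact Finset.sum_congr rfl fun ψ _ => by rw [← Finset.mul_sum, mul_left_comm]

theorem fsInd_indFun_of_odd (N : Subgroup G) [N.Normal] [Fintype N] (hodd : Odd N.index) (θ : N → ℂ) :
    fsInd (indFun N θ) = fsInd θ := by
  rw [fsInd_indFun, fsInd, ← sum_extendByZero]
  congr 1
  refine Finset.sum_congr rfl fun g _ => ?_
  by_cases hg : g ∈ N
  · rw [extendByZero_mem _ _ hg, extendByZero_mem _ _ (N.mul_mem hg hg)]; rfl
  · rw [extendByZero_not_mem _ _ hg, extendByZero_not_mem]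
    intro h
    obtain ⟨k, hk⟩ := hodd
    have h1 := N.pow_index_mem g
    rw [hk, pow_succ, pow_mul, pow_two] at h1
    exact hg ((N.mul_mem_cancel_left (N.pow_mem h k)).mp h1)

end Ind

end Cfsg.Agent.H8
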