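import Mathlib
import Cfsg.Agent.H8.FS2
import Cfsg.Agent.H5.Cover
import Cfsg.Agent.H5.Brauer2

/-!
# Characters fixed by a power map (Galois action) and normal subgroups
-/

namespace Cfsg.Agent.H8

open Cfsg Cfsg.Agent.H4 Cfsg.Agent.H5
open scoped ComplexConjugate

section Basic
variable {G : Type*} [Group G] {k : ℕ}

theorem inner_comp_pow [Fintype G] (hk : k.Coprime (Nat.card G)) (φ ψ : G → ℂ) :
    classInner (fun g => φ (g ^ k)) (fun g => ψ (g ^ k)) = classInner φ ψ :=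
  classInner_comp_equiv φ ψ (powCoprime hk.symm)

theorem mem_iff_pow_mem [Finite G] (hk : k.Coprime (Nat.card G)) (H : Subgroup G) (g : G) :
    g ^ k ∈ H ↔ g ∈ H :=
  ⟨fun h => mem_of_pow_mem_of_coprime h (hk.symm.coprime_dvd_left (orderOf_dvd_natCard g)),
    fun h => H.pow_mem h k⟩

theorem indFun_comp_pow [Fintype G] (hk : k.Coprime (Nat.card G)) (H : Subgroup G) (θ : H → ℂ) (g : G) :
    indFun H (fun h => θ (h ^ k)) g = indFun H θ (g ^ k) := by
  rw [indFun_apply', indFun_apply']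
  congr 1
  refine Finset.sum_congr rfl fun x _ => ?_
  rw [← conj_pow]
  by_cases h : x * g * x⁻¹ ∈ H
  · rw [extendByZero_mem _ _ h, extendByZero_mem _ _ (H.pow_mem h k)]; rfl
  · rw [extendByZero_not_mem _ _ h, extendByZero_not_mem _ _ (mt (mem_iff_pow_mem hk H _).mp h)]

theorem exists_inv_pow (G : Type*) [Group G] [Finite G] :
    ∃ k : ℕ, k.Coprime (Nat.card G) ∧ k ^ 2 ^ 1 ≡ 1 [MOD Nat.card G] ∧ ∀ g : G, g ^ k = g⁻¹ := by
  obtain ⟨n, hn⟩ := Nat.exists_eq_succ_of_ne_zero (Nat.card_pos (α := G)).ne'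
  refine ⟨n, by rw [hn]; simp, ?_, fun g => ?_⟩
  · rw [hn, Nat.modEq_iff_dvd]
    exact ⟨1 - n, by push_cast; ring⟩
  · rw [eq_inv_iff_mul_eq_one, ← pow_succ, ← Nat.succ_eq_add_one, ← hn, pow_card_eq_one']

theorem real_iff_inv [Finite G] {χ : G → ℂ} (h : IsCharacter G χ) :
    (∀ g, (χ g).im = 0) ↔ ∀ g, χ g⁻¹ = χ g := by
  simp only [h.apply_inv, Complex.conj_eq_iff_im]

theorem exists_normal_of_index_pow [Finite G] (N : Subgroup G) [N.Normal] {p a : ℕ} (hp : p.Prime)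
    (h : N.index = p ^ (a + 1)) :
    ∃ M : Subgroup G, M.Normal ∧ N ≤ M ∧ M.index = p ∧ N.relIndex M = p ^ a := by
  haveI := Fact.mk hp
  obtain ⟨K, hK⟩ := Sylow.exists_subgroup_card_pow_prime (G := G ⧸ N) p (n := a)
    (by rw [← Subgroup.index_eq_card, h]; exact pow_dvd_pow _ a.le_succ)
  have h1 : K.index = p := by
    have := K.card_mul_index
    rw [hK, ← Subgroup.index_eq_card, h, pow_succ] at this
    exact Nat.eq_of_mul_eq_mul_left (pow_pos hp.pos a) this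
  haveI : K.Normal := Subgroup.normal_of_index_eq_minFac_card (by
    rw [h1, ← Subgroup.index_eq_card, h, hp.pow_minFac a.succ_ne_zero])
  have h2 : N ≤ K.comap (QuotientGroup.mk' N) := QuotientGroup.le_comap_mk' N K
  have h3 : (K.comap (QuotientGroup.mk' N)).index = p := by
    rw [K.index_comap_of_surjective (QuotientGroup.mk'_surjective N), h1]
  refine ⟨K.comap (QuotientGroup.mk' N), inferInstance, h2, h3, ?_⟩
  have := Subgroup.relIndex_mul_index h2
  rw [h3, h, pow_succ] at this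
  exact Nat.eq_of_mul_eq_mul_right hp.pos this

theorem exists_sylow_over [Finite G] (N : Subgroup G) [N.Normal] {p : ℕ} (hp : p.Prime) :
    ∃ P : Subgroup G, N ≤ P ∧ ¬ p ∣ P.index ∧ ∃ a, N.relIndex P = p ^ a := by
  haveI := Fact.mk hp
  obtain ⟨K⟩ : Nonempty (Sylow p (G ⧸ N)) := inferInstance
  have h2 : N ≤ (K : Subgroup (G ⧸ N)).comap (QuotientGroup.mk' N) := QuotientGroup.le_comap_mk' N K
  have h3 := (K : Subgroup (G ⧸ N)).index_comap_of_surjective (QuotientGroup.mk'_surjective N)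
  refine ⟨_, h2, h3 ▸ K.not_dvd_index, (Nat.card (G ⧸ N)).factorization p, ?_⟩
  have := Subgroup.relIndex_mul_index h2
  rw [h3, Subgroup.index_eq_card N, ← (K : Subgroup (G ⧸ N)).card_mul_index] at this
  rw [← K.card_eq_multiplicity]
  exact Nat.eq_of_mul_eq_mul_right (Nat.pos_of_ne_zero Subgroup.index_ne_zero_of_finite) this

theorem finsum_inner_ne_zero_iff [Fintype G] (φ ψ : G → ℂ) :
    (∑ᶠ g, φ g * conj (ψ g)) ≠ 0 ↔ classInner φ ψ ≠ 0 := by
  rw [finsum_eq_sum_of_fintype, ← card_mul_classInner, mul_ne_zero_iff, and_iff_right natCard_ne_zero']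

theorem fsInd_finsum [Fintype G] (χ : G → ℂ) : (Nat.card G : ℂ)⁻¹ * ∑ᶠ g : G, χ (g * g) = fsInd χ := by
  rw [finsum_eq_sum_of_fintype, fsInd]

theorem card_quot_eq {α β : Type*} (r : α → α → Prop) (f : α → β) (hf : Function.Surjective f)
    (h1 : ∀ a b, r a b → f a = f b) (h2 : ∀ a b, f a = f b → r a b) : Nat.card (Quot r) = Nat.card β :=
  Nat.card_eq_of_bijective (Quot.lift f h1) ⟨fun a b => by
    induction a using Quot.ind
    induction b using Quot.ind
    exact fun h => Quot.sound (h2 _ _ h), fun b => (hf b).elim fun a h => ⟨Quot.mk _ a, h⟩⟩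

theorem mem_of_coprime_index [Finite G] (N : Subgroup G) [N.Normal] {x : G}
    (h : (orderOf x).Coprime N.index) : x ∈ N :=
  mem_of_pow_mem_of_coprime (N.pow_index_mem x) h

theorem mem_of_two_pow [Finite G] (N : Subgroup G) [N.Normal] (hodd : Odd N.index) {x : G} {j : ℕ}
    (h : x ^ 2 ^ j = 1) : x ∈ N :=
  mem_of_coprime_index N (((Nat.coprime_two_left.mpr hodd).pow_left j).coprime_dvd_left
    (orderOf_dvd_of_pow_eq_one h))

end Basic

section Ext
universe v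
variable {N G : Type*} [Group N] [Group G] (E : NEmb N G) {k : ℕ} {θ : N → ℂ} {χ : G → ℂ}

include E in
theorem nemb_coprime (hk : k.Coprime (Nat.card G)) : k.Coprime (Nat.card N) :=
  hk.coprime_dvd_right ⟨_, E.card_mul_index.symm⟩

theorem restrict_index (T : Subgroup G) (h : ∀ n, E.f n ∈ T) :
    (E.restrict T h).f.range.index = E.f.range.relIndex T := by
  rw [NEmb.restrict_range]; rfl

variable [Fintype G] [Fintype N]

theorem inner_res_comp_pow (hk : k.Coprime (Nat.card G)) (χ : G → ℂ) (θ : N → ℂ) :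
    classInner (fun n => χ (E.f n ^ k)) (fun n => θ (n ^ k)) = classInner (fun n => χ (E.f n)) θ := by
  rw [← inner_comp_pow (nemb_coprime E hk) (fun n => χ (E.f n)) θ]
  simp only [map_pow]

theorem fixed_under {p e : ℕ} [Fact p.Prime] (hidx : ¬ p ∣ E.f.range.index)
    (hk : k.Coprime (Nat.card G)) (hke : k ^ p ^ e ≡ 1 [MOD Nat.card G]) (hχ : IsIrrCharacter G χ)
    (hfix : ∀ g, χ (g ^ k) = χ g) (hθ : IsIrrCharacter N θ)
    (h : classInner (fun n => χ (E.f n)) θ ≠ 0) (n : N) : θ (n ^ k) = θ n := by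
  classical
  have hmem : ∀ φ ∈ E.orbit θ, (fun n => φ (n ^ k)) ∈ E.orbit θ := fun φ hφ => by
    obtain ⟨g, rfl⟩ := E.mem_orbit.mp hφ
    refine E.mem_orbit.mpr (E.exists_cj_eq_of_constituents hχ hθ
      ((E.isIrr_cj hθ g).comp_pow (nemb_coprime E hk)) h ?_)
    rw [← funext fun n => hfix (E.f n), inner_res_comp_pow E hk, E.inner_res_cj hχ.isClassFunction]
    exact h
  let f : Function.End {φ // φ ∈ E.orbit θ} := fun φ => ⟨_, hmem φ.1 φ.2⟩
  have hf : ∀ (j : ℕ) φ n, ((f ^ j) φ).1 n = φ.1 (n ^ k ^ j) := fun j => by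
    induction j with
    | zero => intro φ n; rw [pow_zero, pow_zero, pow_one]; rfl
    | succ j ih =>
      intro φ n
      rw [pow_succ' f]
      change ((f ^ j) φ).1 (n ^ k) = _
      rw [ih, ← pow_mul, ← pow_succ']
  have hf1 : f ^ p ^ e = 1 := by
    funext φ
    apply Subtype.ext
    funext n
    rw [hf, pow_eq_self_of_modEq hke (orderOf_dvd_iff_pow_eq_one.mp
      ((orderOf_dvd_natCard n).trans ⟨_, E.card_mul_index.symm⟩))]
    rfl
  have h1 := Equiv.Perm.card_fixedPoints_modEq hf1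
  rw [Fintype.card_coe, E.card_orbit] at h1
  have h2 : Nonempty f.fixedPoints := by
    by_contra hc
    rw [not_nonempty_iff] at hc
    rw [Fintype.card_eq_zero] at h1
    exact hidx (((Nat.modEq_zero_iff_dvd).mp h1).trans
      (Subgroup.index_dvd_of_le (E.range_le_inertia hθ.isClassFunction)))
  obtain ⟨⟨φ, hφ⟩, h3⟩ := h2
  obtain ⟨g, rfl⟩ := E.mem_orbit.mp hφ
  have h4 := congrFun (congrArg Subtype.val h3) (E.act g⁻¹ n)
  change θ (E.act g (E.act g⁻¹ n ^ k)) = θ (E.act g (E.act g⁻¹ n)) at h4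
  rwa [← E.actEquiv_apply g, map_pow, E.actEquiv_apply, E.act_act_inv] at h4

theorem fixed_of_ext (hodd : Odd E.f.range.index) (hk : k.Coprime (Nat.card G))
    (hk2 : ∀ g, g ^ k * g ∈ E.f.range) (hθ : IsIrrCharacter N θ) (hfix : ∀ n, θ (n ^ k) = θ n)
    (hχ : IsCharacter G χ) (hext : ∀ n, χ (E.f n) = θ n) :
    ∃ ψ : G → ℂ, IsIrrCharacter G ψ ∧ (∀ n, ψ (E.f n) = θ n) ∧ (∀ g, ψ (g ^ k) = ψ g) ∧
      ∀ ψ' : G → ℂ, IsIrrCharacter G ψ' → classInner (fun n => ψ' (E.f n)) θ ≠ 0 →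
        (∀ g, ψ' (g ^ k) = ψ' g) → ψ' = ψ := by
  obtain ⟨lam, h1, h2⟩ := E.exists_linear_of_ext hθ hχ hext (hχ.comp_pow hk)
    (fun n => by rw [← map_pow, hext, hfix])
  obtain ⟨m, hm⟩ := id hodd
  have h3 := E.pow_index_eq_one lam h1
  have hc : IsCharacter G ((fun g => ((lam ^ (m + 1)) g : ℂ)) * χ) := (isCharacter_linear _).mul hχ
  have he : ∀ n, ((fun g => ((lam ^ (m + 1)) g : ℂ)) * χ) (E.f n) = θ n := fun n => by
    simp [h1, hext]
  have hf : ∀ g, ((fun g => ((lam ^ (m + 1)) g : ℂ)) * χ) (g ^ k) =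
      ((fun g => ((lam ^ (m + 1)) g : ℂ)) * χ) g := fun g => by
    have e1 := congrFun h2 g
    obtain ⟨n, hn⟩ := hk2 g
    have e2 : lam (g ^ k) * lam g = 1 := by rw [← map_mul, ← hn, h1]
    have e3 : lam g ^ (2 * m + 1) = 1 := by rw [← hm, ← MonoidHom.pow_apply, h3]; rfl
    simp only [Pi.mul_apply] at e1 ⊢
    rw [e1, ← mul_assoc]
    congr 1
    rw [← Units.val_mul, MonoidHom.pow_apply, MonoidHom.pow_apply, eq_inv_of_mul_eq_one_left e2]
    congr 1
    rw [inv_pow, inv_mul_eq_iff_eq_mul, ← pow_add, show m + 1 + (m + 1) = 2 * m + 1 + 1 by ring, pow_succ,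
      e3, one_mul]
  refine ⟨_, E.irr_of_ext hθ hc he, he, hf, fun ψ' hψ' h h' => ?_⟩
  obtain ⟨β, hβ, hβ1, rfl⟩ := E.gallagher_surj hθ hc he hψ' h
  have e1 := E.gallagher_inj hθ hc he (hβ.comp_pow hk) hβ (fun n => by rw [← map_pow, hβ1, one_pow]) hβ1
    (funext fun g => by rw [← h' g]; simp only [Pi.mul_apply] at hf ⊢; rw [hf])
  obtain ⟨ξ, hξ, rfl⟩ := exists_irr_inflate (QuotientGroup.mk' E.f.range) (QuotientGroup.mk'_surjective _) hβ
    (fun x hx => by
      obtain ⟨n, rfl⟩ := (QuotientGroup.eq_one_iff x).mp hx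
      exact hβ1 n)
  have e2 := hξ.eq_one_of_real_of_odd (by rw [← Subgroup.index_eq_card]; exact hodd)
    ((real_iff_inv hξ.isCharacter).mpr fun q => by
      obtain ⟨g, rfl⟩ := QuotientGroup.mk'_surjective _ q
      rw [← congrFun e1 g]
      congr 1
      rw [eq_comm, eq_inv_iff_mul_eq_one, ← map_mul]
      exact (QuotientGroup.eq_one_iff _).mpr (hk2 g))
  rw [e2]
  funext g
  simp

omit [Fintype G] E in
theorem exists_ext_of_pow {p : ℕ} (hp : p.Prime) (hθ : IsIrrCharacter N θ) (hfix : ∀ n, θ (n ^ k) = θ n)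
    (a : ℕ) : ∀ {G : Type v} [Group G] [Finite G] (E : NEmb N G), E.f.range.index = p ^ a →
      Odd E.f.range.index → k.Coprime (Nat.card G) → (∀ g : G, g ^ k * g ∈ E.f.range) →
      (∀ (g : G) n, θ (E.act g n) = θ n) → ∃ χ : G → ℂ, IsIrrCharacter G χ ∧ ∀ n, χ (E.f n) = θ n := by
  induction a with
  | zero =>
    intro G _ _ E h _ _ _ hinv
    refine E.exists_ext_of_isCyclic hθ hinv ?_
    haveI : Subsingleton (G ⧸ E.f.range) := (Nat.card_eq_one_iff_unique.mp (by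
      rw [← Subgroup.index_eq_card, h, pow_zero])).1
    exact isCyclic_of_subsingleton
  | succ a ih =>
    intro G _ _ E h hodd hk hk2 hinv
    haveI := Fintype.ofFinite G
    obtain ⟨M, hM, hNM, h1, h2⟩ := exists_normal_of_index_pow E.f.range hp h
    haveI := Fintype.ofFinite M
    have hm : ∀ n, E.f n ∈ M := fun n => hNM ⟨n, rfl⟩
    have i1 := restrict_index E M hm
    have o1 : Odd (E.restrict M hm).f.range.index :=
      i1 ▸ hodd.of_dvd_nat (Subgroup.relIndex_dvd_index_of_le hNM)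
    have k1 : k.Coprime (Nat.card M) := hk.coprime_dvd_right M.card_subgroup_dvd_card
    have k2 : ∀ g : M, g ^ k * g ∈ (E.restrict M hm).f.range := fun g => by
      rw [NEmb.restrict_range]; exact hk2 g
    obtain ⟨η₀, h3, h4⟩ := ih (E.restrict M hm) (i1.trans h2) o1 k1 k2 fun g n => hinv g n
    obtain ⟨η, h5, h6, h7, h8⟩ := fixed_of_ext (E.restrict M hm) o1 k1 k2 hθ hfix h3.isCharacter h4
    obtain ⟨χ, h9, h10⟩ := (NEmb.ofNormal M).exists_ext_of_prime (by rw [NEmb.ofNormal_range, h1]; exact hp) h5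
      fun g => congrFun (h8 _ ((NEmb.ofNormal M).isIrr_cj h5 g) (by
        have : (fun n => (NEmb.ofNormal M).cj η g ((E.restrict M hm).f n)) = θ := funext fun n => by
          rw [← hinv g n, ← h6, NEmb.cj_apply]
          congr 1
          exact Subtype.ext (E.f_act g n).symm
        exact (congrArg (classInner · θ) this).trans_ne (by rw [hθ.classInner_self]; exact one_ne_zero)) fun x => by
          change η ((NEmb.ofNormal M).actEquiv g (x ^ k)) = η ((NEmb.ofNormal M).actEquiv g x)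
          rw [map_pow, h7])
    exact ⟨χ, h9, fun n => (h10 ⟨E.f n, hm n⟩).trans (h6 n)⟩

theorem exists_fixed_ext (hodd : Odd E.f.range.index) (hk : k.Coprime (Nat.card G))
    (hk2 : ∀ g, g ^ k * g ∈ E.f.range) (hθ : IsIrrCharacter N θ) (hfix : ∀ n, θ (n ^ k) = θ n)
    (hinv : ∀ g n, θ (E.act g n) = θ n) :
    ∃ ψ : G → ℂ, IsIrrCharacter G ψ ∧ (∀ n, ψ (E.f n) = θ n) ∧ (∀ g, ψ (g ^ k) = ψ g) ∧
      ∀ ψ' : G → ℂ, IsIrrCharacter G ψ' → classInner (fun n => ψ' (E.f n)) θ ≠ 0 →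
        (∀ g, ψ' (g ^ k) = ψ' g) → ψ' = ψ := by
  obtain ⟨χ, h1, h2⟩ := E.exists_ext_of_forall_prime hθ hinv fun p hp _ => by
    obtain ⟨P, h1, h2, a, h3⟩ := exists_sylow_over E.f.range hp
    have hm : ∀ n, E.f n ∈ P := fun n => h1 ⟨n, rfl⟩
    have i1 := restrict_index E P hm
    obtain ⟨η, h4, h5⟩ := exists_ext_of_pow hp hθ hfix a (E.restrict P hm) (i1.trans h3)
      (i1 ▸ hodd.of_dvd_nat (Subgroup.relIndex_dvd_index_of_le h1))
      (hk.coprime_dvd_right P.card_subgroup_dvd_card)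
      (fun g => by rw [NEmb.restrict_range]; exact hk2 g) fun g n => hinv g n
    exact ⟨P, hm, η, h2, h4.isCharacter, h5⟩
  exact fixed_of_ext E hodd hk hk2 hθ hfix h1.isCharacter h2

theorem exists_fixed_over (hodd : Odd E.f.range.index) (hk : k.Coprime (Nat.card G))
    (hk2 : ∀ g, g ^ k * g ∈ E.f.range) (hθ : IsIrrCharacter N θ) (hfix : ∀ n, θ (n ^ k) = θ n) :
    ∃ χ : G → ℂ, IsIrrCharacter G χ ∧ classInner (fun n => χ (E.f n)) θ = 1 ∧ (∀ g, χ (g ^ k) = χ g) ∧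
      ∀ χ' : G → ℂ, IsIrrCharacter G χ' → classInner (fun n => χ' (E.f n)) θ ≠ 0 →
        (∀ g, χ' (g ^ k) = χ' g) → χ' = χ := by
  set T := E.inertia θ with hT
  haveI := Fintype.ofFinite T
  have hm : ∀ n, E.f n ∈ T := E.f_mem_inertia hθ.isClassFunction
  have i1 := restrict_index E T hm
  have k1 : k.Coprime (Nat.card T) := hk.coprime_dvd_right T.card_subgroup_dvd_card
  obtain ⟨ψ, h1, h2, h3, h4⟩ := exists_fixed_ext (E.restrict T hm)
    (i1 ▸ hodd.of_dvd_nat (Subgroup.relIndex_dvd_index_of_le (E.range_le_inertia hθ.isClassFunction)))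
    k1 (fun g => by rw [NEmb.restrict_range]; exact hk2 g) hθ hfix fun g n => E.mem_inertia.mp g.2 n
  have h5 : classInner (fun n => ψ ⟨E.f n, hm n⟩) θ = 1 := by
    rw [← hθ.classInner_self]; congr 1; exact funext h2
  obtain ⟨h6, h7⟩ := E.isIrr_indFun_of_inertia_le hθ T hm le_rfl h1 (by rw [h5]; exact one_ne_zero)
  refine ⟨_, h6, h7.trans h5, fun g => by rw [← indFun_comp_pow hk, funext h3], fun χ' h8 h9 h10 => ?_⟩
  obtain ⟨ψ', h11, rfl, h12⟩ := E.exists_indFun_eq_of_inertia_le hθ T hm le_rfl h8 h9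
  have h13 : classInner (fun n => ψ' ⟨E.f n, hm n⟩) θ ≠ 0 := h12 ▸ h9
  rw [h4 ψ' h11 h13 fun g => congrFun (E.eq_of_indFun_eq_of_inertia_le hθ T hm le_rfl (h11.comp_pow k1) h11
    ?_ h13 (funext fun g => by rw [indFun_comp_pow hk, h10])) g]
  rw [← funext hfix]
  exact (inner_res_comp_pow (E.restrict T hm) k1 ψ' θ).trans_ne h13

theorem exists_real_over (hodd : Odd E.f.range.index) (hθ : IsIrrCharacter N θ) (hr : ∀ n, (θ n).im = 0) :
    ∃ χ : G → ℂ, IsIrrCharacter G χ ∧ classInner (fun n => χ (E.f n)) θ = 1 ∧ (∀ g, (χ g).im = 0) ∧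
      ∀ χ' : G → ℂ, IsIrrCharacter G χ' → classInner (fun n => χ' (E.f n)) θ ≠ 0 →
        (∀ g, (χ' g).im = 0) → χ' = χ := by
  obtain ⟨k, hk, -, hk2⟩ := exists_inv_pow G
  obtain ⟨χ, h1, h2, h3, h4⟩ := exists_fixed_over E hodd hk (fun g => by simp [hk2]) hθ (fun n => by
    rw [← (real_iff_inv hθ.isCharacter).mp hr n]
    congr 1
    exact E.inj (by rw [map_pow, hk2, map_inv]))
  simp only [hk2] at h3 h4
  exact ⟨χ, h1, h2, (real_iff_inv h1.isCharacter).mpr h3,
    fun χ' h5 h6 h7 => h4 χ' h5 h6 ((real_iff_inv h5.isCharacter).mp h7)⟩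

theorem real_under (hodd : Odd E.f.range.index) (hχ : IsIrrCharacter G χ) (hr : ∀ g, (χ g).im = 0)
    (hθ : IsIrrCharacter N θ) (h : classInner (fun n => χ (E.f n)) θ ≠ 0) (n : N) : (θ n).im = 0 := by
  obtain ⟨k, hk, hk1, hk2⟩ := exists_inv_pow G
  refine (real_iff_inv hθ.isCharacter).mpr (fun n => ?_) n
  rw [← fixed_under E (p := 2) (Nat.two_dvd_ne_zero.mpr (Nat.odd_iff.mp hodd)) hk hk1 hχ
    (fun g => by rw [hk2, (real_iff_inv hχ.isCharacter).mp hr]) hθ h n]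
  congr 1
  exact E.inj (by rw [map_pow, hk2, map_inv])

end Ext

end Cfsg.Agent.H8
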