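import Mathlib
import Cfsg.Agent.H8.KB1
import Cfsg.Agent.H8.Shift
import Cfsg.Agent.H7.PExt
import Cfsg.Agent.H7.Local3
import Cfsg.Agent.H6.Princ3
import Cfsg.Agent.S4441

/-!
Blocks modulo a central `p`-subgroup and the minimum of the quadratic form of a block.
-/

set_option autoImplicit false
set_option linter.dupNamespace false

namespace Cfsg.Agent.H8

open Cfsg Cfsg.Agent.H4 Cfsg.Agent.H5 Cfsg.Agent.H3
open Cfsg.Agent.H6 (pRegComp pRegComp_apply pRegComp_pReg eB Res)
open scoped ComplexConjugate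

section hat
variable {G : Type*} [Group G] [Finite G] {p : ℕ} [hp : Fact p.Prime]

/-- The `p'`-part of an element. -/
noncomputable def rPart (p : ℕ) [hp : Fact p.Prime] (g : G) : G :=
  (H6.exists_isPPart hp.out g).choose⁻¹ * g

theorem rPart_eq {g x : G} (h : IsPPart p g x) : rPart p g = x⁻¹ * g := by
  rw [rPart, H6.IsPPart.unique hp.out (H6.exists_isPPart hp.out g).choose_spec h]

theorem rPart_mul {x y : G} (hc : Commute x y) (hx : ∃ k, orderOf x = p ^ k)
    (hy : ¬ p ∣ orderOf y) : rPart p (x * y) = y := by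
  rw [rPart_eq (H6.isPPart_mul hc hx hy), inv_mul_cancel_left]

theorem rPart_of_not_dvd {y : G} (hy : ¬ p ∣ orderOf y) : rPart p y = y := by
  rw [rPart_eq (H6.isPPart_one hp.out hy), inv_one, one_mul]

theorem rPart_conj (g c : G) : rPart p (c * g * c⁻¹) = c * rPart p g * c⁻¹ := by
  obtain ⟨x, hx⟩ := H6.exists_isPPart hp.out g
  rw [rPart_eq hx, rPart_eq (H6.IsPPart.conj hx c)]
  group

theorem rPart_central_mul {z : G} (hz : z ∈ Subgroup.center G) (hzp : ∃ k, orderOf z = p ^ k)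
    (g : G) : rPart p (z * g) = rPart p g := by
  obtain ⟨x, y, rfl, hc, hx, hy⟩ := H6.exists_isPPart hp.out g
  have hzc : ∀ a, Commute z a := fun a => (Subgroup.mem_center_iff.1 hz a).symm
  rw [rPart_mul hc hx hy, ← mul_assoc, rPart_mul ((hzc y).mul_left hc) ?_ hy]
  obtain ⟨k, hk⟩ := hzp
  obtain ⟨l, hl⟩ := hx
  have h1 : orderOf (z * x) ∣ p ^ (k + l) := by
    rw [pow_add, ← hk, ← hl]
    exact (hzc x).orderOf_mul_dvd_mul_orderOf
  obtain ⟨m, -, hm⟩ := (Nat.dvd_prime_pow hp.out).1 h1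
  exact ⟨m, hm⟩

theorem isGen_rPart {χ : G → ℂ} (hχ : IsCharacter G χ) :
    IsGeneralizedCharacter G fun g => χ (rPart p g) := by
  refine H6.isGen_of_prod hp.out (fun g c => ?_) fun S F hS hF hc => ?_
  · simp only [rPart_conj]
    exact hχ.isClassFunction _ _
  · have h1 := (isCharacter_one (G := S)).prod (hχ.restrict F)
    convert h1.isGen using 2 with x
    rw [one_mul, rPart_mul (hc _ x.1.2 _ x.2.2) (H6.exists_orderOf_eq_of_mem hp.out hS x.1.2)
      fun h => hF (h.trans (F.orderOf_dvd_natCard x.2.2))]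

end hat

/-- The minimum of the quadratic form of `b` is at least `l(b)`. -/
def MinOK {K : Type*} [Group K] [Fintype K] (p : ℕ) (b : Set (IrrCharacter K)) : Prop :=
  ∀ f ∈ lat p b, f ≠ 0 → (blockRank p b : ℤ) ≤ qf p b f f

section dom
variable {K : Type*} [Group K] [Fintype K] {p : ℕ} [hp : Fact p.Prime] {M : Ideal AlgInt}
  {b : Set (IrrCharacter K)}

theorem minOK_of_rank_le (h : blockRank p b ≤ 1) : MinOK p b := fun f hf h0 => by
  have := qf_self_pos hf h0
  omega

variable {Z : Subgroup K} [Z.Normal] [Fintype (K ⧸ Z)] (hZ : IsPGroup p Z)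
  (hc : Z ≤ Subgroup.center K)
include hZ hc

theorem sum_pRegComp (F : K ⧸ Z → ℂ) :
    ∑ g, pRegComp p (QuotientGroup.mk' Z) F g = ∑ q, pRegularPart p F q := by
  classical
  simp only [pRegComp_apply, pReg_eq_ite, ← ite_not (p ∣ _), ← Finset.sum_filter]
  refine Finset.sum_bij (fun g _ => (g : K ⧸ Z)) (fun g hg => ?_) (fun g hg g' hg' e => ?_)
    (fun q hq => ?_) fun _ _ => rfl
  · simp only [Finset.mem_filter, Finset.mem_univ, true_and] at hg ⊢
    exact fun h => hg (h.trans (orderOf_map_dvd (QuotientGroup.mk' Z) g))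
  · simp only [Finset.mem_filter, Finset.mem_univ, true_and] at hg hg'
    have h1 := QuotientGroup.eq.1 e
    have h2 := H6.eq_one_of_pRegular_mul (H6.exists_orderOf_eq_of_mem hp.out hZ h1)
      (Subgroup.mem_center_iff.1 (hc h1) g).symm hg' hg (by
        rw [← Subgroup.mem_center_iff.1 (hc h1) g, mul_inv_cancel_left])
    exact inv_mul_eq_one.1 h2
  · simp only [Finset.mem_filter, Finset.mem_univ, true_and] at hq ⊢
    obtain ⟨g, h1, h2⟩ := H6.exists_pRegular_lift hp.out _ (QuotientGroup.mk'_surjective Z) hq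
    exact ⟨g, h2, h1⟩

theorem inner_pRegComp (f g : K ⧸ Z → ℂ) :
    Nat.card Z * classInner (pRegComp p (QuotientGroup.mk' Z) f) (pRegComp p (QuotientGroup.mk' Z) g) =
      classInner (pRegularPart p f) g := by
  have h1 := sum_pRegComp hZ hc fun q => f q * conj (g q)
  apply mul_left_cancel₀ (natCard_ne_zero' (G := K ⧸ Z))
  rw [← mul_assoc, ← Nat.cast_mul, ← Subgroup.card_eq_card_quotient_mul_card_subgroup,
    card_mul_classInner, card_mul_classInner]
  convert h1 using 2 with x _ q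
  · simp only [pRegComp_apply, pReg_eq_ite]
    split_ifs <;> simp
  · simp only [pReg_eq_ite]
    split_ifs <;> simp

theorem exists_dom (hM : IsPModular p M) (hb : IsPBlock M b) :
    ∃ c : Set (IrrCharacter (K ⧸ Z)), IsPBlock M c ∧
      (∀ χ, χ ∈ c ↔ H7.irrComp _ (QuotientGroup.mk'_surjective Z) χ ∈ b) ∧
      (∀ D, IsDefectGroup p M b D → IsDefectGroup p M c (D.map (QuotientGroup.mk' Z))) ∧
      p ^ blockDefect p b = Nat.card Z * p ^ blockDefect p c ∧
      blockRank p b = blockRank p c ∧ (MinOK p c → MinOK p b) := by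
  classical
  haveI := hM.2.1
  haveI := H6.charP_res hM
  let π := QuotientGroup.mk' Z
  have hπ : Function.Surjective π := QuotientGroup.mk'_surjective Z
  have hk : IsPGroup p π.ker := by rwa [QuotientGroup.ker_mk']
  have hc' : ∀ g : K, ¬ p ∣ orderOf g → g ∈ Subgroup.centralizer (π.ker : Set K) := fun g _ z hz =>
    (Subgroup.mem_center_iff.1 (hc (by rwa [QuotientGroup.ker_mk'] at hz)) g).symm
  obtain ⟨c, hcb, e⟩ := H7.exists_eB_eq (H7.blk_push_top hM hπ hk hc' (H7.blk_eB hb))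
  have h1 : ∀ χ, χ ∈ c ↔ H7.irrComp π hπ χ ∈ b := fun χ => by
    rw [H7.comp_mem_iff hπ hb (isPBlock_blockOf χ) (mem_blockOf_self χ) (fun _ => rfl), ← e]
    constructor
    · intro h
      rw [← block_eq_blockOf hcb h, H6.eB_mul_self hcb]
    · intro h
      by_contra h2
      rw [H6.eB_mul_eB hcb (isPBlock_blockOf χ) fun h3 => h2 (h3 ▸ mem_blockOf_self χ)] at h
      exact H6.eB_ne_zero (isPBlock_blockOf χ) h.symm
  have h2 : ∀ D, IsDefectGroup p M b D → IsDefectGroup p M c (D.map π) := fun D hD => by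
    rw [H7.isDefectGroup_iff hM hcb, e]
    exact H7.isDef_push_top hM hπ hk hc' (H7.blk_eB hb) ((H7.isDefectGroup_iff hM hb).1 hD)
  have h3 : p ^ blockDefect p b = Nat.card Z * p ^ blockDefect p c := by
    obtain ⟨D, hD⟩ := H6.exists_isDefectGroup p hb
    have hZD : Z ≤ D := ((H7.isDefectGroup_iff hM hb).1 hD).le_of_normal le_rfl hZ le_top
      (by rw [Subgroup.normalizer_eq_top]) (H7.blk_eB hb).1 (H7.blk_eB hb).2
    rw [← card_defectGroup hM hb hD, ← card_defectGroup hM hcb (h2 D hD),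
      card_eq_card_mul_relIndex hZD, ← Subgroup.relIndex_ker, QuotientGroup.ker_mk']
  have h4 : ∀ ξ ∈ b, ∃ f ∈ lat p c, pRegularPart p ξ.1 = pRegComp p π f := fun ξ hξ => by
    have hg := isGen_rPart (p := p) ξ.2.isCharacter
    obtain ⟨a, ha, -⟩ := hg.exists_int_norm
    have e1 : pRegularPart p ξ.1 = pRegularPart p fun g => ξ.1 (rPart p g) := funext fun g => by
      simp only [pReg_eq_ite]
      split_ifs with h
      · rfl
      · rw [rPart_of_not_dvd h]
    have e2 : pRegularPart p ξ.1 = ∑ ψ ∈ bfin b, (a ψ : ℂ) • pRegularPart p ψ.1 := by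
      rw [← blockPart_of_mem_bspan (pReg_mem_bspan hM hb hξ), e1,
        ← pReg_blockPart hM hb hg.isClassFunction, blockPart_eq, pReg_sum]
      simp only [pReg_smul, ha]
    rw [e2]
    have e3 : ∀ ψ ∈ bfin b, ∃ f ∈ lat p c, (a ψ : ℂ) • pRegularPart p ψ.1 = pRegComp p π f := by
      intro ψ hψ
      by_cases h0 : Z ≤ charKer ψ.1
      · let χ : IrrCharacter (K ⧸ Z) := ⟨_, ψ.2.deflate h0⟩
        have e3 : H7.irrComp π hπ χ = ψ := Subtype.ext (funext fun g => deflate_mk h0 g)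
        refine ⟨_, intCast_smul_mem_lat (a ψ) (pReg_mem_lat ((h1 χ).2 (e3 ▸ mem_bfin.1 hψ))), ?_⟩
        rw [map_smul, pRegComp_pReg, pRegComp_apply, ← e3]
        rfl
      · refine ⟨0, zero_mem _, ?_⟩
        obtain ⟨z, hz, h0⟩ := SetLike.not_le_iff_exists.1 h0
        have e3 := classInner_shift hg.isClassFunction (hc hz) ψ
        simp only [rPart_central_mul (hc hz) (H6.exists_orderOf_eq_of_mem hp.out hZ hz), ha] at e3
        by_cases h : (a ψ : ℂ) = 0
        · rw [h, zero_smul, map_zero]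
        · rw [eq_comm, mul_eq_left₀ h, div_eq_one_iff_eq ψ.2.apply_one_ne_zero] at e3
          exact absurd (ψ.2.isCharacter.mem_charKer.2 e3) h0
    choose! F hF1 hF2 using e3
    exact ⟨∑ ψ ∈ bfin b, F ψ, sum_mem hF1, by rw [map_sum]; exact Finset.sum_congr rfl hF2⟩
  have h5 : ∀ f, pRegularPart p f = f → pRegComp p π f = 0 → f = 0 := fun f hf h => by
    have := inner_pRegComp hZ hc f f
    rw [h, classInner_zero_left, mul_zero, hf, eq_comm, classInner_self_eq_zero] at this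
    exact this
  have h6 : blockRank p b = blockRank p c := by
    have e1 : (bspan b).map (pRegL p K) = ((bspan c).map (pRegL p _)).map (pRegComp p π) := by
      rw [map_bspan, map_bspan]
      apply le_antisymm
      · rw [Submodule.span_le]
        rintro _ ⟨ξ, hξ, rfl⟩
        obtain ⟨f, hf, e1⟩ := h4 ξ hξ
        exact ⟨f, map_bspan c _ ▸ mem_map_of_mem_lat hf, e1.symm⟩
      · rw [Submodule.map_span, Submodule.span_le]
        rintro _ ⟨_, ⟨χ, hχ, rfl⟩, rfl⟩
        exact Submodule.subset_span ⟨_, (h1 χ).1 hχ, (pRegComp_pReg π _).symm⟩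
    rw [blockRank_eq, blockRank_eq, e1, ← LinearMap.range_domRestrict]
    refine LinearMap.finrank_range_of_inj ((injective_iff_map_eq_zero _).2 ?_)
    rintro ⟨_, f, hf, rfl⟩ h
    exact Subtype.ext (h5 _ (pReg_pReg f) h)
  refine ⟨c, hcb, h1, h2, h3, h6, fun hm f hf h0 => ?_⟩
  obtain ⟨g, hg, rfl⟩ : ∃ g ∈ lat p c, f = pRegComp p π g := by
    obtain ⟨a, rfl⟩ := mem_lat_iff.1 hf
    choose! F hF1 hF2 using h4
    exact ⟨∑ ξ ∈ bfin b, (a ξ : ℂ) • F ξ, sum_mem fun ξ hξ =>
      intCast_smul_mem_lat _ (hF1 ξ (mem_bfin.1 hξ)), by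
        rw [map_sum]
        exact Finset.sum_congr rfl fun ξ hξ => by rw [map_smul, hF2 ξ (mem_bfin.1 hξ)]⟩
  have e1 : (qf p b (pRegComp p π g) (pRegComp p π g) : ℂ) = qf p c g g := by
    rw [qf_cast hf hf, qf_cast hg hg, h3, Nat.cast_mul, mul_comm (Nat.card Z : ℂ), mul_assoc,
      inner_pRegComp hZ hc, pReg_of_mem_lat hg]
  rw [h6, Int.cast_injective e1]
  exact hm g hg fun h => h0 (by rw [h, map_zero])

end dom

theorem card_le_form {ι : Type*} (X : Finset ι) (x : ι → ℤ) (hx : ∃ i ∈ X, x i ≠ 0) {m : ℕ}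
    (hm : 1 ≤ m) : (X.card : ℤ) ≤ (1 + m * X.card) * ∑ i ∈ X, x i ^ 2 - m * (∑ i ∈ X, x i) ^ 2 := by
  classical
  let S := X.filter fun i => x i ≠ 0
  have h1 : ∑ i ∈ X, x i = ∑ i ∈ S, x i := (Finset.sum_filter_of_ne fun i _ h => h).symm
  have h2 : ∑ i ∈ X, x i ^ 2 = ∑ i ∈ S, x i ^ 2 :=
    (Finset.sum_filter_of_ne (p := fun i => x i ≠ 0) fun i _ h h0 => h (by rw [h0]; rfl)).symm
  have h3 : (∑ i ∈ S, x i) ^ 2 ≤ S.card * ∑ i ∈ S, x i ^ 2 := sq_sum_le_card_mul_sum_sq
  have h4 : (S.card : ℤ) ≤ ∑ i ∈ S, x i ^ 2 := by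
    rw [Finset.card_eq_sum_ones, Nat.cast_sum]
    refine Finset.sum_le_sum fun i hi => ?_
    have := (Finset.mem_filter.1 hi).2
    have : 0 < x i ^ 2 := by positivity
    push_cast
    omega
  have h5 : (1 : ℤ) ≤ S.card := by
    obtain ⟨i, hi, h⟩ := hx
    exact_mod_cast Finset.card_pos.2 ⟨i, Finset.mem_filter.2 ⟨hi, h⟩⟩
  have h6 : (S.card : ℤ) ≤ X.card := by exact_mod_cast Finset.card_filter_le _ _
  have h7 : (1 : ℤ) ≤ m := by exact_mod_cast hm
  rw [h1, h2]
  generalize (∑ i ∈ S, x i) ^ 2 = A at *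
  generalize ∑ i ∈ S, x i ^ 2 = T at *
  have h8 : (1 : ℤ) ≤ m * T := by nlinarith
  nlinarith [mul_le_mul_of_nonneg_left h3 (by omega : (0 : ℤ) ≤ m),
    mul_le_mul_of_nonneg_left h8 (sub_nonneg.2 h6)]

section cyc
variable {K : Type*} [Group K] [Fintype K] {p : ℕ} [hp : Fact p.Prime] {M : Ideal AlgInt}
  {B : Set (IrrCharacter K)}

theorem minOK_of_exc (hM : IsPModular p M) (hB : IsPBlock M B) {X Y : Set (IrrCharacter K)}
    (hXY : B = X ∪ Y) (hd : Disjoint X Y) (hY : Y.Nonempty)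
    (hm : p ^ blockDefect p B = 1 + Nat.card Y * Nat.card X) (δ : IrrCharacter K → ℤ) (δ₀ : ℤ)
    (hδ : ∀ χ ∈ X, δ χ = 1 ∨ δ χ = -1) (hδ₀ : δ₀ = 1 ∨ δ₀ = -1)
    (hrel : ∀ ψ ∈ Y, ∀ g, ¬ p ∣ orderOf g → (δ₀ : ℂ) * ψ.1 g = ∑ χ ∈ bfin X, (δ χ : ℂ) * χ.1 g)
    (hli : ∀ c : IrrCharacter K → ℂ, ∑ χ ∈ bfin X, c χ • pRegularPart p χ.1 = 0 →
      ∀ χ ∈ X, c χ = 0) : MinOK p B := by
  classical
  obtain ⟨s, hs⟩ : ∃ s, s = ∑ χ ∈ bfin X, (δ χ : ℂ) • pRegularPart p χ.1 := ⟨_, rfl⟩
  have e0 : (δ₀ : ℂ) * δ₀ = 1 := by rcases hδ₀ with rfl | rfl <;> simp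
  have e1 : ∀ χ ∈ X, (δ χ : ℂ) * δ χ = 1 := fun χ hχ => by rcases hδ χ hχ with h | h <;> simp [h]
  have h1 : ∀ ψ ∈ Y, pRegularPart p ψ.1 = (δ₀ : ℂ) • s := fun ψ hψ => funext fun g => by
    rw [hs, Pi.smul_apply, Finset.sum_apply]
    simp only [Pi.smul_apply, pReg_eq_ite, smul_eq_mul]
    split_ifs with h
    · simp
    · rw [← hrel ψ hψ g h, ← mul_assoc, e0, one_mul]
  have hsum : ∀ F : IrrCharacter K → K → ℂ, ∑ χ ∈ bfin B, F χ =
      ∑ χ ∈ bfin X, F χ + ∑ χ ∈ bfin Y, F χ := fun F => by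
    rw [← Finset.sum_union (by rwa [← Finset.disjoint_coe, coe_bfin, coe_bfin])]
    congr 1
    ext χ
    simp [hXY]
  have hr : blockRank p B ≤ Nat.card X := by
    rw [blockRank_eq, ← card_bfin]
    obtain ⟨T, hT⟩ : ∃ T : Finset (K → ℂ),
      T = (bfin X).image fun χ : IrrCharacter K => pRegularPart p χ.1 := ⟨_, rfl⟩
    have h2 : ∀ χ ∈ bfin X, pRegularPart p χ.1 ∈ Submodule.span ℂ (T : Set (K → ℂ)) :=
      fun χ hχ => Submodule.subset_span (Finset.mem_coe.2 (hT ▸ Finset.mem_image_of_mem _ hχ))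
    have h3 : T.card ≤ (bfin X).card := hT ▸ Finset.card_image_le
    refine le_trans (Submodule.finrank_mono (t := Submodule.span ℂ (T : Set (K → ℂ))) ?_)
      ((finrank_span_finset_le_card T).trans h3)
    rw [map_bspan, Submodule.span_le]
    rintro _ ⟨χ, hχ, rfl⟩
    rcases hXY ▸ hχ with h | h
    · exact h2 χ (mem_bfin.2 h)
    · change pRegularPart p χ.1 ∈ _
      rw [h1 χ h, hs]
      exact Submodule.smul_mem _ _ (Submodule.sum_mem _ fun χ hχ => Submodule.smul_mem _ _ (h2 χ hχ))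
  intro f hf h0
  obtain ⟨x, hx⟩ : ∃ x : IrrCharacter K → ℤ,
      f = ∑ χ ∈ bfin X, ((x χ : ℂ) * δ χ) • pRegularPart p χ.1 := by
    obtain ⟨a, rfl⟩ := mem_lat_iff.1 hf
    refine ⟨fun χ => a χ * δ χ + (∑ ψ ∈ bfin Y, a ψ) * δ₀, ?_⟩
    rw [hsum, Finset.sum_congr rfl fun ψ hψ => congrArg _ (h1 ψ (mem_bfin.1 hψ)),
      ← Finset.sum_smul, hs, smul_smul, Finset.smul_sum, ← Finset.sum_add_distrib]
    refine Finset.sum_congr rfl fun χ hχ => ?_
    rw [smul_smul, ← add_smul]
    congr 1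
    push_cast
    linear_combination (-(a χ : ℂ)) * e1 χ (mem_bfin.1 hχ)
  have hfr := pReg_of_mem_lat hf
  have h2 : ∀ χ : K → ℂ, classInner f (pRegularPart p χ) = classInner f χ := fun χ => by
    rw [← classInner_pReg_left, hfr]
  obtain ⟨σ, hσ⟩ : ∃ σ, σ = classInner f s := ⟨_, rfl⟩
  have h3 : ∀ χ ∈ X, (x χ : ℂ) = δ χ * classInner f χ + Nat.card Y * σ := fun χ hχ => by
    have e2 : f = ∑ χ ∈ bfin X, (classInner f χ + Nat.card Y * σ * δ χ) • pRegularPart p χ.1 := by
      conv_lhs => rw [← hfr, ← blockPart_of_mem_bspan (mem_bspan_of_mem_lat hM hB hf),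
        blockPart_eq, pReg_sum, hsum]
      have e2 : ∀ ψ ∈ bfin Y, pRegularPart p (classInner f ψ • ψ.1) = σ • s := fun ψ hψ => by
        rw [pReg_smul, ← h2, h1 ψ (mem_bfin.1 hψ), classInner_smul_right, smul_smul, map_intCast,
          mul_right_comm, e0, one_mul, hσ]
      rw [Finset.sum_congr rfl e2, Finset.sum_const, card_bfin, ← Nat.cast_smul_eq_nsmul ℂ,
        smul_smul, hs, Finset.smul_sum, ← Finset.sum_add_distrib]
      refine Finset.sum_congr rfl fun χ _ => ?_
      rw [pReg_smul, smul_smul, ← add_smul]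
    have e3 := hli (fun χ => (x χ : ℂ) * δ χ - (classInner f χ + Nat.card Y * σ * δ χ)) (by
      simp only [sub_smul, Finset.sum_sub_distrib]
      rw [← hx, ← e2, sub_self]) χ hχ
    linear_combination δ χ * e3 - (x χ - Nat.card Y * σ) * e1 χ hχ
  have h4 : σ = ∑ χ ∈ bfin X, δ χ * classInner f χ := by
    rw [hσ, hs, classInner_sum_right]
    exact Finset.sum_congr rfl fun χ _ => by rw [classInner_smul_right, map_intCast, h2]
  have h5 : ∑ χ ∈ bfin X, (x χ : ℂ) = (1 + Nat.card Y * Nat.card X) * σ := by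
    rw [Finset.sum_congr rfl fun χ hχ => h3 χ (mem_bfin.1 hχ), Finset.sum_add_distrib, ← h4,
      Finset.sum_const, card_bfin, nsmul_eq_mul]
    ring
  have h6 : classInner f f = ∑ χ ∈ bfin X, (x χ : ℂ) ^ 2 -
      Nat.card Y * σ * ∑ χ ∈ bfin X, (x χ : ℂ) := by
    conv_lhs => rhs; rw [hx]
    rw [classInner_sum_right, Finset.mul_sum, ← Finset.sum_sub_distrib]
    refine Finset.sum_congr rfl fun χ hχ => ?_
    rw [classInner_smul_right, h2, map_mul, map_intCast, map_intCast]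
    linear_combination (-(x χ : ℂ)) * h3 χ (mem_bfin.1 hχ)
  have h7 : qf p B f f = (1 + Nat.card Y * (bfin X).card) * ∑ χ ∈ bfin X, x χ ^ 2 -
      Nat.card Y * (∑ χ ∈ bfin X, x χ) ^ 2 := by
    apply Int.cast_injective (α := ℂ)
    rw [qf_cast hf hf, hm, h6, card_bfin]
    push_cast
    rw [h5]
    ring
  rw [h7]
  refine le_trans (by rw [card_bfin]; exact_mod_cast hr) (card_le_form _ x ?_ ?_)
  · by_contra h
    push Not at h
    exact h0 (hx.trans (Finset.sum_eq_zero fun χ hχ => by simp [h χ hχ]))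
  · have := hY.to_subtype
    exact Nat.card_pos

theorem minOK_of_card_le (hM : IsPModular p M) (hB : IsPBlock M B) (h : Nat.card B ≤ 2) :
    MinOK p B := by
  refine minOK_of_rank_le ?_
  have h1 := blockRank_le_card (p := p) B
  by_cases h2 : Nat.card B = blockRank p B
  · have := card_eq_one_of_defect_zero hM hB (defect_zero_of_card_eq_rank hM hB h2)
    omega
  · omega

theorem minOK_principal (hM : IsPModular p M) (h : (Nat.card K).factorization p ≤ 1) :
    MinOK p (principalBlock M K) := by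
  classical
  haveI := hM.2.1
  have hB := isPBlock_principal (M := M) (G := K)
  have hbf := brauer_feit hM hB
  rw [defect_principal hM] at hbf
  rcases Nat.le_one_iff_eq_zero_or_eq_one.1 h with h | h
  · exact minOK_of_card_le hM hB (by rw [h, mul_zero, pow_zero] at hbf; omega)
  by_cases hp2 : p = 2
  · subst hp2
    exact minOK_of_card_le hM hB (by rw [h] at hbf; omega)
  obtain ⟨P⟩ : Nonempty (Sylow p K) := inferInstance
  have hP : Nat.card P = p := by rw [P.card_eq_multiplicity, h, pow_one]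
  obtain ⟨X, Y, h1, h2, h3, h4, δ, δ₀, h5, h6, -, -, h7⟩ := S4441.result p M hM hp2 P hP _ rfl
  have hc : IsCyclic P := isCyclic_of_prime_card hP
  have h8 : Nat.card X ∣ p - 1 := by
    rw [h3, Subgroup.relIndex, ← Subgroup.normalizerMonoidHom_ker, Subgroup.index_ker,
      ← Nat.totient_prime hp.out]
    exact (Subgroup.card_subgroup_dvd_card _).trans (by rw [IsCyclic.card_mulAut, hP])
  have hp1 := hp.out.two_le
  have h9 : Nat.card Y * Nat.card X = p - 1 := by rw [h4, ← h3, Nat.div_mul_cancel h8]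
  have h10 : Y.Nonempty := by
    rw [← Set.nonempty_coe_sort]
    refine (Nat.card_ne_zero.1 fun h => ?_).1
    rw [h] at h9
    omega
  refine minOK_of_exc hM hB h1 h2 h10 (by rw [defect_principal hM, h, h9, pow_one]; omega) δ δ₀
    (fun χ hχ => (h5 χ hχ).1) h6 (fun ψ hψ g hg => by rw [h7 ψ hψ g hg, finsum_mem_bfin])
    fun c hc0 χ hχ => ?_
  obtain ⟨κ, hκ⟩ : ∃ κ, κ = ∑ χ ∈ bfin X, c χ * δ χ := ⟨_, rfl⟩
  have h11 : ∑ χ ∈ bfin X, c χ • χ.1 =
      κ • ((fun _ => 1) - pRegularPart p fun _ : K => (1 : ℂ)) := funext fun g => by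
    have e := congrFun hc0 g
    simp only [Finset.sum_apply, Pi.smul_apply, smul_eq_mul, Pi.sub_apply, pReg_eq_ite,
      Pi.zero_apply] at e ⊢
    split_ifs at e ⊢ with hg
    · obtain ⟨x, hx⟩ := H6.exists_isPPart hp.out g
      have hx1 : x ≠ 1 := fun h => (H6.IsPPart.eq_one_iff hp.out hx).1 h hg
      obtain ⟨t, -, ht⟩ := (sylowIn_top P).exists_conj_le
        (H6.isPGroup_zpowers hp.out (H6.IsPPart.pow_order hx)) le_top
      have hxP := conj_smul_le_iff.1 ht x (Subgroup.mem_zpowers x)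
      obtain ⟨y, e1, e2, -, e3⟩ := H6.IsPPart.conj hx t
      have hx2 : t * x * t⁻¹ ≠ 1 := by simpa using hx1
      have e4 : Subgroup.zpowers (t * x * t⁻¹) = P := by
        refine Subgroup.eq_of_le_of_card_ge (Subgroup.zpowers_le.2 hxP) ?_
        rw [hP, Nat.card_zpowers]
        exact ((Nat.dvd_prime hp.out).1 (hP ▸ (P : Subgroup K).orderOf_dvd_natCard hxP)).elim
          (fun h => absurd (orderOf_eq_one_iff.1 h) hx2) Eq.ge
      rw [hκ, sub_zero, mul_one]
      refine Finset.sum_congr rfl fun χ hχ => ?_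
      rw [← (h5 χ (mem_bfin.1 hχ)).2.2 _ hxP hx2 y (by
        rw [← e4, H6.centralizer_zpowers]; exact H6.mem_centralizer_singleton.2 e2) e3, e1,
        χ.2.isClassFunction]
    · rw [e, sub_self, mul_zero]
  have h12 : κ = 0 := by
    obtain ⟨ψ, hψ⟩ := h10
    have e := classInner_sum_bfin_of_not_mem c (Set.disjoint_right.1 h2 hψ)
    rw [h11, classInner_smul_left] at e
    refine (mul_eq_zero.1 e).resolve_right fun e => ?_
    by_cases h1ψ : (fun _ => 1) = ψ.1
    · have e2 : classInner ((fun _ => 1) - pRegularPart p fun _ : K => (1 : ℂ))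
          ((fun _ => 1) - pRegularPart p fun _ : K => (1 : ℂ)) = 0 := by
        rw [classInner_sub_right, ← classInner_pReg_left, pReg_sub, pReg_pReg, sub_self,
          classInner_zero_left, sub_zero]
        rwa [← h1ψ] at e
      obtain ⟨x, hx⟩ := exists_prime_orderOf_dvd_card' (G := K) p
        (hP ▸ (P : Subgroup K).card_subgroup_dvd_card)
      have := congrFun ((classInner_self_eq_zero _).1 e2) x
      simp [pReg_of_dvd _ hx.symm.dvd] at this
    · rw [classInner_sub_left, isIrrCharacter_one.classInner_of_ne ψ.2 h1ψ, zero_sub,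
        neg_eq_zero] at e
      refine (mem_principal_iff_tm hM ψ).1 (h1 ▸ Or.inr hψ) (Int.cast_injective (α := ℂ) ?_)
      rw [tm_cast' isGen_one ψ.2.isGen, e, mul_zero, Int.cast_zero]
  rw [← classInner_sum_bfin_of_mem c hχ, h11, h12, zero_smul, classInner_zero_left]

end cyc

section sec
variable {G : Type*} [Group G] [Fintype G] {p : ℕ} [hp : Fact p.Prime] {M : Ideal AlgInt}
  {B : Set (IrrCharacter G)} {u : G} {C : Subgroup G}

theorem SecData.zpowers_le_center (h : SecData p u C) :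
    Subgroup.zpowers h.elt ≤ Subgroup.center C := Subgroup.zpowers_le.2 h.elt_mem_center

theorem SecData.zpowers_normal (h : SecData p u C) : (Subgroup.zpowers h.elt).Normal :=
  ⟨fun a ha g => by
    rwa [Subgroup.mem_center_iff.1 (h.zpowers_le_center ha) g, mul_inv_cancel_right]⟩

theorem SecData.isPGroup_elt (h : SecData p u C) : IsPGroup p (Subgroup.zpowers h.elt) :=
  H6.isPGroup_zpowers hp.out (by rw [← Subgroup.orderOf_coe]; exact h.pow)

theorem card_principal_le (hM : IsPModular p M) {x : G} (hx : ∃ k, orderOf x = p ^ k)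
    (h2 : (Nat.card (Subgroup.centralizer ({x} : Set G))).factorization p ≤ 2) :
    Nat.card {χ : IrrCharacter G // χ ∈ principalBlock M G ∧ ¬ p ∣ charDegree χ.1} ≤ p ^ 2 := by
  classical
  haveI := hM.2.1
  have hp1 := hp.out.one_lt
  by_cases hG : p ∣ Nat.card G; swap
  · refine le_trans (Nat.card_le_card_of_injective
      (fun χ => (⟨χ.1, χ.2.1⟩ : principalBlock M G)) fun a b h => Subtype.ext
        (congrArg Subtype.val h :)) ?_
    rw [card_eq_one_of_defect_zero hM isPBlock_principal (by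
      rw [defect_principal hM, Nat.factorization_eq_zero_of_not_dvd hG])]
    exact Nat.one_le_pow _ _ hp.out.pos
  wlog h1 : x ≠ 1 generalizing x
  · obtain ⟨y, hy⟩ := exists_prime_orderOf_dvd_card' p hG
    rw [not_not] at h1
    refine this (x := y) ⟨1, by rw [hy, pow_one]⟩ (le_trans ((Nat.factorization_le_iff_dvd
      Nat.card_pos.ne' Nat.card_pos.ne').2 (Subgroup.card_dvd_of_le fun g _ => ?_) p) h2) ?_
    · rw [h1]; exact H6.mem_centralizer_singleton.2 (Commute.one_left g)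
    · rintro rfl
      rw [orderOf_one] at hy
      omega
  have hs := secData_centralizer hx
  obtain ⟨C, hC⟩ : ∃ C, C = Subgroup.centralizer ({x} : Set G) := ⟨_, rfl⟩
  rw [← hC] at hs h2
  have := Fintype.ofFinite C
  haveI := hs.zpowers_normal
  have := Fintype.ofFinite (C ⧸ Subgroup.zpowers hs.elt)
  have hind : IsInducedBlock M C (principalBlock M C) (principalBlock M G) :=
    mem_indBlocks.1 (by rw [hs.indBlocks_principal hM]; simp)
  obtain ⟨c, hc, e1, -, e2, -, e3⟩ := exists_dom hs.isPGroup_elt hs.zpowers_le_center hM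
    (isPBlock_principal (G := C))
  obtain rfl : c = principalBlock M _ := block_eq_of_mem hc isPBlock_principal
    ((e1 (irrOne _)).2 irrOne_mem_principal) irrOne_mem_principal
  rw [defect_principal hM, defect_principal hM, Nat.card_zpowers, ← Subgroup.orderOf_coe,
    hs.coe_elt] at e2
  obtain ⟨k, hk⟩ := hx
  have hk0 : k ≠ 0 := by
    rintro rfl
    exact h1 (orderOf_eq_one_iff.1 hk)
  rw [hk, ← pow_add, Nat.pow_right_inj hp1] at e2
  have h3 := hs.card_le_of_min hM hind (e3 (minOK_principal hM (by omega)))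
    (Finset.univ.filter fun χ => χ ∈ principalBlock M G ∧ ¬ p ∣ charDegree χ.1) fun χ hχ => by
      obtain ⟨h3, h4⟩ := (Finset.mem_filter.1 hχ).2
      exact ⟨h3, hs.sub_ne_zero hM hind h3 (by
        rw [height_principal hM, Nat.factorization_eq_zero_of_not_dvd h4])⟩
  rw [defect_principal hM] at h3
  rw [Nat.card_eq_fintype_card, Fintype.card_subtype]
  exact h3.trans (Nat.pow_le_pow_right hp.out.pos h2)

end sec

end Cfsg.Agent.H8
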