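import Mathlib
import Cfsg.Agent.H8.Deg5

/-!
Few characters of degree divisible by `p`; Galois conjugacy of characters of `p`-groups.
-/

set_option autoImplicit false
set_option linter.dupNamespace false

namespace Cfsg.Agent.H8

open Cfsg Cfsg.Agent.H4 Cfsg.Agent.H5 Cfsg.Agent.H3
open scoped ComplexConjugate Pointwise commutatorElement

universe u

section few
variable {G : Type*} [Group G] [Finite G] {p : ℕ} [hp : Fact p.Prime]

theorem comm_of_pSolvable_not_dvd (hs : IsPSolvable p G) (h : ∀ d ∈ charDegrees G, ¬ p ∣ d)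
    {Q : Subgroup G} (hQ : IsPGroup p Q) : ∀ a ∈ Q, ∀ b ∈ Q, a * b = b * a := by
  obtain ⟨P, hP⟩ := hQ.exists_le_sylow
  rw [sylow_eq_pCore P (ito hs h).1] at hP
  exact fun a ha b hb => (ito hs h).2 a (hP ha) b (hP hb)

omit hp in
theorem not_le_charKer_of_inner {N : Subgroup G} [N.Normal] [Fintype N] {χ : G → ℂ}
    (hχ : IsCharacter G χ) {θ : N → ℂ} (hθ : IsIrrCharacter N θ) (h1 : θ ≠ fun _ => 1)
    (h : classInner (fun n : N => χ n) θ ≠ 0) : ¬ N ≤ charKer χ := fun h2 =>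
  h1 (hθ.eq_one_of_forall_eq fun x => apply_of_mem_charKer
    ((hχ.restrict N).charKer_le_of_constituent hθ h
      ((hχ.restrict N).mem_charKer.2 (apply_of_mem_charKer (h2 x.2)))))

theorem commutator_le_of_rel_not_dvd {N : Subgroup G} [hN : N.Normal] (hs : IsPSolvable p G)
    (hNp : IsPGroup p N) (hc : ∀ a b : N, a * b = b * a) (hN1 : N ≠ ⊥)
    (h : ∀ χ, IsIrrCharacter G χ → ¬ N ≤ charKer χ → ¬ p ∣ charDegree χ) {Q : Subgroup G}
    (hQ : IsPGroup p Q) : ⁅Q, Q⁆ ≤ N := by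
  haveI := Fintype.ofFinite G
  haveI := Fintype.ofFinite N
  obtain ⟨u, hu⟩ := Subgroup.ne_bot_iff_exists_ne_one.1 hN1
  obtain ⟨lam, h1⟩ := exists_linear_ne_one hc hu
  have hl := isIrrCharacter_linear lam
  have h2 : (fun n => (lam n : ℂ)) ≠ fun _ => 1 := fun h2 => h1 (Units.ext (congrFun h2 u))
  let E := NEmb.ofNormal N
  have h0 : ∀ n, E.f n ∈ linI lam := fun n => le_linI lam n.2
  haveI := Fintype.ofFinite (linI lam)
  obtain ⟨χ, hχ, h3⟩ := exists_irr_over_hom E.f E.inj hl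
  have h4 := h χ hχ (not_le_charKer_of_inner hχ.isCharacter hl h2 h3)
  obtain ⟨η, hη, rfl, h5⟩ := E.exists_indFun_eq_of_inertia_le hl (linI lam) h0 le_rfl hχ h3
  obtain ⟨e, -, -, h6⟩ := (E.restrict _ h0).clifford_of_invariant_nat hη hl
    (fun g n => E.mem_inertia.1 g.2 n) (h5 ▸ h3)
  rw [charDegree_eq_of (d := (linI lam).index * e) (by
    rw [indFun_one, ← map_one (E.restrict _ h0).f, h6]; simp)] at h4
  have h7 := detHom_comp_of_eq_mul hη.isCharacter _ hl.isCharacter h6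
  rw [detHom_linear] at h7
  obtain ⟨k, hk⟩ := IsPGroup.iff_card.1 hNp
  obtain ⟨m, hm⟩ := exists_pow_eq_self_of_coprime (x := lam) (n := e)
    ((((Nat.Prime.coprime_iff_not_dvd hp.out).2 fun h8 => h4 (h8.mul_left _)).symm.pow_right
      k).coprime_dvd_right (hk ▸ orderOf_dvd_of_pow_eq_one (linear_pow_card lam)))
  have h8 := fun Q => comm_of_pSolvable_not_dvd (p := p) (G := linI lam ⧸ N.subgroupOf (linI lam))
    (Q := Q) (H9.isPSolvable_quotient (H9.isPSolvable_subgroup hs _) _) (fun d hd h8 => by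
      obtain ⟨ξ, hξ, h9, h10⟩ := exists_over_inertia hl (e := 1) (by simp) (le_linI lam) le_rfl
        (isCharacter_linear (detHom η ^ m)) (fun n => by
          have hm' := hm
          rw [← h7] at hm'
          exact congrArg Units.val (DFunLike.congr_fun hm' n)) hd
      exact h ξ hξ (not_le_charKer_of_inner hξ.isCharacter hl h2 h10)
        (charDegree_eq_of h9 ▸ (h8.mul_right 1).mul_left _))
  obtain ⟨S, hS⟩ := exists_sylowIn p (linI lam)
  have hS' : SylowIn p S ⊤ := ⟨le_top, hS.isPGroup, by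
    rw [Subgroup.relIndex_top_right, ← Subgroup.relIndex_mul_index hS.le]
    exact fun h9 => ((Nat.Prime.dvd_mul hp.out).1 h9).elim hS.not_dvd fun h10 => h4 (h10.mul_right _)⟩
  obtain ⟨g, -, hg⟩ := hS'.exists_conj_le hQ le_top
  rw [conj_smul_le_iff] at hg
  refine Subgroup.commutator_le.2 fun a ha b hb => ?_
  have h9 := h8 _ (((hS.isPGroup.comap_subtype (K := linI lam)).map
    (QuotientGroup.mk' (N.subgroupOf (linI lam))))) _ ⟨⟨_, hS.le (hg a ha)⟩, hg a ha, rfl⟩
      _ ⟨⟨_, hS.le (hg b hb)⟩, hg b hb, rfl⟩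
  rw [← commutatorElement_eq_one_iff_mul_comm, ← map_commutatorElement] at h9
  have h10 := hN.conj_mem _ ((QuotientGroup.eq_one_iff (N := N.subgroupOf (linI lam)) _).1 h9) g⁻¹
  convert h10 using 1
  simp only [commutatorElement_def, Subgroup.subtype_apply, Subgroup.coe_mul, Subgroup.coe_inv]
  group

omit hp in
theorem card_dvd_degree_quotient (N : Subgroup G) [N.Normal] :
    Nat.card {χ : IrrCharacter (G ⧸ N) // p ∣ charDegree χ.1} ≤
      Nat.card {χ : IrrCharacter G // p ∣ charDegree χ.1} ∧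
    ((∃ χ, IsIrrCharacter G χ ∧ ¬ N ≤ charKer χ ∧ p ∣ charDegree χ) →
      Nat.card {χ : IrrCharacter (G ⧸ N) // p ∣ charDegree χ.1} <
      Nat.card {χ : IrrCharacter G // p ∣ charDegree χ.1}) := by
  let f : {χ : IrrCharacter (G ⧸ N) // p ∣ charDegree χ.1} →
      {χ : IrrCharacter G // p ∣ charDegree χ.1} := fun χ => ⟨⟨_, χ.1.2.inflate⟩, χ.2⟩
  have hf : Function.Injective f := fun χ ψ h => Subtype.ext (Subtype.ext (funext fun q => by
    obtain ⟨g, rfl⟩ := QuotientGroup.mk_surjective q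
    exact congrFun (congrArg (fun x => x.1.1) h) g))
  refine ⟨Nat.card_le_card_of_injective f hf, fun ⟨χ, hχ, h1, h2⟩ => ?_⟩
  haveI := Fintype.ofFinite {χ : IrrCharacter (G ⧸ N) // p ∣ charDegree χ.1}
  haveI := Fintype.ofFinite {χ : IrrCharacter G // p ∣ charDegree χ.1}
  rw [Nat.card_eq_fintype_card, Nat.card_eq_fintype_card]
  refine Fintype.card_lt_of_injective_of_notMem f hf (b := ⟨⟨χ, hχ⟩, h2⟩) ?_
  rintro ⟨τ, h3⟩
  exact h1 ((congrArg (fun x => x.1.1) h3 : _ = χ) ▸ le_charKer_inflate _)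

omit hp [Finite G] in
theorem mem_of_derivedSeries_map {N Q : Subgroup G} [N.Normal] {k : ℕ}
    (h : derivedSeries (Q.map (QuotientGroup.mk' N)) k = ⊥) {x : Q} (hx : x ∈ derivedSeries Q k) :
    (x : G) ∈ N := by
  have h1 := map_derivedSeries_le_derivedSeries ((QuotientGroup.mk' N).subgroupMap Q) k ⟨x, hx, rfl⟩
  rw [h, Subgroup.mem_bot] at h1
  exact (QuotientGroup.eq_one_iff _).1 (congrArg Subtype.val h1)

end few

theorem derivedSeries_eq_bot_of_card_dvd_degree {p : ℕ} [hp : Fact p.Prime] (G : Type u) [Group G]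
    [Finite G] : IsPSolvable p G → ∀ Q : Subgroup G, IsPGroup p Q →
      derivedSeries Q (Nat.card {χ : IrrCharacter G // p ∣ charDegree χ.1} + 1) = ⊥ := by
  refine H2.card_induction (P := fun G _ _ => IsPSolvable p G → ∀ Q : Subgroup G, IsPGroup p Q →
    derivedSeries Q (Nat.card {χ : IrrCharacter G // p ∣ charDegree χ.1} + 1) = ⊥)
    (fun G _ _ ih hs Q hQ => ?_) G
  rcases subsingleton_or_nontrivial G with _ | _
  · exact Subsingleton.elim _ _
  have key : ∀ (N : Subgroup G) [N.Normal], N ≠ ⊥ → ∀ k,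
      Nat.card {χ : IrrCharacter (G ⧸ N) // p ∣ charDegree χ.1} < k →
        ∀ x ∈ derivedSeries Q k, (x : G) ∈ N := fun N _ hN k hk x hx =>
    mem_of_derivedSeries_map (ih _ (H1.card_quotient_lt hN) (H9.isPSolvable_quotient hs N) _
      (hQ.map _)) (derivedSeries_antitone _ hk hx)
  rcases H9.core_ne_bot_of_isPSolvable hs with h | h
  · obtain ⟨N, hN, h1⟩ := H2.exists_isMinNormal_le (N := pCore p G) inferInstance h
    haveI := hN.normal
    have h2 : IsPGroup p N := (H1.isPGroup_pCore p G).to_le h1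
    haveI := h2.isNilpotent
    haveI := hN.isMulCommutative_of_isSolvable inferInstance
    have h3 : ∀ k, (∀ x ∈ derivedSeries Q k, (x : G) ∈ N) → derivedSeries Q (k + 1) = ⊥ :=
      fun k h3 => by
      rw [derivedSeries_succ, eq_bot_iff, Subgroup.commutator_le]
      intro a ha b hb
      rw [Subgroup.mem_bot, commutatorElement_eq_one_iff_mul_comm]
      exact Subtype.ext (H2.mul_comm_of_mem (h3 a ha) (h3 b hb))
    by_cases h4 : ∃ χ, IsIrrCharacter G χ ∧ ¬ N ≤ charKer χ ∧ p ∣ charDegree χ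
    · exact h3 _ (key N hN.ne_bot _ ((card_dvd_degree_quotient N).2 h4))
    push Not at h4
    rcases Nat.eq_zero_or_pos (Nat.card {χ : IrrCharacter G // p ∣ charDegree χ.1}) with h5 | h5
    · refine derivedSeries_eq_bot_of_comm (fun a b => Subtype.ext
        (comm_of_pSolvable_not_dvd hs ?_ hQ a a.2 b b.2)) _
      rintro _ ⟨χ, rfl⟩ h6
      haveI : Nonempty {χ : IrrCharacter G // p ∣ charDegree χ.1} := ⟨⟨χ, h6⟩⟩
      exact Nat.card_pos.ne' h5
    · refine h3 _ fun x hx => commutator_le_of_rel_not_dvd hs h2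
        (fun a b => Subtype.ext (H2.mul_comm_of_mem a.2 b.2)) hN.ne_bot h4 hQ ?_
      rw [← map_derivedSeries_one]
      exact ⟨x, derivedSeries_antitone _ h5 hx, rfl⟩
  · refine eq_bot_iff.2 fun x hx => Subtype.ext ?_
    obtain ⟨k, hk⟩ := IsPGroup.iff_card.1 hQ
    exact Subgroup.mem_bot.1 (Subgroup.inf_eq_bot_of_coprime (H := Q) (K := pPrimeCore p G)
      (hk ▸ (H1.coprime_card_pPrimeCore p G).symm.pow_left k) ▸
        ⟨x.2, key _ h _ (Nat.lt_succ_of_le (card_dvd_degree_quotient _).1) x hx⟩)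

section classTwo
variable {G : Type*} [Group G] [Finite G]

theorem faithful_class_two {χ : G → ℂ} (hχ : IsIrrCharacter G χ) (hk : charKer χ = ⊥)
    (h : commutator G ≤ Subgroup.center G) :
    charDegree χ ^ 2 = (Subgroup.center G).index ∧ (∀ g, g ∉ Subgroup.center G → χ g = 0) ∧
      ∃ lam : Subgroup.center G →* ℂˣ, Function.Injective lam ∧
        ∀ z : Subgroup.center G, χ z = lam z * χ 1 := by
  have h1 := hχ.charCenter_eq_center hk
  have h2 : ∀ a b : G, a * b * a⁻¹ * b⁻¹ ∈ charCenter χ := fun a b => h1 ▸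
    h (Subgroup.commutator_mem_commutator (Subgroup.mem_top a) (Subgroup.mem_top b))
  refine ⟨h1 ▸ degree_sq_eq_index_charCenter hχ h2, fun g hg =>
    apply_eq_zero_of_not_mem_charCenter hχ (h2 g) (h1 ▸ hg), ?_⟩
  rw [← h1]
  obtain ⟨lam, h3, h4⟩ := exists_linear_charCenter (χ := χ) hχ.apply_one_ne_zero
  refine ⟨lam, (injective_iff_map_eq_one _).2 fun z hz => Subtype.ext ?_, fun z => by
    rw [← h3, mul_one]⟩
  rw [h4, hk] at hz
  exact hz

theorem mem_of_isCyclic {C A : Subgroup G} (hC : IsCyclic C) (hA : A ≤ C) {x : G} (hx : x ∈ C)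
    (h : x ^ Nat.card A = 1) : x ∈ A := by
  let _ := IsCyclic.commGroup (α := C)
  have h1 : A.subgroupOf C = (powMonoidHom (Nat.card A)).ker := by
    refine Subgroup.eq_of_le_of_card_ge (fun a ha => ?_) ?_
    · have h1 : (a : G) ^ Nat.card A = 1 :=
        congrArg Subtype.val (pow_card_eq_one' (x := (⟨a, ha⟩ : A)))
      exact MonoidHom.mem_ker.2 (Subtype.ext h1)
    · rw [IsCyclic.card_powMonoidHom_ker, H1.card_subgroupOf_of_le hA]
      exact Nat.gcd_le_right _ Nat.card_pos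
  exact (h1.ge (x := ⟨x, hx⟩) (Subtype.ext h) :)

theorem le_center_of_card_prime [Group.IsNilpotent G] {K : Subgroup G} [K.Normal] {p : ℕ}
    (hp : p.Prime) (h : Nat.card K = p) : K ≤ Subgroup.center G := by
  haveI := Fact.mk (h ▸ hp : (Nat.card K).Prime)
  have h1 := H2.inf_center_ne_bot K (by rintro rfl; exact hp.one_lt.ne (by simpa using h))
  rcases ((Subgroup.center G).subgroupOf K).eq_bot_or_eq_top_of_prime_card with h2 | h2
  · exact (h1 (by rwa [inf_comm, ← disjoint_iff, ← Subgroup.subgroupOf_eq_bot])).elim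
  · exact Subgroup.subgroupOf_eq_top.1 h2

theorem eq_or_bot_of_le_card_prime {K L : Subgroup G} {p : ℕ} (hp : p.Prime) (h : Nat.card K = p)
    (hL : L ≤ K) : L = ⊥ ∨ L = K := by
  rcases (Nat.dvd_prime hp).1 (h ▸ Subgroup.card_dvd_of_le hL) with h1 | h1
  · exact Or.inl (Subgroup.eq_bot_of_card_eq _ h1)
  · exact Or.inr (Subgroup.eq_of_le_of_card_ge hL (by rw [h, h1]))

theorem degree_ne_one_iff {χ : G → ℂ} (hχ : IsIrrCharacter G χ) :
    charDegree χ ≠ 1 ↔ ¬ commutator G ≤ charKer χ := by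
  rw [hχ.commutator_le_charKer_iff, ← hχ.isCharacter.charDegree_cast, Nat.cast_eq_one]

theorem charKer_eq_bot_of_cyclic_center {p : ℕ} [hp : Fact p.Prime] (hP : IsPGroup p G)
    (hZ : IsCyclic (Subgroup.center G)) (hD : Nat.card (commutator G) = p) {χ : G → ℂ}
    (hχ : IsIrrCharacter G χ) (h1 : charDegree χ ≠ 1) : charKer χ = ⊥ := by
  haveI := hP.isNilpotent
  have hD1 := le_center_of_card_prime hp.out hD
  haveI := hχ.isCharacter.charKer_normal
  by_contra h3
  refine (degree_ne_one_iff hχ).1 h1 fun c hc => (mem_of_isCyclic hZ inf_le_right (hD1 hc)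
    (A := charKer χ ⊓ Subgroup.center G) ?_).1
  obtain ⟨k, hk0, hk⟩ := (hP.to_subgroup (charKer χ ⊓ Subgroup.center G)).nontrivial_iff_card.1
    ((Subgroup.nontrivial_iff_ne_bot _).2 (H2.inf_center_ne_bot _ h3))
  exact orderOf_dvd_iff_pow_eq_one.1 ((hD ▸ Subgroup.orderOf_dvd_natCard _ hc).trans
    (hk ▸ dvd_pow_self p hk0.ne'))

theorem galois_conj_of_cyclic_center {p : ℕ} [hp : Fact p.Prime] (hP : IsPGroup p G)
    (hZ : IsCyclic (Subgroup.center G)) (hD : Nat.card (commutator G) = p) {χ ψ : G → ℂ}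
    (hχ : IsIrrCharacter G χ) (hψ : IsIrrCharacter G ψ) (h1 : charDegree χ ≠ 1)
    (h2 : charDegree ψ ≠ 1) : ∃ k : ℕ, k.Coprime (Nat.card (Subgroup.center G)) ∧ k.Coprime p ∧
      ∀ g, ψ g = χ (g ^ k) := by
  haveI := hP.isNilpotent
  have hD1 := le_center_of_card_prime hp.out hD
  have hker := fun χ => charKer_eq_bot_of_cyclic_center hP hZ hD (χ := χ)
  obtain ⟨e1, z1, lam, l1, l2⟩ := faithful_class_two hχ (hker χ hχ h1) hD1
  obtain ⟨e2, z2, μ, m1, m2⟩ := faithful_class_two hψ (hker ψ hψ h2) hD1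
  have h3 : ψ 1 = χ 1 := by
    rw [← hχ.isCharacter.charDegree_cast, ← hψ.isCharacter.charDegree_cast,
      Nat.pow_left_injective two_ne_zero (e1.trans e2.symm)]
  obtain ⟨g, hg⟩ := hZ.exists_generator
  have h4 : ∀ ν : Subgroup.center G →* ℂˣ, Function.Injective ν →
      IsPrimitiveRoot (ν g) (Nat.card (Subgroup.center G)) := fun ν hν => by
    rw [← orderOf_eq_card_of_forall_mem_zpowers hg, ← orderOf_injective ν hν]
    exact IsPrimitiveRoot.orderOf _
  haveI : NeZero (Nat.card (Subgroup.center G)) := ⟨Nat.card_pos.ne'⟩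
  obtain ⟨k, -, h5, h6⟩ := (h4 lam l1).isPrimitiveRoot_iff'.1 (h4 μ m1)
  have h7 : k.Coprime p := h5.coprime_dvd_right (hD ▸ Subgroup.card_dvd_of_le hD1)
  refine ⟨k, h5, h7, fun x => ?_⟩
  by_cases hx : x ∈ Subgroup.center G
  · obtain ⟨j, hj⟩ := Subgroup.mem_zpowers_iff.1 (hg ⟨x, hx⟩)
    rw [m2 ⟨x, hx⟩, h3, show x ^ k = ((⟨x, hx⟩ ^ k : Subgroup.center G) : G) from rfl, l2, ← hj,
      map_pow, map_zpow, map_zpow, ← h6, ← zpow_natCast, ← zpow_natCast, ← zpow_mul, ← zpow_mul,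
      mul_comm j]
  · rw [z2 x hx, z1 _ fun h8 => hx ?_]
    obtain ⟨n, hn⟩ := IsPGroup.iff_card.1 hP
    obtain ⟨m, hm⟩ := exists_pow_eq_self_of_coprime (x := x) (n := k)
      ((h7.pow_right n).coprime_dvd_right (hn ▸ orderOf_dvd_natCard x))
    exact hm ▸ pow_mem h8 m

theorem extraspecial_of_unique [Group.IsNilpotent G] {p : ℕ} [hp : Fact p.Prime] {χ : G → ℂ}
    (hχ : IsIrrCharacter G χ) (h1 : p ∣ charDegree χ)
    (hu : ∀ ψ, IsIrrCharacter G ψ → p ∣ charDegree ψ → ψ = χ) : p = 2 ∧ IsExtraspecial 2 G := by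
  classical
  let P : Sylow p G := default
  have h2 : ⁅(P : Subgroup G), (P : Subgroup G)⁆ ≠ ⊥ := fun h2 => P.not_dvd_index (h1.trans
    (cd_dvd_index_of_comm (fun a ha b hb => commutatorElement_eq_one_iff_mul_comm.1
      (Subgroup.mem_bot.1 (h2 ▸ Subgroup.commutator_mem_commutator ha hb))) (charDegree_mem_cd hχ)))
  obtain ⟨k, hk0, hk⟩ := (P.2.to_le (H := ⁅(P : Subgroup G), (P : Subgroup G)⁆ ⊓ Subgroup.center G)
    (inf_le_left.trans (Subgroup.commutator_le_left _ _))).nontrivial_iff_card.1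
      ((Subgroup.nontrivial_iff_ne_bot _).2 (H2.inf_center_ne_bot _ h2))
  obtain ⟨⟨z, hzm⟩, hz⟩ := exists_prime_orderOf_dvd_card' p (hk ▸ dvd_pow_self p hk0.ne')
  rw [Subgroup.orderOf_mk] at hz
  obtain ⟨hz1, hz2⟩ := Subgroup.mem_inf.1 hzm
  have hzD : z ∈ commutator G := Subgroup.commutator_mono le_top le_top hz1
  have hz0 : z ≠ 1 := by rintro rfl; exact hp.out.one_lt.ne (by simpa using hz)
  have h3 : ∀ ψ, IsIrrCharacter G ψ → ∃ w : ℂˣ, w ^ p = 1 ∧ w ^ charDegree ψ = 1 ∧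
      ψ z = w * ψ 1 := fun ψ hψ => by
    obtain ⟨lam, h3, -⟩ := exists_linear_charCenter (χ := ψ) hψ.apply_one_ne_zero
    have h4 := detHom_comp_of_eq_mul hψ.isCharacter (charCenter ψ).subtype (isCharacter_linear lam)
      (e := charDegree ψ) fun x => by
        rw [hψ.isCharacter.charDegree_cast, mul_comm, ← h3, mul_one]; rfl
    refine ⟨lam ⟨z, hψ.center_le_charCenter hz2⟩, ?_, ?_, by rw [← h3, mul_one]⟩
    · rw [← map_pow, ← map_one lam]; exact congrArg _ (Subtype.ext (hz ▸ pow_orderOf_eq_one z))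
    · rw [← MonoidHom.pow_apply, ← detHom_linear lam, ← h4]
      exact Abelianization.commutator_subset_ker (detHom ψ) hzD
  have h4 : ∀ ψ, IsIrrCharacter G ψ → ψ ≠ χ → ψ z = ψ 1 := fun ψ hψ h4 => by
    obtain ⟨w, w1, w2, w3⟩ := h3 ψ hψ
    have h5 := pow_gcd_eq_one.2 ⟨w1, w2⟩
    rw [(Nat.Prime.coprime_iff_not_dvd hp.out).2 fun h5 => h4 (hu ψ hψ h5), pow_one] at h5
    rw [w3, h5, Units.val_one, one_mul]
  obtain ⟨w, w1, -, w3⟩ := h3 χ hχ
  have h5 : (charDegree χ : ℂ) ^ 2 * (1 - w) = Nat.card G := by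
    have h5 := sum_irr_degree_sq (G := G)
    rw [← sub_zero (∑ _ : IrrCharacter G, _), ← sum_irr_degree_mul hz0, ← Finset.sum_sub_distrib,
      Finset.sum_eq_single ⟨χ, hχ⟩ (fun ψ _ h5 => by
        rw [h4 ψ ψ.2 fun h6 => h5 (Subtype.ext h6)]; ring) (by simp)] at h5
    rw [← h5, hχ.isCharacter.charDegree_cast]
    change _ = χ 1 ^ 2 - χ 1 * χ z
    rw [w3]; ring
  have hd0 : (charDegree χ : ℂ) ≠ 0 := Nat.cast_ne_zero.2 hχ.charDegree_pos.ne'
  have h6 : (w : ℂ) = -1 := by
    have h6 : (w : ℂ) = ((1 - Nat.card G / (charDegree χ : ℝ) ^ 2 : ℝ) : ℂ) := by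
      push_cast; rw [← h5]; field_simp; ring
    have h7 : ‖(w : ℂ)‖ = 1 := Complex.norm_eq_one_of_pow_eq_one
      (by rw [← Units.val_pow_eq_pow_val, w1, Units.val_one]) hp.out.ne_zero
    rw [h6, Complex.norm_real, Real.norm_eq_abs, abs_eq zero_le_one] at h7
    rcases h7 with h7 | h7
    · rw [h6, h7] at h5
      exact (natCard_ne_zero' (G := G) (by rw [← h5]; simp)).elim
    · rw [h6, h7]; simp
  obtain rfl : p = 2 := hp.out.even_iff.1 ((neg_one_pow_eq_one_iff_even (R := ℂ) (by norm_num)).1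
    (by rw [← h6, ← Units.val_pow_eq_pow_val, w1, Units.val_one]))
  have h7 : charDegree χ ^ 2 * 2 = Nat.card G := by
    rw [h6] at h5
    exact_mod_cast (by rw [← h5]; ring : (charDegree χ : ℂ) ^ 2 * 2 = Nat.card G)
  have h8 : Subgroup.zpowers z = Subgroup.center G := by
    refine Subgroup.eq_of_le_of_card_ge (Subgroup.zpowers_le.2 hz2) ?_
    rw [Nat.card_zpowers, hz]
    have h8 := (hχ.degree_sq_le_index_charCenter hχ.isCharacter.charDegree_cast.symm).trans
      (Subgroup.index_antitone hχ.center_le_charCenter)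
    refine Nat.le_of_mul_le_mul_right (c := (Subgroup.center G).index) ?_
      (Nat.pos_of_ne_zero Subgroup.index_ne_zero_of_finite)
    rw [Subgroup.card_mul_index, ← h7, mul_comm]
    exact Nat.mul_le_mul_left _ h8
  have h9 : Nat.card (Subgroup.center G) = 2 := by rw [← h8, Nat.card_zpowers, hz]
  have h10 : IsPGroup 2 G := isPGroup_of_forall_prime fun r hr h10 => by
    haveI := Fact.mk hr
    let R : Sylow r G := default
    obtain ⟨j, hj0, hj⟩ := (R.2.to_inf_left (K := Subgroup.center G)).nontrivial_iff_card.1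
      ((Subgroup.nontrivial_iff_ne_bot _).2 (H2.inf_center_ne_bot _ (R.ne_bot_of_dvd_card h10)))
    exact (Nat.prime_dvd_prime_iff_eq hr Nat.prime_two).1 ((dvd_pow_self r hj0.ne').trans
      (hj ▸ h9 ▸ Subgroup.card_dvd_of_le inf_le_right))
  have h11 : commutator G ≤ Subgroup.center G := le_of_forall_le_charKer fun ψ hψ h11 => by
    refine hψ.commutator_le_charKer_iff.2 (charDegree_eq_one_of_isPGroup h10 ⟨ψ, hψ⟩ fun h12 => ?_)
    obtain rfl := hu ψ hψ h12
    have h13 := apply_of_mem_charKer (h11 hz2)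
    rw [w3, h6] at h13
    exact hψ.apply_one_ne_zero (by linear_combination -h13 / 2)
  have h12 : commutator G = Subgroup.center G :=
    h11.antisymm (h8 ▸ Subgroup.zpowers_le.2 hzD)
  refine ⟨rfl, ⟨h10, le_antisymm (H1.frattini_le_of_elementary_quotient Nat.prime_two h11
    fun x => Subgroup.mem_center_iff.2 fun g => ?_) (h12 ▸ H1.commutator_le_frattini), h12⟩, h9⟩
  have h13 : ⁅x, g⁆ ∈ Subgroup.center G :=
    h11 (Subgroup.commutator_mem_commutator (Subgroup.mem_top x) (Subgroup.mem_top g))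
  rw [eq_comm, ← commutatorElement_eq_one_iff_mul_comm, H9.commutatorElement_pow_left_of_commute
    (Subgroup.mem_center_iff.1 h13 x).symm, ← h9]
  exact congrArg Subtype.val (pow_card_eq_one' (x := (⟨_, h13⟩ : Subgroup.center G)))

theorem card_even_degree_of_extraspecial (h : IsExtraspecial 2 G) :
    Nat.card {χ : IrrCharacter G // 2 ∣ charDegree χ.1} = 1 := by
  obtain ⟨⟨hP, -, h1⟩, h2⟩ := h
  haveI := hP.isNilpotent
  have hZ : IsCyclic (Subgroup.center G) := isCyclic_of_prime_card h2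
  have hD : Nat.card (commutator G) = 2 := h1 ▸ h2
  have h3 : ∀ d : ℕ, 2 ∣ d → d ≠ 1 := by omega
  refine Nat.card_eq_one_iff_unique.2 ⟨⟨fun χ ψ => Subtype.ext (Subtype.ext (funext fun g => ?_))⟩, ?_⟩
  · by_cases hg : g ∈ Subgroup.center G
    · obtain ⟨k, -, h4, h5⟩ := galois_conj_of_cyclic_center hP hZ hD ψ.1.2 χ.1.2 (h3 _ ψ.2) (h3 _ χ.2)
      obtain ⟨j, rfl⟩ := Nat.coprime_two_right.1 h4
      have h6 : g ^ 2 = 1 := h2 ▸ congrArg Subtype.val
        (pow_card_eq_one' (x := (⟨g, hg⟩ : Subgroup.center G)))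
      rw [h5, pow_succ, pow_mul, h6, one_pow, one_mul]
    · rw [(faithful_class_two χ.1.2 (charKer_eq_bot_of_cyclic_center hP hZ hD χ.1.2 (h3 _ χ.2))
        h1.le).2.1 g hg, (faithful_class_two ψ.1.2
          (charKer_eq_bot_of_cyclic_center hP hZ hD ψ.1.2 (h3 _ ψ.2)) h1.le).2.1 g hg]
  · obtain ⟨_, ⟨χ, rfl⟩, h4⟩ := exists_cd_ne_one (G := G) fun h4 => by simp [h4] at hD
    obtain ⟨_ | k, hk⟩ := exists_pow_of_mem_cd hP (charDegree_mem_cd χ.2)
    · exact (h4 hk).elim
    · exact ⟨⟨χ, hk ▸ dvd_pow_self 2 k.succ_ne_zero⟩⟩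

/-- non-linear irreducible characters of the same degree have the same kernel -/
def SameKer (G : Type*) [Group G] : Prop :=
  ∀ χ ψ : G → ℂ, IsIrrCharacter G χ → IsIrrCharacter G ψ → charDegree χ ≠ 1 →
    charDegree χ = charDegree ψ → charKer χ ≤ charKer ψ

omit [Finite G] in
theorem SameKer.quotient (h : SameKer G) (N : Subgroup G) [N.Normal] : SameKer (G ⧸ N) :=
  fun χ ψ hχ hψ h1 h2 q hq => by
  obtain ⟨g, rfl⟩ := QuotientGroup.mk_surjective q
  have h3 := h _ _ hχ.inflate hψ.inflate h1 h2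
  have h4 := fun φ : G ⧸ N → ℂ =>
    charKer_comp_of_surjective φ (QuotientGroup.mk' N) (QuotientGroup.mk'_surjective N)
  exact (h4 ψ).le (h3 ((h4 χ).ge hq))

theorem SameKer.charKer_le (h : SameKer G) {χ : G → ℂ} (hχ : IsIrrCharacter G χ)
    (h1 : charDegree χ ≠ 1) : charKer χ ≤ commutator G :=
  le_of_forall_le_charKer fun ψ hψ h2 g hg => by
    obtain ⟨lam, rfl⟩ := hψ.isCharacter.exists_linear (hψ.commutator_le_charKer_iff.1 h2)
    have h3 := apply_of_mem_charKer (h _ _ hχ (hχ.mul_linear lam) h1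
      (charDegree_eq_of (by simp [hχ.isCharacter.charDegree_cast])).symm hg)
    simp only [Pi.mul_apply, apply_of_mem_charKer hg] at h3
    exact hψ.isCharacter.mem_charKer.2 (mul_left_cancel₀ hχ.apply_one_ne_zero h3)

theorem eq_or_eq_of_card_sq {K L D : Subgroup G} {p : ℕ} (hp : p.Prime) (hK : Nat.card K = p)
    (hD : Nat.card D = p ^ 2) (h1 : K ≤ L) (h2 : L ≤ D) : L = K ∨ L = D := by
  obtain ⟨j, hj, h3⟩ := (Nat.dvd_prime_pow hp).1 (hD ▸ Subgroup.card_dvd_of_le h2)
  have h4 := Subgroup.card_dvd_of_le h1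
  interval_cases j
  · rw [hK, h3] at h4; exact (hp.one_lt.ne' (by simpa using h4)).elim
  · exact Or.inl (Subgroup.eq_of_le_of_card_ge h1 (by rw [h3, hK, pow_one])).symm
  · exact Or.inr (Subgroup.eq_of_le_of_card_ge h2 (by rw [h3, hD]))

theorem SameKer.commutator_le_charCenter {p : ℕ} [hp : Fact p.Prime] (h : SameKer G)
    (hP : IsPGroup p G) (hD : Nat.card (commutator G) = p ^ 2) {χ : G → ℂ}
    (hχ : IsIrrCharacter G χ) (h1 : charDegree χ ≠ 1) (hK : Nat.card (charKer χ) = p) :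
    commutator G ≤ charCenter χ := fun c hc => hχ.mem_charCenter_of_commutator fun g => by
  haveI := hχ.isCharacter.charKer_normal
  haveI := (hP.to_quotient (charKer χ)).isNilpotent
  have h3 : Nat.card ((commutator G).map (QuotientGroup.mk' (charKer χ))) = p := by
    have h3 := Subgroup.card_mul_index ((charKer χ).subgroupOf (commutator G))
    rw [H1.card_subgroupOf_of_le (h.charKer_le hχ h1), hK, hD, pow_two] at h3
    rw [← Nat.eq_of_mul_eq_mul_left hp.out.pos h3, ← Subgroup.relIndex_bot_left,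
      ← Subgroup.relIndex_comap, MonoidHom.comap_bot, QuotientGroup.ker_mk']
    rfl
  haveI := (inferInstance : (commutator G).Normal).map _ (QuotientGroup.mk'_surjective (charKer χ))
  have h4 := Subgroup.mem_center_iff.1 (le_center_of_card_prime hp.out h3 ⟨c, hc, rfl⟩) (g : G ⧸ _)
  rw [← QuotientGroup.eq_one_iff, QuotientGroup.mk_mul, QuotientGroup.mk_mul, QuotientGroup.mk_mul,
    ← QuotientGroup.mk'_apply _ c, ← h4]
  simp

theorem SameKer.degree_lt {p : ℕ} [hp : Fact p.Prime] (h : SameKer G) (hP : IsPGroup p G)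
    (hD : Nat.card (commutator G) = p ^ 2) {χ ψ : G → ℂ} (hχ : IsIrrCharacter G χ)
    (hψ : IsIrrCharacter G ψ) (h1 : charDegree χ ≠ 1) (hK : Nat.card (charKer χ) = p)
    (h2 : ¬ charKer χ ≤ charKer ψ) : charDegree ψ < charDegree χ := by
  haveI := hP.isNilpotent
  haveI := hχ.isCharacter.charKer_normal
  have hKZ := le_center_of_card_prime hp.out hK
  have h3 := h.commutator_le_charCenter hP hD hχ h1 hK
  have h4 := degree_sq_eq_index_charCenter hχ fun a b =>
    h3 (Subgroup.commutator_mem_commutator (Subgroup.mem_top a) (Subgroup.mem_top b))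
  obtain ⟨lam, -, h5⟩ := exists_linear_charCenter (χ := χ) hχ.apply_one_ne_zero
  haveI : Finite lam.range := Finite.of_surjective _ lam.rangeRestrict_surjective
  haveI : IsCyclic lam.range := isCyclic_of_injective_ringHom
    ((Units.coeHom ℂ).comp lam.range.subtype) (Units.val_injective.comp Subtype.val_injective)
  obtain ⟨⟨_, y, rfl⟩, hy⟩ := IsCyclic.exists_generator (α := lam.range)
  have h6 : charCenter χ ≤ Subgroup.center G ⊔ Subgroup.zpowers (y : G) := fun x hx => by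
    obtain ⟨i, hi⟩ := Subgroup.mem_zpowers_iff.1 (hy ⟨_, ⟨x, hx⟩, rfl⟩)
    have h6 := hKZ ((h5 (⟨x, hx⟩ * (y ^ i)⁻¹)).1 (by
      rw [map_mul, map_inv, map_zpow, mul_inv_eq_one]; exact (congrArg Subtype.val hi).symm))
    rw [← inv_mul_cancel_right x (y ^ i)]
    exact Subgroup.mul_mem_sup h6 (Subgroup.zpow_mem_zpowers _ _)
  have h7 : (y : G) ^ p ∈ Subgroup.center G := Subgroup.mem_center_iff.2 fun g => by
    have h7 : ⁅(y : G), g⁆ ∈ charKer χ := hχ.isCharacter.commutator_mem_charKer y.2 g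
    rw [eq_comm, ← commutatorElement_eq_one_iff_mul_comm, H9.commutatorElement_pow_left_of_commute
      (Subgroup.mem_center_iff.1 (hKZ h7) y).symm, ← hK]
    exact congrArg Subtype.val (pow_card_eq_one' (x := (⟨_, h7⟩ : charKer χ)))
  have h8 : (Subgroup.center G).index ≤ p * (charCenter χ).index := by
    rw [← Subgroup.relIndex_mul_index (le_sup_left : _ ≤ _ ⊔ Subgroup.zpowers (y : G))]
    refine Nat.mul_le_mul ?_ (Subgroup.index_antitone h6)
    by_cases h8 : (y : G) ∈ Subgroup.center G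
    · rw [sup_eq_left.2 (Subgroup.zpowers_le.2 h8), Subgroup.relIndex_self]; exact hp.out.pos
    · exact (H1.relIndex_sup_zpowers h8 h7).le
  have h9 := ((hψ.degree_sq_le_index_charCenter hψ.isCharacter.charDegree_cast.symm).trans
      (Subgroup.index_antitone hψ.center_le_charCenter)).trans h8
  obtain ⟨a, ha⟩ := exists_pow_of_mem_cd hP (charDegree_mem_cd hχ)
  obtain ⟨b, hb⟩ := exists_pow_of_mem_cd hP (charDegree_mem_cd hψ)
  rw [← h4, ha, hb, ← pow_mul, ← pow_mul, ← pow_succ', Nat.pow_le_pow_iff_right hp.out.one_lt] at h9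
  refine lt_of_le_of_ne (by rw [ha, hb]; exact Nat.pow_le_pow_right hp.out.pos (by omega))
    fun h10 => h2 (h _ _ hχ hψ h1 h10.symm)

theorem SameKer.card_ne_sq {p : ℕ} [hp : Fact p.Prime] (h : SameKer G) (hP : IsPGroup p G)
    {K : Subgroup G} [K.Normal] (hK : Nat.card K = p) (hKD : K ≤ commutator G) :
    Nat.card (commutator G) ≠ p ^ 2 := fun hD => by
  haveI := hP.isNilpotent
  have hKZ := le_center_of_card_prime hp.out hK
  have h0 : K ≠ ⊥ := by rintro rfl; exact hp.out.one_lt.ne (by simpa using hK)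
  have h1 : ¬ commutator G ≤ K := fun h1 => by
    have := Subgroup.card_le_of_le h1
    rw [hD, hK] at this
    nlinarith [hp.out.one_lt]
  obtain ⟨χ, hχ, h2, h3⟩ : ∃ χ, IsIrrCharacter G χ ∧ K ≤ charKer χ ∧ ¬ commutator G ≤ charKer χ := by
    by_contra h2
    push Not at h2
    exact h1 (le_of_forall_le_charKer h2)
  obtain ⟨ψ, hψ, h4⟩ : ∃ ψ, IsIrrCharacter G ψ ∧ ¬ K ≤ charKer ψ := by
    by_contra h4
    push Not at h4
    exact h0 (eq_bot_iff.2 (le_of_forall_le_charKer fun ψ hψ _ => h4 ψ hψ))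
  have h5 := (degree_ne_one_iff hχ).2 h3
  have h6 := (degree_ne_one_iff hψ).2 fun h6 => h4 (hKD.trans h6)
  obtain rfl := (eq_or_eq_of_card_sq hp.out hK hD h2 (h.charKer_le hχ h5)).resolve_right
    fun h7 => h3 h7.ge
  have h7 := h.degree_lt hP hD hχ hψ h5 hK h4
  obtain ⟨j, hj, h8⟩ := (Nat.dvd_prime_pow hp.out).1 (hD ▸ Subgroup.card_dvd_of_le
    (h.charKer_le hψ h6))
  interval_cases j
  · have h9 := Subgroup.eq_bot_of_card_eq _ h8
    by_cases h10 : commutator G ≤ Subgroup.center G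
    · have h11 := (hχ.degree_sq_le_index_charCenter hχ.isCharacter.charDegree_cast.symm).trans
        (Subgroup.index_antitone hχ.center_le_charCenter)
      rw [← (faithful_class_two hψ h9 h10).1] at h11
      exact h7.not_ge (Nat.pow_le_pow_iff_left two_ne_zero |>.1 h11)
    have h11 := (eq_or_eq_of_card_sq hp.out hK hD (le_inf hKD hKZ) inf_le_left).resolve_right
      fun h11 => h10 (h11 ▸ inf_le_right)
    obtain ⟨c, hc, hcZ⟩ := SetLike.not_le_iff_exists.1 h10
    have h12 := (eq_or_eq_of_card_sq hp.out hK hD le_sup_left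
      (sup_le hKD (Subgroup.zpowers_le.2 hc))).resolve_left fun h12 =>
        hcZ (hKZ (h12 ▸ Subgroup.mem_sup_right (Subgroup.mem_zpowers c)))
    have h13 : ∀ g, ⁅c, g⁆ ∈ charKer χ :=
      hχ.isCharacter.commutator_mem_charKer (h.commutator_le_charCenter hP hD hχ h5 hK hc)
    let f : G →* charKer χ := MonoidHom.mk' (fun g => ⟨⁅c, g⁆, h13 g⟩) fun a b => Subtype.ext (by
        have h14 := Subgroup.mem_center_iff.1 (hKZ (h13 b)) a
        change ⁅c, a * b⁆ = ⁅c, a⁆ * ⁅c, b⁆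
        calc ⁅c, a * b⁆ = ⁅c, a⁆ * (a * ⁅c, b⁆) * a⁻¹ := by
              simp only [commutatorElement_def]; group
          _ = _ := by rw [h14]; group)
    have h14 : ∀ H : Subgroup G, H ≤ commutator G → ⁅H, f.ker⁆ = ⊥ := fun H hH => by
      rw [Subgroup.commutator_eq_bot_iff_le_centralizer]
      refine hH.trans (h12 ▸ sup_le (hKZ.trans (Subgroup.center_le_centralizer _))
        (Subgroup.zpowers_le.2 fun g hg => ?_))
      exact (commutatorElement_eq_one_iff_mul_comm.1 (congrArg Subtype.val hg)).symm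
    have h15 := Subgroup.commutator_commutator_eq_bot_of_rotate (H₁ := f.ker) (H₂ := f.ker) (H₃ := ⊤)
      (h14 _ (Subgroup.commutator_mono le_top le_top)) (h14 _ (Subgroup.commutator_mono le_top le_top))
    rw [Subgroup.commutator_eq_bot_iff_le_centralizer, Subgroup.coe_top, Subgroup.centralizer_univ]
      at h15
    haveI := (inferInstance : f.ker.Normal).map _ (QuotientGroup.mk'_surjective (charKer χ))
    have h16 := cd_dvd_index_of_comm (A := f.ker.map (QuotientGroup.mk' (charKer χ))) (by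
      rintro _ ⟨a, ha, rfl⟩ _ ⟨b, hb, rfl⟩
      rw [← commutatorElement_eq_one_iff_mul_comm, ← map_commutatorElement]
      have h16 := Subgroup.commutator_mem_commutator ha hb
      exact (QuotientGroup.eq_one_iff _).2 (h11.le ⟨Subgroup.commutator_mono le_top le_top h16,
        h15 h16⟩)) (charDegree_mem_cd (hχ.deflate le_rfl))
    have h17 : charDegree χ ∣ p := by
      rw [show charDegree (deflate (charKer χ) χ) = charDegree χ from charDegree_eq_of
        ((deflate_mk le_rfl 1).trans hχ.isCharacter.charDegree_cast.symm)] at h16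
      refine (h16.trans (Subgroup.index_map_dvd _ (QuotientGroup.mk'_surjective _))).trans ?_
      rw [Subgroup.index_ker, ← hK]
      exact Subgroup.card_subgroup_dvd_card _
    obtain ⟨_ | b, hb⟩ := exists_pow_of_mem_cd hP (charDegree_mem_cd hψ)
    · exact h6 hb
    · exact (h7.trans_le (Nat.le_of_dvd hp.out.pos h17)).not_ge
        (hb ▸ Nat.le_self_pow b.succ_ne_zero p)
  · rw [pow_one] at h8
    refine h7.not_gt (h.degree_lt hP hD hψ hχ h6 h8 fun h9 => h4 ?_)
    exact (Subgroup.eq_of_le_of_card_ge h9 (by rw [h8, hK])).ge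
  · exact h4 (hKD.trans (Subgroup.eq_of_le_of_card_ge (h.charKer_le hψ h6) (by rw [h8, hD])).ge)

end classTwo

theorem card_commutator_of_sameKer {p : ℕ} [hp : Fact p.Prime] (G : Type u) [Group G] [Finite G] :
    IsPGroup p G → SameKer G → commutator G ≠ ⊥ → Nat.card (commutator G) = p := by
  refine H2.card_induction (P := fun G _ _ => IsPGroup p G → SameKer G → commutator G ≠ ⊥ →
    Nat.card (commutator G) = p) (fun G _ _ ih hP h h1 => ?_) G
  haveI := hP.isNilpotent
  obtain ⟨k, hk0, hk⟩ := (hP.to_subgroup (commutator G ⊓ Subgroup.center G)).nontrivial_iff_card.1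
    ((Subgroup.nontrivial_iff_ne_bot _).2 (H2.inf_center_ne_bot _ h1))
  obtain ⟨⟨z, hzm⟩, hz⟩ := exists_prime_orderOf_dvd_card' p (hk ▸ dvd_pow_self p hk0.ne')
  rw [Subgroup.orderOf_mk] at hz
  obtain ⟨hz1, hz2⟩ := Subgroup.mem_inf.1 hzm
  have hK : Nat.card (Subgroup.zpowers z) = p := by rw [Nat.card_zpowers, hz]
  haveI : (Subgroup.zpowers z).Normal := ⟨fun n hn g => by
    rwa [Subgroup.mem_center_iff.1 (Subgroup.zpowers_le.2 hz2 hn) g, mul_inv_cancel_right]⟩
  have h2 : commutator (G ⧸ Subgroup.zpowers z) =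
      (commutator G).map (QuotientGroup.mk' (Subgroup.zpowers z)) := by
    rw [commutator_def, commutator_def, Subgroup.map_commutator,
      Subgroup.map_top_of_surjective _ (QuotientGroup.mk'_surjective _)]
  have h3 : p * Nat.card (commutator (G ⧸ Subgroup.zpowers z)) = Nat.card (commutator G) := by
    rw [← Subgroup.card_mul_index ((Subgroup.zpowers z).subgroupOf (commutator G)),
      H1.card_subgroupOf_of_le (Subgroup.zpowers_le.2 hz1), hK, h2, ← Subgroup.relIndex_bot_left,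
      ← Subgroup.relIndex_comap, MonoidHom.comap_bot, QuotientGroup.ker_mk']
    rfl
  by_cases h4 : commutator (G ⧸ Subgroup.zpowers z) = ⊥
  · rw [← h3, h4, Subgroup.card_bot, mul_one]
  · refine (h.card_ne_sq hP hK (Subgroup.zpowers_le.2 hz1) ?_).elim
    rw [← h3, ih _ (H1.card_quotient_lt fun h5 => hp.out.one_lt.ne (by simpa [h5] using hK))
      (hP.to_quotient _) (h.quotient _) h4, pow_two]

end Cfsg.Agent.H8
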