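import Mathlib
import Cfsg.Agent.H7.Local5
import Cfsg.Agent.H7.Cover2
import Cfsg.Agent.H8.Induced
import Cfsg.Agent.H8.Height
import Cfsg.Agent.H9.PCons
import Cfsg.Agent.H5.Cover

/-!
Fong reduction along a normal `p'`-subgroup and the height bound for `p`-solvable groups.
-/

set_option autoImplicit false
set_option linter.dupNamespace false

namespace Cfsg.Agent.H8

open Cfsg Cfsg.Agent.H4 Cfsg.Agent.H6 Cfsg.Agent.H5 Cfsg.Agent.H3
open scoped ComplexConjugate Pointwise

section group
variable {G : Type*} [Group G]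

theorem index_center_congr {H : Type*} [Group H] (e : G ≃* H) :
    (Subgroup.center G).index = (Subgroup.center H).index := by
  have h : Subgroup.center G = (Subgroup.center H).comap e.toMonoidHom := by
    ext x
    simp only [Subgroup.mem_center_iff, Subgroup.mem_comap, MulEquiv.coe_toMonoidHom]
    constructor
    · intro h y
      obtain ⟨z, rfl⟩ := e.surjective y
      rw [← map_mul, ← map_mul, h]
    · intro h y
      apply e.injective
      rw [map_mul, map_mul, h]
  rw [h, Subgroup.index_comap_of_surjective _ e.surjective]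

theorem index_center_conj (P : Subgroup G) (g : G) :
    (Subgroup.center (MulAut.conj g • P : Subgroup G)).index = (Subgroup.center P).index := by
  rw [← map_conj_eq_smul]
  exact (index_center_congr (P.equivMapOfInjective _ (MulAut.conj g).injective)).symm

theorem index_center_map_subtype {T : Subgroup G} (D : Subgroup T) :
    (Subgroup.center (D.map T.subtype)).index = (Subgroup.center D).index :=
  (index_center_congr (D.equivMapOfInjective _ T.subtype_injective)).symm

end group

variable {G : Type*} [Group G] {p : ℕ} [Fact p.Prime] {M : Ideal AlgInt}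

/-- Fong–Reynolds step along a normal `p'`-subgroup. -/
theorem fong_step [Fintype G] (hM : IsPModular p M) {N : Subgroup G} [N.Normal] [Fintype N]
    (hN : ¬ p ∣ Nat.card N) {B : Set (IrrCharacter G)} (hB : IsPBlock M B) {χ : IrrCharacter G}
    (hχ : χ ∈ B) {θ : IrrCharacter N}
    (hθ : classInner (fun n : N => (χ : G → ℂ) n) (θ : N → ℂ) ≠ 0) {T : Subgroup G}
    (hT : T = (NEmb.ofNormal N).inertia θ) (hNT : N ≤ T) :
    ∃ B' : Set (IrrCharacter T), IsPBlock M B' ∧
      (∀ φ : IrrCharacter G, φ ∈ B ↔ ∃ ψ ∈ B', (φ : G → ℂ) = indFun T (ψ : T → ℂ)) ∧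
      (∀ ψ ∈ B', classInner (fun n : N => (ψ : T → ℂ) ⟨n, hNT n.2⟩) (θ : N → ℂ) ≠ 0) ∧
      ∀ D : Subgroup T, IsDefectGroup p M B' D → IsDefectGroup p M B (D.map T.subtype) := by
  haveI : M.IsMaximal := hM.2.1
  haveI := H6.charP_res hM
  have hb := H6.isPBlock_blockOf (M := M) θ
  have hb1 := H6.blockOf_eq_singleton_of_not_dvd hM hN θ
  have hT' : T = ⊤ ⊓ H7.stab (H7.eb M N (blockOf M (θ : N → ℂ))) := by
    refine H7.stab_eq_of_forall hb fun g => ?_
    rw [hT, NEmb.mem_inertia, hb1]
    constructor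
    · rintro h _ rfl θ' h'
      exact Subtype.ext (funext fun n => (h' n).trans (h n))
    · intro h n
      have h1 := h θ rfl ⟨_, (NEmb.ofNormal N).isIrr_cj θ.2 g⟩ fun n => rfl
      exact congrFun (congrArg (fun x : IrrCharacter N => x.1) h1) n
  have hN' : (⊤ : Subgroup G) ≤ Subgroup.normalizer (N : Set G) := Subgroup.le_normalizer_of_normal
  have h1 := H7.eB_mul_eb_blockOf_ne_zero hB hχ hθ
  obtain ⟨e, he, h2, h3⟩ := H7.fr_exists le_top hN' (H7.blk_eb hb) hT' (H7.blk_eB hB) h1
  obtain ⟨B', hB', rfl⟩ := H7.exists_eb_eq he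
  refine ⟨B', hB', fun φ => H7.fr_mem_iff hb hT' hB' h2 hB h3 φ, fun ψ hψ => ?_, fun D hD => ?_⟩
  · obtain ⟨ψ', hψ', θ', hθ', h4⟩ := (H7.covers_iff_eb_eb hNT hB' hb).2 h2
    rw [hb1] at hθ'
    obtain rfl := Set.mem_singleton_iff.1 hθ'
    haveI := Fintype.ofFinite (N.subgroupOf T)
    let e := (Subgroup.subgroupOfEquivOfLe hNT)
    have h5 := H6.constituent_of_sameBlock (N := N.subgroupOf T) hM
      (by rwa [Nat.card_congr e.toEquiv]) ψ'.2 ψ.2 (H6.sameBlock_of_mem hB' hψ' hψ)
      (θ'.2.comp_equiv e) (by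
        rw [← classInner_comp_equiv _ _ e.toEquiv] at h4
        exact h4)
    rw [← classInner_comp_equiv _ _ e.toEquiv]
    exact h5
  · rw [H7.isDefectGroup_iff hM hB, ← h3]
    exact H7.fr_isDef le_top hN' (H7.blk_eb hb) hT' he h2 ((H7.isDefectGroup_iff_eb hM hB').1 hD)

/-- heights are preserved by a Fong step -/
theorem height_indFun [Fintype G] (hM : IsPModular p M) {T : Subgroup G}
    {B : Set (IrrCharacter G)} (hB : IsPBlock M B) {B' : Set (IrrCharacter T)}
    (hB' : IsPBlock M B') {D : Subgroup T} (hD' : IsDefectGroup p M B' D)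
    (hD : IsDefectGroup p M B (D.map T.subtype)) {χ : IrrCharacter G} (hχ : χ ∈ B)
    {ψ : IrrCharacter T} (hψ : ψ ∈ B') (h : (χ : G → ℂ) = indFun T (ψ : T → ℂ)) :
    blockHeight p B (χ : G → ℂ) = blockHeight p B' (ψ : T → ℂ) := by
  have h1 := card_defectGroup hM hB hD
  have h2 := card_defectGroup hM hB' hD'
  rw [← Nat.card_congr (D.equivMapOfInjective _ T.subtype_injective).toEquiv, h2] at h1
  have h3 := Nat.pow_right_injective (Fact.out : p.Prime).two_le h1
  have h4 := defect_add_bmin (p := p) (B := B) ⟨χ, hχ⟩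
  have h5 := defect_add_bmin (p := p) (B := B') ⟨ψ, hψ⟩
  have h6 := height_add_bmin (p := p) hχ
  have h7 := height_add_bmin (p := p) hψ
  rw [h, charDegree_indFun, Nat.factorization_mul T.index_ne_zero_of_finite
    ψ.2.charDegree_pos.ne', Finsupp.add_apply] at h6
  rw [← T.card_mul_index, Nat.factorization_mul Nat.card_pos.ne' T.index_ne_zero_of_finite,
    Finsupp.add_apply] at h4
  rw [h]
  omega

/-- In the invariant case the `p`-part of the degree divides the index of the centre of a Sylow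
subgroup. -/
theorem degree_factorization_le_of_invariant [Fintype G] (hG : H9.CharPGrp p (G ⧸ pPrimeCore p G))
    [Fintype (pPrimeCore p G)] {θ : pPrimeCore p G → ℂ} (hθ : IsIrrCharacter _ θ)
    (hinv : ∀ g n, θ ((NEmb.ofNormal (pPrimeCore p G)).act g n) = θ n) {χ : G → ℂ}
    (hχ : IsIrrCharacter G χ) (h : classInner (fun n : pPrimeCore p G => χ n) θ ≠ 0)
    {P : Subgroup G} (hP : SylowIn p P ⊤) :
    (charDegree χ).factorization p ≤ (Subgroup.center P).index.factorization p := by
  classical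
  have hp : p.Prime := Fact.out
  let N := pPrimeCore p G
  let π := QuotientGroup.mk' N
  let W := pCore p (G ⧸ N)
  let Z : Subgroup (G ⧸ N) := W ⊓ Subgroup.centralizer (W : Set (G ⧸ N))
  haveI : W.Normal := inferInstance
  haveI : Z.Normal := inferInstance
  let A : Subgroup G := Z.comap π
  haveI : A.Normal := inferInstance
  haveI := Fintype.ofFinite A
  have hNA : N ≤ A := fun n hn => by
    have : π n = 1 := (QuotientGroup.eq_one_iff n).2 hn
    show π n ∈ Z
    rw [this]; exact Z.one_mem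
  have hNc := H1.not_dvd_card_pPrimeCore p G
  let E := NEmb.ofLeNormal hNA
  have hidx : ∃ k, E.f.range.index = p ^ k := by
    rw [NEmb.ofLeNormal_index, H9.relIndex_eq_card_map_mk', Subgroup.map_comap_eq_self_of_surjective
      (QuotientGroup.mk'_surjective N)]
    exact IsPGroup.iff_card.1 ((H1.isPGroup_pCore p _).to_le inf_le_left)
  obtain ⟨k, hk⟩ := hidx
  obtain ⟨η, hη, hηe, -⟩ := E.exists_ext_of_coprime hθ (fun g n => hinv g n)
    (by rw [hk]; exact ((Nat.Prime.coprime_iff_not_dvd hp).2 hNc).pow_left k)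
  obtain ⟨φ, hφ, h1, h2⟩ := exists_constituent_inner_comp_ne_zero E.f (θ := θ)
    (hχ.isClassFunction.restrict A) h
  obtain ⟨β, hβ, hβ1, hβ2⟩ := E.gallagher_surj hθ hη.isCharacter hηe hφ h2
  have hβ3 : β 1 = 1 := E.degree_eq_one_of_ab (fun a b => by
    rw [NEmb.ofLeNormal_range, Subgroup.mem_subgroupOf, ← QuotientGroup.eq_one_iff]
    have h3 : π a * π b = π b * π a := (b.2.2 : π b ∈ Subgroup.centralizer _) _ a.2.1
    show π (a * b * (a : G)⁻¹ * (b : G)⁻¹) = 1
    simp only [map_mul, map_inv]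
    rw [h3]; group) hβ hβ1
  have hφ1 : φ 1 = θ 1 := by
    rw [← hβ2, Pi.mul_apply, hβ3, one_mul, ← hηe 1, map_one]
  obtain ⟨e, he, he1⟩ := (NEmb.ofNormal A).degree_dvd_index hφ hχ h1
  rw [NEmb.ofNormal_range] at he
  obtain ⟨d, hd0, hd⟩ := hθ.exists_degree
  have hdp : ¬ p ∣ d := fun h => hNc (h.trans (hθ.degree_dvd_card hd))
  have hdeg : charDegree χ = e * d := charDegree_eq_of (by rw [he1, hφ1, hd, Nat.cast_mul])
  have he0 : e ≠ 0 := fun h0 => A.index_ne_zero_of_finite (by rwa [h0, zero_dvd_iff] at he)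
  rw [hdeg, Nat.factorization_mul he0 hd0.ne', Finsupp.add_apply,
    Nat.factorization_eq_zero_of_not_dvd hdp, add_zero]
  have h4 : e.factorization p ≤ A.index.factorization p :=
    (Nat.factorization_le_iff_dvd he0 A.index_ne_zero_of_finite).2 he p
  -- the centre of `P` lies in `A`
  have hWP : W ≤ P.map π := by
    have h5 := hP.map π
    rw [Subgroup.map_top_of_surjective _ (QuotientGroup.mk'_surjective N)] at h5
    exact h5.le_of_le_normalizer (H1.isPGroup_pCore p _) le_top Subgroup.le_normalizer_of_normal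
  have hZA : (Subgroup.center P).map P.subtype ≤ A := by
    rintro _ ⟨z, hz, rfl⟩
    have h6 : π z ∈ Subgroup.centralizer (W : Set (G ⧸ N)) := fun w hw => by
      obtain ⟨y, hy, rfl⟩ := hWP hw
      rw [← map_mul, ← map_mul]
      exact congrArg (fun t : P => π t) (Subgroup.mem_center_iff.1 hz ⟨y, hy⟩)
    exact ⟨hG h6, h6⟩
  have h7 : (Nat.card (Subgroup.center P)).factorization p ≤ (Nat.card A).factorization p := by
    refine (Nat.factorization_le_iff_dvd Nat.card_pos.ne' Nat.card_pos.ne').2 ?_ p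
    rw [Nat.card_congr ((Subgroup.center P).equivMapOfInjective _ P.subtype_injective).toEquiv]
    exact Subgroup.card_dvd_of_le hZA
  have h8 : (Nat.card G).factorization p = (Nat.card P).factorization p := by
    have h9 := hP.not_dvd
    rw [Subgroup.relIndex_top_right] at h9
    rw [← P.card_mul_index, Nat.factorization_mul Nat.card_pos.ne' P.index_ne_zero_of_finite,
      Finsupp.add_apply, Nat.factorization_eq_zero_of_not_dvd h9, add_zero]
  rw [← A.card_mul_index, ← (Subgroup.center P).card_mul_index,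
    Nat.factorization_mul Nat.card_pos.ne' A.index_ne_zero_of_finite,
    Nat.factorization_mul Nat.card_pos.ne' Subgroup.index_ne_zero_of_finite,
    Finsupp.add_apply, Finsupp.add_apply] at h8
  omega

theorem fong_block' [Fintype G] (hM : IsPModular p M) (hG : H9.CharPGrp p (G ⧸ pPrimeCore p G))
    [Fintype (pPrimeCore p G)] {θ : IrrCharacter (pPrimeCore p G)}
    (hinv : ∀ g n, θ.1 ((NEmb.ofNormal (pPrimeCore p G)).act g n) = θ.1 n)
    {B : Set (IrrCharacter G)} (hB : IsPBlock M B) {χ : IrrCharacter G} (hχ : χ ∈ B)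
    (h : classInner (fun n : pPrimeCore p G => χ.1 n) θ.1 ≠ 0) :
    (∀ φ : IrrCharacter G, φ ∈ B ↔ classInner (fun n : pPrimeCore p G => φ.1 n) θ.1 ≠ 0) ∧
      ∀ D, IsDefectGroup p M B D ↔ SylowIn p D ⊤ := by
  haveI : M.IsMaximal := hM.2.1
  obtain ⟨Q, hQ⟩ := exists_sylowIn p (pPrimePCore p G)
  obtain ⟨B', hB', h1, h2, -⟩ := H7.fong_block hM hQ ((H9.centralizer_le_pPrimePCore_iff hQ).2 hG) θ
    fun g k k' hk => by
      rw [← hinv g k]; exact congrArg θ.1 (Subtype.ext hk)
  have : B = B' := by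
    rw [H6.block_eq_blockOf hB hχ, H6.block_eq_blockOf hB' ((h1 χ).2 h)]
  subst this
  exact ⟨h1, h2⟩

universe u in
theorem fong_height (hM : IsPModular p M) (n : ℕ) : ∀ {G : Type u} [Group G] [Finite G],
    Nat.card G = n → IsPSolvable p G → ∀ {B : Set (IrrCharacter G)}, IsPBlock M B →
    ∀ {P : Subgroup G}, IsDefectGroup p M B P → ∀ {χ : IrrCharacter G}, χ ∈ B →
    blockHeight p B (χ : G → ℂ) ≤ (Subgroup.center P).index.factorization p := by
  induction n using Nat.strong_induction_on with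
  | _ n ih =>
  intro G _ _ hn hs B hB P hP χ hχ
  haveI : M.IsMaximal := hM.2.1
  haveI := Fintype.ofFinite G
  haveI := Fintype.ofFinite (pPrimeCore p G)
  obtain ⟨θ, hθ, h⟩ := exists_irr_under (pPrimeCore p G) χ.2
  obtain ⟨T, hT⟩ : ∃ T, T = (NEmb.ofNormal (pPrimeCore p G)).inertia θ := ⟨_, rfl⟩
  by_cases h0 : T = ⊤
  · have hinv := (NEmb.inertia_eq_top_iff _).1 (hT ▸ h0)
    have hG := H9.isPConstrained_iff.1 (H9.isPConstrained_of_isPSolvable hs)
    have h1 := ((fong_block' hM hG (θ := ⟨θ, hθ⟩) hinv hB hχ h).2 P).1 hP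
    exact (Nat.sub_le _ _).trans (degree_factorization_le_of_invariant hG hθ hinv χ.2 h h1)
  · have hNT : pPrimeCore p G ≤ T := by
      rw [hT]
      exact fun n hn => (NEmb.ofNormal _).f_mem_inertia hθ.isClassFunction ⟨n, hn⟩
    obtain ⟨B', hB', h1, -, h2⟩ := fong_step hM (H1.not_dvd_card_pPrimeCore p G) hB hχ
      (θ := ⟨θ, hθ⟩) h hT hNT
    obtain ⟨ψ, hψ, h3⟩ := (h1 χ).1 hχ
    obtain ⟨D, hD⟩ := H6.exists_isDefectGroup p hB'
    have hlt : Nat.card T < n := by
      rw [← hn]
      exact lt_of_le_of_ne (Subgroup.card_le_card_group T) fun h => h0 (Subgroup.eq_top_of_card_eq T h)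
    rw [height_indFun hM hB hB' hD (h2 D hD) hχ hψ h3]
    obtain ⟨g, -, rfl⟩ := ((H7.isDefectGroup_iff hM hB).1 (h2 D hD)).exists_conj
      ((H7.isDefectGroup_iff hM hB).1 hP)
    rw [index_center_conj, index_center_map_subtype]
    exact ih _ hlt rfl (H9.isPSolvable_subgroup hs T) hB' hD hψ

end Cfsg.Agent.H8
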