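import Mathlib
import Cfsg.Agent.H8.Fong1
import Cfsg.Agent.H1.Glauberman

/-!
Sums of central idempotents supported on `p`-regular elements of a `p`-solvable group.
-/

set_option autoImplicit false
set_option linter.dupNamespace false

namespace Cfsg.Agent.H8

open Cfsg Cfsg.Agent.H4 Cfsg.Agent.H6 Cfsg.Agent.H5 Cfsg.Agent.H3
open scoped ComplexConjugate Pointwise

section proj
variable {N G : Type*} [Group N] [Group G] [Fintype N] [Fintype G] (E : NEmb N G)

theorem sum_emb_mul_apply {c : N → ℂ} (hc : ∀ g n, c (E.act g n) = c n) {φ : G → ℂ}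
    (hφ : IsIrrCharacter G φ) (x : G) :
    ∑ n, c n * φ (E.f n * x) = (∑ n, c n * φ (E.f n)) / φ 1 * φ x := by
  classical
  have h1 : ∀ F : G → ℂ, ∑ g, Function.extend E.f c 0 g * F g = ∑ n, c n * F (E.f n) := fun F => by
    rw [E.sum_eq_sum_res_add, Finset.sum_eq_zero (s := Finset.univ.filter _), add_zero]
    · exact Finset.sum_congr rfl fun n _ => by rw [E.inj.extend_apply]
    · intro g hg
      rw [Function.extend_apply' _ _ _ (Finset.mem_filter.1 hg).2, Pi.zero_apply, zero_mul]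
  have h2 : IsClassFunction G (Function.extend E.f c 0) := fun g x => by
    by_cases hg : ∃ n, E.f n = g
    · obtain ⟨n, rfl⟩ := hg
      rw [← E.f_act, E.inj.extend_apply, E.inj.extend_apply, hc]
    · rw [Function.extend_apply' _ _ _ hg, Function.extend_apply']
      · rfl
      · rintro ⟨n, hn⟩
        exact hg ⟨E.act x⁻¹ n, by rw [E.f_act, hn]; group⟩
  rw [← h1 fun g => φ (g * x), hφ.sum_mul_apply_mul h2, h1]

/-- weighted translation average of a class function -/
theorem sum_emb_mul_eq {c : N → ℂ} (hc : ∀ g n, c (E.act g n) = c n) {f : G → ℂ}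
    (hf : IsClassFunction G f) :
    (fun x => ∑ n, c n * f (E.f n * x)) = ∑ φ : IrrCharacter G,
      (classInner f φ * ((∑ n, c n * φ.1 (E.f n)) / φ.1 1)) • (φ : G → ℂ) := by
  funext x
  simp only [Finset.sum_apply, Pi.smul_apply, smul_eq_mul, mul_assoc,
    ← sum_emb_mul_apply E hc (Subtype.property _) x, Finset.mul_sum]
  rw [Finset.sum_comm]
  refine Finset.sum_congr rfl fun n _ => ?_
  rw [hf.apply_eq_sum, Finset.mul_sum]
  exact Finset.sum_congr rfl fun φ _ => by ring

/-- projection on the part over an invariant irreducible character -/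
noncomputable def projOver (θ : N → ℂ) (f : G → ℂ) : G → ℂ :=
  fun x => ∑ n, (θ 1 / Nat.card N * conj (θ n)) * f (E.f n * x)

variable {θ : N → ℂ} (hθ : IsIrrCharacter N θ) (hinv : ∀ g n, θ (E.act g n) = θ n)
include hθ hinv

open Classical in
theorem projOver_eq {f : G → ℂ} (hf : IsClassFunction G f) :
    projOver E θ f = ∑ φ : IrrCharacter G,
      (if classInner (fun n => φ.1 (E.f n)) θ ≠ 0 then classInner f φ else 0) • (φ : G → ℂ) := by
  unfold projOver
  rw [sum_emb_mul_eq E (fun g n => by rw [hinv]) hf]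
  refine Finset.sum_congr rfl fun φ _ => ?_
  congr 1
  have h1 : ∑ n, θ 1 / Nat.card N * conj (θ n) * φ.1 (E.f n) =
      θ 1 * classInner (fun n => φ.1 (E.f n)) θ := by
    rw [classInner_def, Finset.mul_sum, Finset.mul_sum]
    exact Finset.sum_congr rfl fun n _ => by ring
  rw [h1]
  split_ifs with h
  · obtain ⟨e, -, h2, h3⟩ := E.clifford_of_invariant_nat φ.2 hθ hinv h
    have h4 := h3 1
    rw [map_one] at h4
    rw [h2, mul_comm (θ 1), ← h4, div_self φ.2.apply_one_ne_zero, mul_one]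
  · rw [not_not.1 h, mul_zero, zero_div, mul_zero]

theorem projOver_isClassFunction {f : G → ℂ} (hf : IsClassFunction G f) :
    IsClassFunction G (projOver E θ f) := by
  rw [projOver_eq E hθ hinv hf]
  exact isClassFunction_sum _ _ fun φ _ => φ.2.isClassFunction.smul _

theorem inner_projOver_of_over {f : G → ℂ} (hf : IsClassFunction G f) {φ : G → ℂ}
    (hφ : IsIrrCharacter G φ) (h : classInner (fun n => φ (E.f n)) θ ≠ 0) :
    classInner (projOver E θ f) φ = classInner f φ := by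
  rw [projOver_eq E hθ hinv hf]
  exact (classInner_sum_irr_left _ ⟨φ, hφ⟩).trans (if_pos h)

theorem inner_projOver_of_not_over {f : G → ℂ} (hf : IsClassFunction G f) {φ : G → ℂ}
    (hφ : IsIrrCharacter G φ) (h : classInner (fun n => φ (E.f n)) θ = 0) :
    classInner (projOver E θ f) φ = 0 := by
  rw [projOver_eq E hθ hinv hf]
  exact (classInner_sum_irr_left _ ⟨φ, hφ⟩).trans (if_neg (not_not.2 h))

omit hinv in
theorem exists_apply_coset_ne_zero {χ : G → ℂ} (hχ : IsCharacter G χ)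
    (hext : ∀ n, χ (E.f n) = θ n) (γ : G) : ∃ n, χ (E.f n * γ) ≠ 0 := by
  by_contra h
  push Not at h
  have hc : IsClassFunction G (fun g => χ g * conj (χ g)) :=
    hχ.isClassFunction.mul hχ.isClassFunction.conj
  have h1 : projOver E (fun _ => 1) (fun g => χ g * conj (χ g)) = fun _ => 1 := by
    refine (projOver_isClassFunction E isIrrCharacter_one (fun _ _ => rfl) hc).ext_irr
      (isClassFunction_const 1) fun φ hφ => ?_
    by_cases h2 : classInner (fun n => φ (E.f n)) (fun _ => 1) = 0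
    · rw [inner_projOver_of_not_over E isIrrCharacter_one (fun _ _ => rfl) hc hφ h2,
        isIrrCharacter_one.classInner_of_ne hφ]
      rintro rfl
      rw [classInner_one_one] at h2
      exact one_ne_zero h2
    · rw [inner_projOver_of_over E isIrrCharacter_one (fun _ _ => rfl) hc hφ h2,
        ← E.gallagher_inner isIrrCharacter_one (fun _ _ => rfl) (NEmb.one_mul_irr hθ) hχ hext
          isIrrCharacter_one hφ (by rw [classInner_one_one]; exact one_ne_zero) h2,
        classInner_def, classInner_def]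
      congr 1
      refine Finset.sum_congr rfl fun g _ => ?_
      simp only [Pi.mul_apply, map_mul]
      ring
  have h2 := congrFun h1 γ
  simp only [projOver, h, zero_mul, mul_zero, Finset.sum_const_zero] at h2
  exact zero_ne_one h2

end proj

section group
variable {H : Type*} [Group H] [Finite H] {p : ℕ} [hp : Fact p.Prime]

theorem exists_conj_of_pRegular {W : Subgroup H} [W.Normal] (hW : IsPGroup p W) {y w : H}
    (hw : w ∈ W) (hy : ¬ p ∣ orderOf y) (hwy : ¬ p ∣ orderOf (w * y)) :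
    ∃ q ∈ W, q⁻¹ * y * q = w * y := by
  obtain ⟨k, hk⟩ := IsPGroup.iff_card.1 hW
  have hπ : ∀ a : H, a ∈ W ↔ QuotientGroup.mk' W a = 1 := fun a => (QuotientGroup.eq_one_iff a).symm
  have h1 : QuotientGroup.mk' W (w * y) = QuotientGroup.mk' W y := by
    rw [map_mul, (hπ w).1 hw, one_mul]
  obtain ⟨q, hq, h⟩ := H1.glauberman (N := W) (U := Subgroup.zpowers y)
    (H := Subgroup.zpowers (w * y)) Subgroup.le_normalizer_of_normal
    (by rw [hk, Nat.card_zpowers]
        exact (((Nat.Prime.coprime_iff_not_dvd hp.out).2 hy).symm).pow_right k)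
    (Or.inl inferInstance) (by
      rintro _ ⟨i, rfl⟩
      refine ⟨y ^ i * ((w * y) ^ i)⁻¹, (hπ _).2 ?_, ⟨i, by simp only; group⟩⟩
      rw [map_mul, map_inv, map_zpow, map_zpow, h1, mul_inv_cancel])
  refine ⟨q, hq, ?_⟩
  have h2 := h y (Subgroup.mem_zpowers y)
  have h3 : q⁻¹ * y * q * (w * y)⁻¹ ∈ W ⊓ Subgroup.zpowers (w * y) := by
    refine ⟨(hπ _).2 ?_, Subgroup.mul_mem _ h2 (Subgroup.inv_mem _ (Subgroup.mem_zpowers _))⟩
    rw [map_mul, map_inv, h1, map_mul, map_mul, map_inv, (hπ q).1 hq]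
    group
  rw [Subgroup.inf_eq_bot_of_coprime (by
    rw [hk, Nat.card_zpowers]
    exact ((Nat.Prime.coprime_iff_not_dvd hp.out).2 hwy).pow_left k), Subgroup.mem_bot] at h3
  exact mul_inv_eq_one.1 h3

end group

/-- class functions which are sums of the `χ(1) χ` -/
def IdemCF {G : Type*} [Group G] [Fintype G] (Φ : G → ℂ) : Prop :=
  IsClassFunction G Φ ∧ ∀ χ, IsIrrCharacter G χ → classInner Φ χ = 0 ∨ classInner Φ χ = χ 1

theorem IdemCF.inner_sum {G : Type*} [Group G] [Fintype G] {Φ : G → ℂ} (h : IdemCF Φ)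
    (c : IrrCharacter G → ℂ) :
    classInner (∑ φ : IrrCharacter G, (classInner Φ φ * c φ) • (φ : G → ℂ)) Φ =
      (∑ φ : IrrCharacter G, (classInner Φ φ * c φ) • (φ : G → ℂ)) 1 := by
  rw [classInner_sum_left, Finset.sum_apply]
  refine Finset.sum_congr rfl fun φ _ => ?_
  rw [classInner_smul_left, Pi.smul_apply, smul_eq_mul, ← classInner_conj_symm Φ]
  rcases h.2 φ φ.2 with h1 | h1 <;> rw [h1]
  · simp
  · rw [φ.2.isCharacter.conj_apply_one]

theorem IdemCF.inner_self {G : Type*} [Group G] [Fintype G] {Φ : G → ℂ} (h : IdemCF Φ) :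
    classInner Φ Φ = Φ 1 := by
  have h1 := h.inner_sum fun _ => 1
  simp only [mul_one] at h1
  rwa [← h.1.eq_sum] at h1

theorem central_case {K Γ H : Type*} [Group K] [Group Γ] [Group H] [Fintype Γ] {p : ℕ}
    [hp : Fact p.Prime] (E : NEmb K Γ) (f : Γ →* H) (hf : Function.Surjective f)
    (hker : E.f.range = f.ker) (hH : H9.CharPGrp p H) (ν : K →* ℂˣ)
    (hν : ∀ γ k, ν (E.act γ k) = ν k) (hν' : ¬ p ∣ orderOf ν) {Ψ : Γ → ℂ} (hΨ : IdemCF Ψ)
    (h1 : ∀ k γ, Ψ (E.f k * γ) = ν k * Ψ γ) (h2 : ∀ γ, p ∣ orderOf (f γ) → Ψ γ = 0)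
    {x : Γ} (hx : Ψ x ≠ 0) : f x = 1 := by
  classical
  haveI : Finite H := Finite.of_surjective f hf
  haveI := E.finite
  haveI := Fintype.ofFinite K
  let W := pCore p H
  have hW : IsPGroup p W := H1.isPGroup_pCore p H
  let V : Subgroup Γ := W.comap f
  haveI := Fintype.ofFinite V
  have hfk : ∀ k, f (E.f k) = 1 := fun k => by
    rw [← MonoidHom.mem_ker, ← hker]; exact ⟨k, rfl⟩
  have hKV : ∀ k, E.f k ∈ V := fun k => by
    show f (E.f k) ∈ W
    rw [hfk]; exact W.one_mem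
  let E' := E.restrict V hKV
  obtain ⟨a, ha⟩ := IsPGroup.iff_card.1 hW
  have hidx : E'.f.range.index = p ^ a := by
    rw [NEmb.restrict_range, hker, ← ha]
    change f.ker.relIndex V = _
    rw [Subgroup.relIndex_ker, Subgroup.map_comap_eq_self_of_surjective hf]
  have hcop : E'.f.range.index.Coprime (orderOf ν) := by
    rw [hidx]; exact ((Nat.Prime.coprime_iff_not_dvd hp.out).2 hν').pow_left a
  obtain ⟨μ, hμ, hμo⟩ := E'.exists_linear_ext_of_coprime (lam := ν) (fun g n => hν g n) hcop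
  let EV := NEmb.ofNormal V
  have hμi : ∀ γ v, μ (EV.act γ v) = μ v := fun γ v => by
    have h3 : μ.comp (EV.actEquiv γ).toMonoidHom = μ := by
      refine E'.linear_ext_unique (fun n => ?_) ?_ (hμo ▸ hcop)
      · rw [hμ, ← hν γ n, ← hμ]
        exact congrArg μ (Subtype.ext (E.f_act γ n).symm)
      · refine Nat.Coprime.coprime_dvd_right (orderOf_dvd_of_pow_eq_one ?_) (hμo ▸ hcop)
        ext v
        rw [MonoidHom.pow_apply, MonoidHom.comp_apply, ← MonoidHom.pow_apply, pow_orderOf_eq_one]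
        rfl
    exact DFunLike.congr_fun h3 v
  let r : Γ → Finset V := fun y => Finset.univ.filter fun v : V => ¬ p ∣ orderOf (f (v * y))
  have hA : ∀ y, Ψ y ≠ 0 → ∑ v : V, conj (μ v : ℂ) * Ψ (EV.f v * y) = (r y).card * Ψ y := by
    intro y hy
    rw [← nsmul_eq_mul, ← Finset.sum_const, Finset.sum_filter]
    refine Finset.sum_congr rfl fun v _ => ?_
    split_ifs with h
    · rw [h2 (EV.f v * y) h, mul_zero]
    · rw [map_mul] at h
      obtain ⟨w, hw, h3⟩ := exists_conj_of_pRegular hW v.2 (fun h => hy (h2 y h)) h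
      obtain ⟨q, rfl⟩ := hf w
      have h4 : (v : Γ) * y * (q⁻¹ * y * q)⁻¹ ∈ E.f.range := by
        rw [hker, MonoidHom.mem_ker, map_mul, map_mul, map_inv, map_mul, map_mul, map_inv, h3,
          mul_inv_cancel]
      obtain ⟨k, hk⟩ := h4
      have h5 : v = E'.f k * (⟨q, hw⟩ : V)⁻¹ * EV.act y ⟨q, hw⟩ := by
        apply Subtype.ext
        change (v : Γ) = E.f k * q⁻¹ * (y * q * y⁻¹)
        rw [hk]; group
      have h6 : EV.f v * y = E.f k * (q⁻¹ * y * q) := by
        rw [hk]; change (v : Γ) * y = _; group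
      have h7 : μ v = ν k := by
        rw [h5, map_mul, map_mul, map_inv, hμi, hμ, inv_mul_cancel_right]
      rw [h6, h1, hΨ.1.inv_conj, h7, conj_linear, ← mul_assoc, ← Units.val_mul, ← map_mul,
        inv_mul_cancel, map_one, Units.val_one, one_mul]
  let s : Finset V := Finset.univ.filter fun v : V => f v = 1
  have hs : ∀ y, Ψ y ≠ 0 → s ⊆ r y := fun y hy v hv => by
    refine Finset.mem_filter.2 ⟨Finset.mem_univ _, ?_⟩
    rw [map_mul, (Finset.mem_filter.1 hv).2, one_mul]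
    exact fun h => hy (h2 y h)
  have hr1 : r 1 = s := by
    ext v
    simp only [r, s, Finset.mem_filter, Finset.mem_univ, true_and, mul_one]
    constructor
    · intro h
      obtain ⟨j, hj⟩ := IsPGroup.iff_orderOf.1 hW ⟨f v, v.2⟩
      rw [← Subgroup.orderOf_coe] at hj
      rcases j with _ | j
      · exact orderOf_eq_one_iff.1 hj
      · exact absurd (hj ▸ dvd_pow_self p j.succ_ne_zero) h
    · intro h
      rw [h, orderOf_one, Nat.dvd_one]
      exact hp.out.ne_one
  have hΨ1 : Ψ 1 ≠ 0 := fun h0 => by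
    rw [← hΨ.inner_self, classInner_self_eq_zero] at h0
    exact hx (congrFun h0 x)
  have hB := hΨ.inner_sum fun φ => (∑ v : V, conj (μ v : ℂ) * φ.1 (EV.f v)) / φ.1 1
  rw [← sum_emb_mul_eq EV (c := fun v => conj (μ v : ℂ)) (fun g n => by rw [hμi]) hΨ.1] at hB
  simp only at hB
  rw [hA 1 hΨ1, hr1, ← hΨ.inner_self, classInner_def, classInner_def, mul_left_comm,
    mul_right_inj' (inv_ne_zero natCard_ne_zero'), Finset.mul_sum] at hB
  have hC : ∑ y, (((r y).card : ℝ) - s.card) * ‖Ψ y‖ ^ 2 = 0 := by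
    have h3 : ∑ y, ((((r y).card : ℝ) - s.card) * ‖Ψ y‖ ^ 2 : ℝ) =
        ((∑ y, (∑ v : V, conj (μ v : ℂ) * Ψ (EV.f v * y)) * conj (Ψ y)) -
          ∑ y, s.card * (Ψ y * conj (Ψ y)) : ℂ) := by
      rw [← Finset.sum_sub_distrib, Complex.ofReal_sum]
      refine Finset.sum_congr rfl fun y _ => ?_
      by_cases hy : Ψ y = 0
      · simp [hy]
      · rw [hA y hy, mul_assoc, Complex.mul_conj, Complex.normSq_eq_norm_sq]
        push_cast; ring
    rw [hB, sub_self] at h3
    exact_mod_cast h3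
  have hD := (Finset.sum_eq_zero_iff_of_nonneg fun y _ => by
    by_cases hy : Ψ y = 0
    · simp [hy]
    · exact mul_nonneg (sub_nonneg.2 (Nat.cast_le.2 (Finset.card_le_card (hs y hy))))
        (sq_nonneg _)).1 hC x (Finset.mem_univ x)
  have hE : (r x).card = s.card := by
    have h3 := (mul_eq_zero.1 hD).resolve_right (pow_ne_zero 2 (norm_ne_zero_iff.2 hx))
    exact_mod_cast sub_eq_zero.1 h3
  have hF := Finset.eq_of_subset_of_card_le (hs x hx) hE.le
  have hG : f x ∈ W := hH fun w hw => by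
    obtain ⟨q, rfl⟩ := hf w
    have h3 : (⟨q, hw⟩ : V) * (EV.act x ⟨q, hw⟩)⁻¹ ∈ r x := by
      refine Finset.mem_filter.2 ⟨Finset.mem_univ _, ?_⟩
      change ¬ p ∣ orderOf (f (q * (x * q * x⁻¹)⁻¹ * x))
      rw [show q * (x * q * x⁻¹)⁻¹ * x = q * x * q⁻¹ by group, map_mul, map_mul, map_inv,
        ← MulAut.conj_apply, MulEquiv.orderOf_eq]
      exact fun h => hx (h2 x h)
    rw [← hF] at h3
    have h4 : f (q * (x * q * x⁻¹)⁻¹) = 1 := (Finset.mem_filter.1 h3).2
    rw [map_mul, map_inv, mul_inv_eq_one, map_mul, map_mul, map_inv] at h4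
    exact eq_mul_inv_iff_mul_eq.1 h4
  have h3 : (⟨x, hG⟩ : V) ∈ r 1 :=
    Finset.mem_filter.2 ⟨Finset.mem_univ _, by rw [mul_one]; exact fun h => hx (h2 x h)⟩
  rw [hr1] at h3
  exact (Finset.mem_filter.1 h3).2

section main
variable {G : Type*} [Group G] [Fintype G] {p : ℕ} [hp : Fact p.Prime]

theorem dvd_orderOf_mul_iff {N : Subgroup G} [N.Normal] (hN : ¬ p ∣ Nat.card N) (x : G) :
    p ∣ orderOf (QuotientGroup.mk' N x) ↔ p ∣ orderOf x := by
  refine ⟨fun h => h.trans (orderOf_map_dvd _ x), fun h => ?_⟩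
  have h1 : x ^ orderOf (QuotientGroup.mk' N x) ∈ N := by
    rw [← QuotientGroup.eq_one_iff, ← QuotientGroup.mk'_apply, map_pow, pow_orderOf_eq_one]
  have h2 : orderOf x ∣ orderOf (QuotientGroup.mk' N x) * Nat.card N := by
    apply orderOf_dvd_of_pow_eq_one
    rw [pow_mul]
    exact congrArg Subtype.val (pow_card_eq_one' (x := (⟨_, h1⟩ : N)))
  exact ((Nat.Prime.dvd_mul hp.out).1 (h.trans h2)).resolve_right hN

theorem dvd_orderOf_normal_mul {N : Subgroup G} [N.Normal] (hN : ¬ p ∣ Nat.card N) {n : G}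
    (hn : n ∈ N) {x : G} (h : p ∣ orderOf x) : p ∣ orderOf (n * x) := by
  rw [← dvd_orderOf_mul_iff hN] at h ⊢
  rwa [map_mul, QuotientGroup.mk'_apply, (QuotientGroup.eq_one_iff n).2 hn, one_mul]

theorem vanish_off_of_invariant {N : Subgroup G} [N.Normal] [Fintype N] (hN : ¬ p ∣ Nat.card N)
    (hG : H9.CharPGrp p (G ⧸ N)) {θ : N → ℂ} (hθ : IsIrrCharacter N θ)
    (hinv : ∀ g n, θ ((NEmb.ofNormal N).act g n) = θ n) {Φ : G → ℂ} (hΦ : IdemCF Φ)
    (h1 : ∀ χ, IsIrrCharacter G χ → classInner Φ χ ≠ 0 → classInner (fun n : N => χ n) θ ≠ 0)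
    (h2 : ∀ x, p ∣ orderOf x → Φ x = 0) {x : G} (hx : Φ x ≠ 0) : x ∈ N := by
  classical
  let E := NEmb.ofNormal N
  obtain ⟨d, hd0, hd⟩ := hθ.exists_degree
  obtain ⟨Γ, _, _, Z, _, C, -, hZ, -⟩ := exists_cover E hθ hinv hd Nat.card_pos.ne'
    (linear_pow_card _)
  haveI := Fintype.ofFinite Γ
  let S : Finset (IrrCharacter G) := Finset.univ.filter fun χ => classInner Φ χ ≠ 0
  have h3 : ∀ χ : S, ∃ β : Γ → ℂ, IsIrrCharacter Γ β ∧
      (∀ x γ, β (C.embNZ.f x * γ) = C.nu x * β γ) ∧ ∀ γ, χ.1.1 (C.π γ) = β γ * C.hat γ :=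
    fun χ => C.exists_factor hθ χ.1.2 (h1 _ χ.1.2 (Finset.mem_filter.1 χ.2).2)
  choose β hβ hβ1 hβ2 using h3
  have hβi : Function.Injective β := fun χ ψ h => by
    refine Subtype.ext (Subtype.ext (funext fun g => ?_))
    obtain ⟨γ, rfl⟩ := C.π_surj g
    rw [hβ2, hβ2, h]
  let Ψ : Γ → ℂ := ∑ χ : S, β χ 1 • β χ
  have hΨ : IdemCF Ψ := by
    refine ⟨isClassFunction_sum _ _ fun χ _ => (hβ χ).isClassFunction.smul _, fun φ hφ => ?_⟩
    rw [classInner_sum_left]
    by_cases h : ∃ χ, β χ = φ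
    · obtain ⟨χ, rfl⟩ := h
      right
      rw [Finset.sum_eq_single χ, classInner_smul_left, hφ.classInner_self, mul_one]
      · intro ψ _ hne
        rw [classInner_smul_left, (hβ ψ).classInner_of_ne hφ (hβi.ne hne), mul_zero]
      · exact fun h => absurd (Finset.mem_univ _) h
    · left
      refine Finset.sum_eq_zero fun χ _ => ?_
      rw [classInner_smul_left, (hβ χ).classInner_of_ne hφ fun h' => h ⟨χ, h'⟩, mul_zero]
  have h4 : ∀ γ, Φ (C.π γ) = θ 1 * C.hat γ * Ψ γ := fun γ => by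
    rw [hΦ.1.apply_eq_sum, ← Finset.sum_subset (Finset.subset_univ S) (fun χ _ hχ => by
      rw [not_not.1 fun h => hχ (Finset.mem_filter.2 ⟨Finset.mem_univ _, h⟩), zero_mul]),
      ← Finset.sum_coe_sort]
    simp only [Ψ]
    rw [Finset.sum_apply, Finset.mul_sum]
    refine Finset.sum_congr rfl fun χ _ => ?_
    have h5 := hβ2 χ 1
    rw [map_one, C.hat_one] at h5
    rw [(hΦ.2 _ χ.1.2).resolve_left (Finset.mem_filter.1 χ.2).2, hβ2, h5, Pi.smul_apply,
      smul_eq_mul]
    ring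
  have h5 : ∀ k γ, Ψ (C.embNZ.f k * γ) = C.nu k * Ψ γ := fun k γ => by
    simp only [Ψ, Finset.sum_apply, Pi.smul_apply, smul_eq_mul, hβ1, Finset.mul_sum]
    exact Finset.sum_congr rfl fun χ _ => by ring
  obtain ⟨γ, rfl⟩ := C.π_surj x
  have h6 := central_case (p := p) C.embNZ ((QuotientGroup.mk' N).comp C.π)
    ((QuotientGroup.mk'_surjective N).comp C.π_surj)
    (by rw [C.embNZ_range, NEmb.ofNormal_range, ← MonoidHom.comap_ker, QuotientGroup.ker_mk'])
    hG C.nu C.nu_inv (fun h => by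
      have h7 : orderOf C.nu ∣ d * Nat.card N := orderOf_dvd_of_pow_eq_one (by
        ext1 k
        rw [MonoidHom.pow_apply, C.nu_apply, inv_pow, ← map_pow, hZ, map_one, inv_one,
          MonoidHom.one_apply])
      rcases (Nat.Prime.dvd_mul hp.out).1 (h.trans h7) with h8 | h8
      · exact hN (h8.trans (hθ.degree_dvd_card hd))
      · exact hN h8) hΨ h5 (fun γ hγ => by
      rw [MonoidHom.comp_apply, dvd_orderOf_mul_iff hN] at hγ
      by_contra h0
      have h7 : ∀ n : N, C.hat (C.ι n * γ) = 0 := fun n => by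
        have h8 := h4 (C.ι n * γ)
        have h9 := h5 (n, 1) γ
        rw [C.embNZ_f, map_one, mul_one, C.nu_apply, map_one, inv_one, Units.val_one,
          one_mul] at h9
        rw [map_mul, C.π_ι, h2 (E.f n * C.π γ) (dvd_orderOf_normal_mul hN n.2 hγ), h9] at h8
        exact (mul_eq_zero.1 ((mul_eq_zero.1 h8.symm).resolve_right h0)).resolve_left
          hθ.apply_one_ne_zero
      obtain ⟨n, hn⟩ := exists_apply_coset_ne_zero C.embN hθ C.isChar C.hat_ι γ
      exact hn (h7 n)) (x := γ) (fun h0 => hx (by rw [h4, h0, mul_zero]))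
  exact (QuotientGroup.eq_one_iff _).1 h6

theorem inner_ne_zero_of_invariant {N : Subgroup G} [N.Normal] [Fintype N]
    (hN : ¬ p ∣ Nat.card N) (hG : H9.CharPGrp p (G ⧸ N)) {θ : N → ℂ} (hθ : IsIrrCharacter N θ)
    (hinv : ∀ g n, θ ((NEmb.ofNormal N).act g n) = θ n) {Φ : G → ℂ} (hΦ : IdemCF Φ)
    (h1 : ∀ χ, IsIrrCharacter G χ → classInner Φ χ ≠ 0 → classInner (fun n : N => χ n) θ ≠ 0)
    (h2 : ∀ x, p ∣ orderOf x → Φ x = 0) (h0 : Φ ≠ 0) {ψ : G → ℂ} (hψ : IsIrrCharacter G ψ)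
    (h : classInner (fun n : N => ψ n) θ ≠ 0) : classInner Φ ψ ≠ 0 := by
  let E := NEmb.ofNormal N
  have h3 : ∀ g, g ∉ E.f.range → Φ g = 0 := fun g hg => by
    by_contra h4
    rw [NEmb.ofNormal_range] at hg
    exact hg (vanish_off_of_invariant hN hG hθ hinv hΦ h1 h2 h4)
  have h4 := E.inner_of_vanish ψ h3
  have h5 : (fun n => Φ (E.f n)) = classInner (fun n => Φ (E.f n)) θ • θ := by
    refine eq_smul_of_forall_constituent (hΦ.1.comp E.f) hθ fun η hη h5 => ?_
    obtain ⟨χ, hχ, h6, h7⟩ := exists_constituent_inner_comp_ne_zero E.f hΦ.1 h5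
    obtain ⟨g, hg⟩ := E.exists_cj_eq_of_constituents hχ hθ hη (h1 χ hχ h6) h7
    rw [← hg]
    exact funext (hinv g)
  intro h6
  rw [h6, mul_zero, h5, classInner_smul_left, mul_eq_zero, classInner_eq_zero_symm θ] at h4
  rw [h4.resolve_right h, zero_smul] at h5
  have h7 := congrFun h5 1
  rw [map_one, ← hΦ.inner_self, Pi.zero_apply, classInner_self_eq_zero] at h7
  exact h0 h7

universe u in
theorem harada_pSolvable {M : Ideal AlgInt} (hM : IsPModular p M) (n : ℕ) :
    ∀ {G : Type u} [Group G] [Fintype G], Nat.card G = n → IsPSolvable p G →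
    ∀ {Φ : G → ℂ}, IdemCF Φ → (∀ x, p ∣ orderOf x → Φ x = 0) → ∀ {χ ψ : IrrCharacter G},
    SameBlock M χ.1 ψ.1 → classInner Φ χ ≠ 0 → classInner Φ ψ ≠ 0 := by
  induction n using Nat.strong_induction_on with
  | _ n ih =>
  intro G _ _ hn hs Φ hΦ hv χ ψ hb hχ
  haveI : M.IsMaximal := hM.2.1
  let N := pPrimeCore p G
  haveI := Fintype.ofFinite N
  have hN : ¬ p ∣ Nat.card N := H1.not_dvd_card_pPrimeCore p G
  obtain ⟨θ, hθ, h⟩ := exists_irr_under N χ.2
  obtain ⟨T, hT⟩ : ∃ T, T = (NEmb.ofNormal N).inertia θ := ⟨_, rfl⟩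
  by_cases h0 : T = ⊤
  · have hinv := (NEmb.inertia_eq_top_iff _).1 (hT ▸ h0)
    have hG := H9.isPConstrained_iff.1 (H9.isPConstrained_of_isPSolvable hs)
    have hψ := H6.constituent_of_sameBlock hM hN χ.2 ψ.2 hb hθ h
    let E := NEmb.ofNormal N
    rw [← inner_projOver_of_over E hθ hinv hΦ.1 ψ.2 hψ]
    rw [← inner_projOver_of_over E hθ hinv hΦ.1 χ.2 h] at hχ
    refine inner_ne_zero_of_invariant hN hG hθ hinv
      ⟨projOver_isClassFunction E hθ hinv hΦ.1, fun φ hφ => ?_⟩ (fun φ hφ h1 h2 => ?_)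
      (fun x hx => ?_) (fun h1 => ?_) ψ.2 hψ
    · by_cases h1 : classInner (fun n => φ (E.f n)) θ = 0
      · exact Or.inl (inner_projOver_of_not_over E hθ hinv hΦ.1 hφ h1)
      · rw [inner_projOver_of_over E hθ hinv hΦ.1 hφ h1]
        exact hΦ.2 φ hφ
    · exact h1 (inner_projOver_of_not_over E hθ hinv hΦ.1 hφ h2)
    · exact Finset.sum_eq_zero fun n _ => by
        rw [hv (E.f n * x) (dvd_orderOf_normal_mul hN n.2 hx), mul_zero]
    · rw [h1, classInner_zero_left] at hχ
      exact hχ rfl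
  · have hNT : N ≤ T := by
      rw [hT]
      exact fun n hn => (NEmb.ofNormal _).f_mem_inertia hθ.isClassFunction ⟨n, hn⟩
    haveI := Fintype.ofFinite T
    obtain ⟨B', hB', h1, h2, -⟩ := fong_step hM hN (H6.isPBlock_blockOf (M := M) χ)
      (H6.mem_blockOf_self χ) (θ := ⟨θ, hθ⟩) h hT hNT
    obtain ⟨η, hη, h3⟩ := (h1 χ).1 (H6.mem_blockOf_self χ)
    obtain ⟨ξ, hξ, h4⟩ := (h1 ψ).1 hb
    have hlt : Nat.card T < n := by
      rw [← hn]
      exact lt_of_le_of_ne (Subgroup.card_le_card_group T)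
        fun h => h0 (Subgroup.eq_top_of_card_eq T h)
    let E := (NEmb.ofNormal N).restrict T fun n => hNT n.2
    have hinv : ∀ g n, θ (E.act g n) = θ n := fun g n =>
      ((NEmb.ofNormal N).mem_inertia.1 (hT ▸ g.2)) n
    have hc : IsClassFunction T ((T.index : ℂ)⁻¹ • fun t : T => Φ t) := (hΦ.1.restrict T).smul _
    have key : ∀ φ, classInner ((T.index : ℂ)⁻¹ • fun t : T => Φ t) φ =
        (T.index : ℂ)⁻¹ * classInner Φ (indFun T φ) := fun φ => by
      rw [classInner_smul_left, inner_indFun_right T _ hΦ.1]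
    have h5 := ih _ hlt rfl (H9.isPSolvable_subgroup hs T)
      (Φ := projOver E θ ((T.index : ℂ)⁻¹ • fun t : T => Φ t))
      ⟨projOver_isClassFunction E hθ hinv hc, fun φ hφ => by
        by_cases h5 : classInner (fun n => φ (E.f n)) θ = 0
        · exact Or.inl (inner_projOver_of_not_over E hθ hinv hc hφ h5)
        · rw [inner_projOver_of_over E hθ hinv hc hφ h5, key]
          rcases hΦ.2 _ ((NEmb.ofNormal N).isIrr_indFun_of_inertia_le hθ T (fun n => hNT n.2)
            hT.ge hφ h5).1 with h6 | h6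
          · left; rw [h6, mul_zero]
          · right; rw [h6, indFun_one, ← mul_assoc, inv_mul_cancel₀ (index_ne_zero_C T), one_mul]⟩
      (fun x hx => Finset.sum_eq_zero fun n _ => by
        have h5 := hv _ (dvd_orderOf_normal_mul hN n.2 (x := x) (by rwa [Subgroup.orderOf_coe]))
        rw [Pi.smul_apply, smul_eq_mul]
        exact mul_eq_zero_of_right _ (mul_eq_zero_of_right _ h5))
      (H6.sameBlock_of_mem hB' hη hξ) (by
        rw [inner_projOver_of_over E hθ hinv hc η.2 (h2 η hη), key, ← h3]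
        exact mul_ne_zero (inv_ne_zero (index_ne_zero_C T)) hχ)
    rw [inner_projOver_of_over E hθ hinv hc ξ.2 (h2 ξ hξ), key, ← h4] at h5
    exact right_ne_zero_of_mul h5

end main

end Cfsg.Agent.H8
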