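import Mathlib
import Cfsg.Agent.H8.Deg2
import Cfsg.Agent.H8.OneBlk

/-! Gagola: characters vanishing on all but two classes, the character-theoretic part. -/

set_option autoImplicit false

namespace Cfsg.Agent.H8

open Cfsg Cfsg.Agent.H4 Cfsg.Agent.H5
open scoped ComplexConjugate

/-- `χ` is irreducible and nonzero exactly at `1` and on the class of `x ≠ 1`. -/
structure Gag {G : Type*} [Group G] (χ : G → ℂ) (x : G) : Prop where
  irr : IsIrrCharacter G χ
  ne : x ≠ 1
  supp : ∀ g, χ g ≠ 0 ↔ g = 1 ∨ IsConj x g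
  big : 2 < Nat.card G

variable {G : Type*} [Group G] [Finite G]

theorem exists_gag (hG : 2 < Nat.card G) (χ : IrrCharacter G)
    (hχ : Nat.card {C : ConjClasses G // ∃ g ∈ C.carrier, (χ : G → ℂ) g ≠ 0} = 2) :
    ∃ x, Gag (χ : G → ℂ) x := by
  have h1 : (χ : G → ℂ) 1 ≠ 0 := χ.2.apply_one_ne_zero
  let o : {C : ConjClasses G // ∃ g ∈ C.carrier, (χ : G → ℂ) g ≠ 0} :=
    ⟨ConjClasses.mk 1, 1, ConjClasses.mem_carrier_mk, h1⟩
  obtain ⟨⟨C, x, hx, hx0⟩, hC, huniq⟩ := (Nat.card_eq_two_iff' o).1 hχ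
  have hxC : ConjClasses.mk x = C := ConjClasses.mem_carrier_iff_mk_eq.1 hx
  refine ⟨x, χ.2, ?_, fun g => ⟨fun hg => ?_, ?_⟩, hG⟩
  · rintro rfl
    exact hC (Subtype.ext hxC.symm)
  · by_cases h : g = 1
    · exact Or.inl h
    right
    have := huniq ⟨ConjClasses.mk g, g, ConjClasses.mem_carrier_mk, hg⟩ (fun e => h (by
      have e' : ConjClasses.mk g = ConjClasses.mk 1 := congrArg Subtype.val e
      exact isConj_one_left.1 (ConjClasses.mk_eq_mk_iff_isConj.1 e')))
    have e' : ConjClasses.mk g = C := congrArg Subtype.val this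
    exact ConjClasses.mk_eq_mk_iff_isConj.1 (hxC.trans e'.symm)
  · rintro (rfl | h)
    · exact h1
    · rw [← χ.2.isClassFunction.of_isConj h]; exact hx0

namespace Gag

variable {χ : G → ℂ} {x : G} (h : Gag χ x)
include h

theorem eq_zero {g : G} (h1 : g ≠ 1) (h2 : ¬ IsConj x g) : χ g = 0 := by
  by_contra e
  rcases (h.supp g).1 e with e | e
  exacts [h1 e, h2 e]

theorem sum_mul [Fintype G] {f : G → ℂ} (hf : IsClassFunction G f) :
    ∑ g, f g * conj (χ g) = f 1 * χ 1 +
      ((Subgroup.centralizer ({x} : Set G)).index : ℂ) * (f x * conj (χ x)) := by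
  classical
  have hc : IsClassFunction G (fun g => f g * conj (χ g)) := hf.mul h.irr.isClassFunction.conj
  rw [← hc.sum_filter_isConj x, ← Finset.add_sum_erase _ _ (Finset.mem_univ (1 : G)),
    h.irr.isCharacter.conj_apply_one]
  congr 1
  symm
  refine Finset.sum_subset (fun g hg => ?_) (fun g h1 h2 => ?_)
  · simp only [Finset.mem_filter, Finset.mem_univ, true_and] at hg
    refine Finset.mem_erase.2 ⟨?_, Finset.mem_univ _⟩
    rintro rfl
    exact h.ne (isConj_one_left.1 hg)
  · simp only [Finset.mem_filter, Finset.mem_univ, true_and] at h2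
    rw [h.eq_zero (Finset.mem_erase.1 h1).1 h2, map_zero, mul_zero]

theorem ne_one : χ ≠ fun _ => 1 := by
  intro e
  haveI := Fintype.ofFinite G
  have h1 := h.sum_mul (f := fun _ => 1) (isClassFunction_const 1)
  subst e
  simp only [map_one, mul_one, Finset.sum_const, Finset.card_univ, nsmul_eq_mul] at h1
  have h2 : Nat.card G = 1 + (Subgroup.centralizer ({x} : Set G)).index := by
    rw [Nat.card_eq_fintype_card]; exact_mod_cast h1
  have h3 := (Subgroup.centralizer ({x} : Set G)).index_dvd_card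
  rw [h2] at h3
  have h4 := Nat.le_of_dvd one_pos ((Nat.dvd_add_left dvd_rfl).1 h3)
  have := h.big
  omega

theorem index_mul : ((Subgroup.centralizer ({x} : Set G)).index : ℂ) * conj (χ x) = - χ 1 := by
  haveI := Fintype.ofFinite G
  have h1 := h.sum_mul (f := fun _ => 1) (isClassFunction_const 1)
  rw [← card_mul_classInner, isIrrCharacter_one.classInner_of_ne h.irr h.ne_one.symm] at h1
  linear_combination -h1

theorem index_mul' : ((Subgroup.centralizer ({x} : Set G)).index : ℂ) * χ x = - χ 1 := by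
  have h1 := congrArg conj h.index_mul
  simpa [h.irr.isCharacter.conj_apply_one] using h1

theorem card_mul_inner [Fintype G] {f : G → ℂ} (hf : IsClassFunction G f) :
    Nat.card G * classInner f χ = χ 1 * (f 1 - f x) := by
  rw [card_mul_classInner, h.sum_mul hf]
  linear_combination f x * h.index_mul

theorem apply_eq {ψ : G → ℂ} (hψ : IsIrrCharacter G ψ) (hne : ψ ≠ χ) : ψ x = ψ 1 := by
  haveI := Fintype.ofFinite G
  have h1 := h.card_mul_inner hψ.isClassFunction
  rw [hψ.classInner_of_ne h.irr hne, mul_zero] at h1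
  have := (mul_eq_zero.1 h1.symm).resolve_left h.irr.apply_one_ne_zero
  linear_combination -this

theorem card_eq {d : ℕ} (hd : χ 1 = d) :
    (Subgroup.centralizer ({x} : Set G)).index * Nat.card G =
      d ^ 2 * ((Subgroup.centralizer ({x} : Set G)).index + 1) := by
  haveI := Fintype.ofFinite G
  have h1 := h.card_mul_inner h.irr.isClassFunction
  rw [h.irr.classInner_self] at h1
  have h2 := h.index_mul'
  rw [hd] at h1 h2
  have : (((Subgroup.centralizer ({x} : Set G)).index * Nat.card G : ℕ) : ℂ) =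
      ((d ^ 2 * ((Subgroup.centralizer ({x} : Set G)).index + 1) : ℕ) : ℂ) := by
    push_cast
    linear_combination ((Subgroup.centralizer ({x} : Set G)).index : ℂ) * h1 - d * h2
  exact_mod_cast this

theorem faithful {g : G} (hg : χ g = χ 1) : g = 1 := by
  rcases (h.supp g).1 (by rw [hg]; exact h.irr.apply_one_ne_zero) with e | e
  · exact e
  have h1 := h.index_mul'
  rw [h.irr.isClassFunction.of_isConj e, hg] at h1
  have h2 : (((Subgroup.centralizer ({x} : Set G)).index + 1 : ℕ) : ℂ) * χ 1 = 0 := by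
    push_cast; linear_combination h1
  exact absurd ((mul_eq_zero.1 h2).resolve_right h.irr.apply_one_ne_zero)
    (Nat.cast_ne_zero.2 (Nat.succ_ne_zero _))

theorem ker_eq_bot : charKer χ = ⊥ :=
  eq_bot_iff.2 fun _ hg => h.faithful (apply_of_mem_charKer hg)

theorem ne_zero_iff (g : G) :
    χ g ≠ 0 ↔ ∀ ψ, IsIrrCharacter G ψ → ψ ≠ χ → g ∈ charKer ψ := by
  classical
  constructor
  · intro hg ψ hψ hne
    rcases (h.supp g).1 hg with rfl | e
    · exact one_mem _
    · rw [hψ.isCharacter.mem_charKer, ← hψ.isClassFunction.of_isConj e, h.apply_eq hψ hne]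
  · intro hg h0
    have g1 : g ≠ 1 := by
      rintro rfl
      exact h.irr.apply_one_ne_zero h0
    have h1 := sum_irr_degree_mul g1
    have h2 := sum_irr_degree_sq (G := G)
    rw [← Finset.add_sum_erase _ _ (Finset.mem_univ (⟨χ, h.irr⟩ : IrrCharacter G))] at h1 h2
    rw [Finset.sum_congr rfl (g := fun ψ : IrrCharacter G => (ψ : G → ℂ) 1 ^ 2) fun ψ hψ => by
      rw [apply_of_mem_charKer (hg ψ ψ.2 fun e => (Finset.mem_erase.1 hψ).1 (Subtype.ext e)),
        sq]] at h1
    obtain ⟨d, hd0, hd⟩ := h.irr.exists_degree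
    have h3 := h.card_eq hd
    have h4 : ((d ^ 2 : ℕ) : ℂ) = Nat.card G := by
      change χ 1 * χ g + _ = 0 at h1
      change χ 1 ^ 2 + _ = _ at h2
      rw [h0] at h1
      push_cast
      rw [← hd]
      linear_combination h2 - h1
    have h5 : d ^ 2 = Nat.card G := by exact_mod_cast h4
    rw [← h5] at h3
    have : 0 < d ^ 2 := by positivity
    nlinarith

/-- The support of `χ` as a subgroup. -/
def sub : Subgroup G where
  carrier := {g | χ g ≠ 0}
  one_mem' := h.irr.apply_one_ne_zero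
  mul_mem' := fun {a b} ha hb => (h.ne_zero_iff _).2 fun ψ h1 h2 =>
    mul_mem ((h.ne_zero_iff _).1 ha ψ h1 h2) ((h.ne_zero_iff _).1 hb ψ h1 h2)
  inv_mem' := fun {a} ha => (h.ne_zero_iff _).2 fun ψ h1 h2 =>
    inv_mem ((h.ne_zero_iff _).1 ha ψ h1 h2)

variable {N : Subgroup G} (hN : ∀ g, g ∈ N ↔ χ g ≠ 0)
include hN

theorem normal : N.Normal := ⟨fun n hn g => by
  rw [hN] at hn ⊢
  rwa [h.irr.isClassFunction n g]⟩

theorem mem : x ∈ N := (hN x).2 ((h.supp x).2 (Or.inr (IsConj.refl x)))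

theorem ne_bot : N ≠ ⊥ := fun e => h.ne (by simpa [e] using h.mem hN)

theorem isConj {y : G} (hy : y ∈ N) (h1 : y ≠ 1) : IsConj x y :=
  ((h.supp y).1 ((hN y).1 hy)).resolve_left h1

theorem le_ker {ψ : G → ℂ} (hψ : IsIrrCharacter G ψ) (hne : ψ ≠ χ) : N ≤ charKer ψ :=
  fun g hg => (h.ne_zero_iff g).1 ((hN g).1 hg) ψ hψ hne

theorem eq_of_not_le {ψ : G → ℂ} (hψ : IsIrrCharacter G ψ) (hne : ¬ N ≤ charKer ψ) : ψ = χ := by
  by_contra e
  exact hne (h.le_ker hN hψ e)

theorem not_le_ker : ¬ N ≤ charKer χ := by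
  rw [h.ker_eq_bot, le_bot_iff]; exact h.ne_bot hN

theorem min (K : Subgroup G) [K.Normal] (hK : K ≠ ⊥) : N ≤ K :=
  le_of_forall_le_charKer fun ψ hψ hle => h.le_ker hN hψ (by
    rintro rfl
    rw [h.ker_eq_bot, le_bot_iff] at hle
    exact hK hle)

theorem card_N : Nat.card N = (Subgroup.centralizer ({x} : Set G)).index + 1 := by
  classical
  rw [← card_isConj_eq_index]
  have : (N : Set G) = insert 1 {y | IsConj x y} := by
    ext g
    simp only [SetLike.mem_coe, hN, h.supp, Set.mem_insert_iff, Set.mem_setOf_eq]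
  change Nat.card (N : Set G) = Nat.card ({y | IsConj x y} : Set G) + 1
  rw [Nat.card_coe_set_eq, Nat.card_coe_set_eq, this, Set.ncard_insert_of_notMem]
  intro e
  exact h.ne (isConj_one_left.1 e)

theorem cam {y : G} (hy : y ∉ N) {n : G} (hn : n ∈ N) : IsConj y (n * y) := by
  refine (isConj_iff_forall_irr _ _).2 fun ψ => ?_
  by_cases e : (ψ : G → ℂ) = χ
  · have h1 : χ y = 0 := by simpa [hN] using hy
    have h2 : χ (n * y) = 0 := by
      have : n * y ∉ N := fun e => hy (by simpa using mul_mem (inv_mem hn) e)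
      simpa [hN] using this
    rw [e, h1, h2]
  · exact (apply_mul_of_mem_charKer (h.le_ker hN ψ.2 e hn) y).symm

theorem card_centralizer [N.Normal] {y : G} (hy : y ∉ N) :
    Nat.card (Subgroup.centralizer ({y} : Set G)) =
      Nat.card (Subgroup.centralizer ({(y : G ⧸ N)} : Set (G ⧸ N))) := by
  classical
  have h1 := column_orthogonality_of_isConj (IsConj.refl y)
  have h2 := column_orthogonality_of_isConj (IsConj.refl (y : G ⧸ N))
  rw [← sum_irr_filter_le_charKer N (fun φ => φ y * conj (φ y)), Finset.sum_subset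
    (Finset.subset_univ _) (fun ψ _ hψ => by
      have e := h.eq_of_not_le hN ψ.2 (by simpa using hψ)
      have h1 : χ y = 0 := by simpa [hN] using hy
      rw [e, h1, zero_mul]), h1] at h2
  exact_mod_cast h2

theorem exists_prime : ∃ p : ℕ, p.Prime ∧ orderOf x = p ∧ ∀ y ∈ N, y ^ p = 1 := by
  obtain ⟨p, hp, hd⟩ := Nat.exists_prime_and_dvd (n := orderOf x) (by simpa using h.ne)
  obtain ⟨k, hk⟩ := hd
  have h0 : 0 < orderOf x := orderOf_pos x
  have hk0 : k ≠ 0 := by rintro rfl; omega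
  have h1 : orderOf (x ^ k) = p := by
    rw [orderOf_pow' _ hk0, hk, Nat.gcd_mul_left_left, Nat.mul_div_cancel _ (Nat.pos_of_ne_zero hk0)]
  have h2 : x ^ k ≠ 1 := by
    intro e; rw [e, orderOf_one] at h1; exact hp.one_lt.ne h1
  have h3 : ∀ y, IsConj x y → orderOf y = orderOf x := fun y hy => by
    obtain ⟨c, rfl⟩ := isConj_iff.1 hy
    exact orderOf_conj' x c
  have h4 := h3 _ (h.isConj hN (pow_mem (h.mem hN) k) h2)
  refine ⟨p, hp, h4.symm.trans h1, fun y hy => ?_⟩
  by_cases e : y = 1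
  · rw [e, one_pow]
  · rw [← h1, h4, ← h3 y (h.isConj hN hy e), pow_orderOf_eq_one]

variable {p : ℕ} [hp : Fact p.Prime] (hNp : IsPGroup p N)
include hNp

theorem comm : ∀ a ∈ N, ∀ b ∈ N, a * b = b * a := by
  haveI := h.normal hN
  haveI : Nontrivial N := (Subgroup.nontrivial_iff_ne_bot N).2 (h.ne_bot hN)
  have h1 := h.min hN ((Subgroup.center N).map N.subtype) (by
    intro e
    rw [Subgroup.map_eq_bot_iff_of_injective _ N.subtype_injective] at e
    exact (Subgroup.nontrivial_iff_ne_bot _).1 hNp.center_nontrivial e)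
  intro a ha b hb
  obtain ⟨c, hc, rfl⟩ := h1 hb
  exact congrArg Subtype.val (Subgroup.mem_center_iff.1 hc ⟨a, ha⟩)

theorem coprime_index : (Subgroup.centralizer ({x} : Set G)).index.Coprime p := by
  obtain ⟨k, hk⟩ := hNp.exists_card_eq
  have h1 := h.card_N hN
  have hk0 : k ≠ 0 := by
    rintro rfl
    exact h.ne_bot hN (Subgroup.card_eq_one.1 hk)
  rw [Nat.coprime_comm, hp.out.coprime_iff_not_dvd]
  intro e
  have : p ∣ (Subgroup.centralizer ({x} : Set G)).index + 1 := by
    rw [← h1, hk]; exact dvd_pow_self p hk0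
  exact hp.out.one_lt.ne' (Nat.dvd_one.1 ((Nat.dvd_add_right e).1 this))

theorem isPGroup_centralizer : IsPGroup p (Subgroup.centralizer ({x} : Set G)) := by
  obtain ⟨d, hd0, hd⟩ := h.irr.exists_degree
  obtain ⟨k, hk⟩ := hNp.exists_card_eq
  have h1 := h.card_eq hd
  rw [← h.card_N hN, hk] at h1
  refine isPGroup_of_prime_order fun y hy hq => ?_
  by_contra hne
  generalize hqq : orderOf y = q at hq hne
  haveI := Fact.mk hq
  obtain ⟨Q⟩ : Nonempty (Sylow q G) := inferInstance
  obtain ⟨e, he⟩ := h.irr.isCharacter.exists_nat_of_vanishing Q fun g hg g1 => by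
    by_contra e
    have hgN := (hN g).2 e
    have := IsPGroup.disjoint_of_ne q p hne _ _ Q.isPGroup' hNp
    exact g1 (Subgroup.disjoint_def.1 this hg hgN)
  rw [hd, Q.card_eq_multiplicity] at he
  have he' : d = q ^ (Nat.card G).factorization q * e := by exact_mod_cast he
  have c0 : (Subgroup.centralizer ({x} : Set G)).index ≠ 0 := Subgroup.index_ne_zero_of_finite
  have G0 : Nat.card G ≠ 0 := Nat.card_pos.ne'
  have C0 : Nat.card (Subgroup.centralizer ({x} : Set G)) ≠ 0 := Nat.card_pos.ne'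
  have e0 : e ≠ 0 := by rintro rfl; simp at he'; omega
  have h2 := congrArg (fun n => n.factorization q) h1
  have h3 := congrArg (fun n => n.factorization q) (index_centralizer_mul_card x)
  have h4 := congrArg (fun n => n.factorization q) he'
  have h5 : 1 ≤ (Nat.card (Subgroup.centralizer ({x} : Set G))).factorization q :=
    (hq.dvd_iff_one_le_factorization C0).1 (hqq ▸ Subgroup.orderOf_dvd_natCard _ hy)
  simp only [Nat.factorization_mul c0 G0, Nat.factorization_mul c0 C0,
    Nat.factorization_mul (pow_ne_zero 2 hd0.ne') (pow_ne_zero k hp.out.ne_zero),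
    Nat.factorization_mul (pow_ne_zero _ hq.ne_zero) e0, Nat.factorization_pow,
    Finsupp.add_apply, Finsupp.smul_apply, smul_eq_mul, hq.factorization_self,
    hp.out.factorization, Finsupp.single_eq_of_ne hne] at h2 h3 h4
  omega

theorem index_inertia [N.Normal] {μ : N → ℂ} (hμ : IsIrrCharacter N μ) (h1 : μ ≠ fun _ => 1) :
    ((NEmb.ofNormal N).inertia μ).index = (Subgroup.centralizer ({x} : Set G)).index := by
  classical
  haveI := Fintype.ofFinite G
  haveI := Fintype.ofFinite N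
  have key : ∀ ν : N → ℂ, IsIrrCharacter N ν → ν ≠ (fun _ => 1) →
      classInner (fun n => χ ((NEmb.ofNormal N).f n)) ν ≠ 0 := fun ν hν hν1 => by
    obtain ⟨ψ, hψ, h2⟩ := exists_irr_over_hom N.subtype N.subtype_injective hν
    have : ψ = χ := h.eq_of_not_le hN hψ fun hle => by
      have e : (fun n : N => ψ (N.subtype n)) = ψ 1 • fun _ => (1 : ℂ) := by
        ext n; simpa using apply_of_mem_charKer (hle n.2)
      rw [e, classInner_smul_left, isIrrCharacter_one.classInner_of_ne hν hν1.symm, mul_zero] at h2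
      exact h2 rfl
    exact this ▸ h2
  have h2 : (NEmb.ofNormal N).orbit μ =
      (Finset.univ.erase (irrOne N)).map ⟨Subtype.val, Subtype.val_injective⟩ := by
    ext φ
    simp only [NEmb.mem_orbit, Finset.mem_map, Finset.mem_erase, Finset.mem_univ, and_true,
      Function.Embedding.coeFn_mk]
    constructor
    · rintro ⟨g, rfl⟩
      refine ⟨⟨_, (NEmb.ofNormal N).isIrr_cj hμ g⟩, fun e => h1 ?_, rfl⟩
      have e' : (NEmb.ofNormal N).cj μ g = fun _ => 1 := congrArg Subtype.val e
      ext n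
      have := congrFun e' ((NEmb.ofNormal N).act g⁻¹ n)
      rwa [NEmb.cj_apply, NEmb.act_act_inv] at this
    · rintro ⟨ν, hν, rfl⟩
      exact (NEmb.ofNormal N).exists_cj_eq_of_constituents h.irr hμ ν.2 (key μ hμ h1)
        (key ν ν.2 fun e => hν (Subtype.ext e))
  have h3 := card_irr_of_comm (G := N) fun a b => Subtype.ext (h.comm hN hNp a a.2 b b.2)
  rw [← NEmb.card_orbit, h2, Finset.card_map, Finset.card_erase_of_mem (Finset.mem_univ _),
    Finset.card_univ, ← Nat.card_eq_fintype_card, h3, h.card_N hN, Nat.add_sub_cancel]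

end Gag

theorem exists_sylow_of_index_eq {p : ℕ} [Fact p.Prime] {A B : Subgroup G} (hA : IsPGroup p A)
    (hi : A.index.Coprime p) (h : B.index = A.index) : ∃ P : Sylow p G, B = P := by
  have h1 : Nat.card B = Nat.card A := by
    have h2 := A.card_mul_index
    rw [← B.card_mul_index, h] at h2
    exact (Nat.eq_of_mul_eq_mul_right (Nat.pos_of_ne_zero A.index_ne_zero_of_finite) h2).symm
  obtain ⟨k, hk⟩ := hA.exists_card_eq
  exact ⟨(IsPGroup.of_card (h1.trans hk)).toSylow (by
    rw [h]; exact (Fact.out : p.Prime).coprime_iff_not_dvd.1 hi.symm), rfl⟩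

/-- The group-theoretic consequences. -/
structure GagG {G : Type*} [Group G] (N : Subgroup G) (p : ℕ) : Prop where
  normal : N.Normal
  ne_bot : N ≠ ⊥
  pg : IsPGroup p N
  comm : ∀ a ∈ N, ∀ b ∈ N, a * b = b * a
  min : ∀ K : Subgroup G, K.Normal → K ≠ ⊥ → N ≤ K
  cj : ∀ x ∈ N, ∀ y ∈ N, x ≠ 1 → y ≠ 1 → IsConj x y
  cam : ∀ y, y ∉ N → ∀ n ∈ N, IsConj y (n * y)
  cent : ∀ x ∈ N, x ≠ 1 → IsPGroup p (Subgroup.centralizer ({x} : Set G))
  index : ∀ x ∈ N, x ≠ 1 → (Subgroup.centralizer ({x} : Set G)).index + 1 = Nat.card N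
  cop : ∀ x ∈ N, x ≠ 1 → (Subgroup.centralizer ({x} : Set G)).index.Coprime p
  cd : ∀ y, y ∉ N → Nat.card (Subgroup.centralizer ({y} : Set G)) * Nat.card N ∣ Nat.card G
  big : 2 < Nat.card G

theorem Gag.gagG {χ : G → ℂ} {x : G} (h : Gag χ x) {N : Subgroup G}
    (hN : ∀ g, g ∈ N ↔ χ g ≠ 0) {p : ℕ} [hp : Fact p.Prime] (hNp : IsPGroup p N) : GagG N p where
  normal := h.normal hN
  ne_bot := h.ne_bot hN
  pg := hNp
  comm := h.comm hN hNp
  min K _ hK := h.min hN K hK
  cj _ ha _ hb a1 b1 := (h.isConj hN ha a1).symm.trans (h.isConj hN hb b1)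
  cam _ hy _ hn := h.cam hN hy hn
  cent y hy y1 := by
    obtain ⟨k, hk⟩ := (h.isPGroup_centralizer hN hNp).exists_card_eq
    exact IsPGroup.of_card ((card_centralizer_of_isConj (h.isConj hN hy y1)).symm.trans hk)
  index y hy y1 := by rw [← index_centralizer_of_isConj (h.isConj hN hy y1), h.card_N hN]
  cop y hy y1 := by
    rw [← index_centralizer_of_isConj (h.isConj hN hy y1)]; exact h.coprime_index hN hNp
  cd y hy := by
    haveI := h.normal hN
    rw [h.card_centralizer hN hy, Subgroup.card_eq_card_quotient_mul_card_subgroup N]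
    exact Nat.mul_dvd_mul_right (Subgroup.card_subgroup_dvd_card _) _
  big := h.big

theorem Gag.exists_gagG {χ : G → ℂ} {x : G} (h : Gag χ x) :
    ∃ p : ℕ, p.Prime ∧ GagG h.sub p ∧ ∀ y ∈ h.sub, y ^ p = 1 := by
  obtain ⟨p, hp, -, h1⟩ := h.exists_prime (N := h.sub) fun _ => Iff.rfl
  haveI := Fact.mk hp
  exact ⟨p, hp, h.gagG (fun _ => Iff.rfl) fun y => ⟨1, Subtype.ext (by simpa using h1 y y.2)⟩, h1⟩

end Cfsg.Agent.H8
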