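import Mathlib
import Cfsg.Agent.H8.Gagola
import Cfsg.Agent.H2.Subnormal
import Cfsg.Agent.H11.Invol
import Cfsg.Agent.H26.Frob2
import Cfsg.Agent.H26.Frob
import Cfsg.Agent.H4.Zass2

/-! Gagola's theorem, the group-theoretic part. -/

set_option autoImplicit false

namespace Cfsg.Agent.H8

open Cfsg Cfsg.Agent.H4 Subgroup
open scoped Pointwise commutatorElement

variable {G : Type*} [Group G] [Finite G]

theorem index_centralizer_le_of_comm {Z : Subgroup G} {y : G} (h : ∀ g, ⁅y, g⁆ ∈ Z) :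
    (centralizer ({y} : Set G)).index ≤ Nat.card Z := by
  rw [← card_isConj_eq_index]
  refine Nat.card_le_card_of_injective (fun z : {z : G // IsConj y z} =>
    (⟨y * (z : G)⁻¹, by
      obtain ⟨c, hc⟩ := isConj_iff.1 z.2
      rw [← hc]
      simpa [commutatorElement_def, mul_assoc] using h c⟩ : Z)) fun a b hab => ?_
  exact Subtype.ext (by simpa using congrArg Subtype.val hab)

theorem exists_odd_inverted {t : G} (ht : t * t = 1) (h : t ∉ pCore 2 G) :
    ∃ y : G, y ≠ 1 ∧ Odd (orderOf y) ∧ t * y * t⁻¹ = y⁻¹ := by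
  by_contra! hc
  refine h (H2.le_pCore_of_forall_conj (A := zpowers t) (fun g => ?_) (mem_zpowers t))
  have hu : g * t * g⁻¹ * (g * t * g⁻¹) = 1 := by
    rw [show g * t * g⁻¹ * (g * t * g⁻¹) = g * (t * t) * g⁻¹ by group, ht]; group
  have hle : (zpowers t ⊔ MulAut.conj g • zpowers t : Subgroup G) ≤ closure {t, g * t * g⁻¹} := by
    refine sup_le (zpowers_le.2 (subset_closure (by simp))) fun z hz => ?_
    obtain ⟨k, hk⟩ := mem_zpowers_iff.1 (H11.mem_conj_smul.1 hz)
    have : z = (g * t * g⁻¹) ^ k := by rw [conj_zpow, hk]; group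
    rw [this]
    exact zpow_mem (subset_closure (by simp)) k
  refine IsPGroup.to_le ?_ hle
  generalize g * t * g⁻¹ = u at hu
  obtain ⟨k, m, hm, hkm⟩ := Nat.exists_eq_two_pow_mul_odd (orderOf_pos (t * u)).ne'
  have hinv := H11.invol_inverts_left ht hu
  have h1 : (t * u) ^ 2 ^ k = 1 := by
    by_contra e
    refine hc _ e (hm.of_dvd_nat (orderOf_dvd_of_pow_eq_one ?_)) ?_
    · rw [← pow_mul, ← hkm, pow_orderOf_eq_one]
    · rw [← conj_pow, hinv, inv_pow]
  rintro ⟨z, hz⟩
  obtain ⟨j, hj | hj⟩ := (H11.mem_closure_pair_iff ht hu).1 hz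
  · refine ⟨k, Subtype.ext ?_⟩
    change z ^ 2 ^ k = 1
    rw [hj, ← zpow_natCast, ← zpow_mul, mul_comm j, zpow_mul, zpow_natCast, h1, one_zpow]
  · refine ⟨1, Subtype.ext ?_⟩
    change z ^ 2 ^ 1 = 1
    have h2 := H11.mul_zpow_of_inv hinv j
    rw [hj, pow_one, sq]
    nth_rewrite 1 [h2]
    rw [mul_assoc, ← mul_assoc t t, ht, one_mul, zpow_neg, inv_mul_cancel]

namespace GagG

variable {N : Subgroup G} {p : ℕ} [hp : Fact p.Prime] (h : GagG N p)
include h

theorem card_le_index (P : Sylow p G) {y : P} (hy : (y : G) ∉ N) :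
    Nat.card N ≤ (centralizer ({y} : Set P)).index := by
  have h1 : Nat.card (centralizer ({y} : Set P)) ∣ Nat.card (centralizer ({(y : G)} : Set G)) := by
    rw [← card_map_of_injective (P : Subgroup G).subtype_injective]
    refine card_dvd_of_le ?_
    rintro _ ⟨c, hc, rfl⟩
    exact mem_centralizer_singleton_iff.2
      (congrArg Subtype.val (mem_centralizer_singleton_iff.1 hc))
  have h2 := (Nat.mul_dvd_mul_right h1 _).trans (h.cd y hy)
  obtain ⟨a, ha⟩ := (P.isPGroup'.to_subgroup (centralizer ({y} : Set P))).exists_card_eq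
  obtain ⟨b, hb⟩ := h.pg.exists_card_eq
  have h3 : Nat.card (centralizer ({y} : Set P)) * Nat.card N ∣ Nat.card P := by
    rw [ha, hb, ← pow_add] at h2 ⊢
    rw [P.card_eq_multiplicity]
    exact pow_dvd_pow p ((hp.out.pow_dvd_iff_le_factorization Nat.card_pos.ne').1 h2)
  rw [← (centralizer ({y} : Set P)).card_mul_index] at h3
  exact Nat.le_of_dvd (Nat.pos_of_ne_zero index_ne_zero_of_finite)
    (Nat.dvd_of_mul_dvd_mul_left Nat.card_pos h3)

theorem le_sylow (P : Sylow p G) : N ≤ P := by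
  haveI := h.normal
  exact h.pg.le_sylow_of_normal P

theorem one_lt_card : 1 < Nat.card N := one_lt_card_iff_ne_bot N |>.2 h.ne_bot

theorem center_le (P : Sylow p G) : (center (P : Subgroup G)).map (P : Subgroup G).subtype ≤ N := by
  rintro _ ⟨y, hy, rfl⟩
  by_contra e
  have h1 := h.card_le_index P e
  have h2 := index_centralizer_le_of_comm (Z := ⊥) (y := y) fun g => by
    rw [mem_bot, commutatorElement_eq_one_iff_mul_comm]; exact (mem_center_iff.1 hy g).symm
  have h3 := h.one_lt_card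
  rw [card_bot] at h2
  omega

theorem exists_ucs (P : Sylow p G) :
    ∃ i, Subgroup.upperCentralSeries (P : Subgroup G) i = N.subgroupOf (P : Subgroup G) := by
  classical
  obtain ⟨n, hn⟩ := P.isPGroup'.isNilpotent.nilpotent'
  by_cases e : ∀ i, Subgroup.upperCentralSeries (P : Subgroup G) i ≤ N.subgroupOf (P : Subgroup G)
  · exact ⟨n, le_antisymm (e n) (hn ▸ le_top)⟩
  push Not at e
  obtain ⟨i, hi⟩ : ∃ i, Nat.find e = i + 1 := Nat.exists_eq_succ_of_ne_zero fun e0 => by
    have := Nat.find_spec e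
    rw [e0] at this
    exact this bot_le
  have h1 := Nat.find_spec e
  have h2 := Nat.find_min e (m := i) (by omega)
  rw [not_not] at h2
  rw [hi] at h1
  obtain ⟨y, hy, hyN⟩ := SetLike.not_le_iff_exists.1 h1
  refine ⟨i, eq_of_le_of_card_ge h2 ?_⟩
  rw [H1.card_subgroupOf_of_le (h.le_sylow P)]
  exact (h.card_le_index P hyN).trans
    (index_centralizer_le_of_comm (Subgroup.mem_upperCentralSeries_succ_iff.1 hy))

theorem exists_ne_one : ∃ x ∈ N, x ≠ 1 := by
  by_contra! e
  exact h.ne_bot (eq_bot_iff.2 e)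

theorem isPGroup_centralizer : IsPGroup p (centralizer (N : Set G)) := by
  obtain ⟨x, hx, x1⟩ := h.exists_ne_one
  exact (h.cent x hx x1).to_le (centralizer_le (by simpa using hx))

theorem le_center_of_normal {K : Subgroup G} [K.Normal] (hK : IsPGroup p K) (h1 : K ≠ ⊥) :
    N ≤ (center K).map K.subtype := by
  haveI : Nontrivial K := (nontrivial_iff_ne_bot K).2 h1
  refine h.min _ inferInstance fun e => ?_
  rw [map_eq_bot_iff_of_injective _ K.subtype_injective] at e
  exact (nontrivial_iff_ne_bot _).1 hK.center_nontrivial e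

theorem center_eq_iff (P : Sylow p G) :
    (center (P : Subgroup G)).map (P : Subgroup G).subtype = N ↔ (P : Subgroup G).Normal := by
  haveI := h.normal
  constructor
  · intro e
    have h1 : (P : Subgroup G) ≤ centralizer (N : Set G) := fun y hy n hn => by
      rw [← e] at hn
      obtain ⟨c, hc, rfl⟩ := hn
      exact (congrArg Subtype.val (mem_center_iff.1 hc ⟨y, hy⟩)).symm
    rw [← P.is_maximal' h.isPGroup_centralizer h1]
    infer_instance
  · intro e
    exact le_antisymm (h.center_le P) (h.le_center_of_normal P.isPGroup'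
      fun e => h.ne_bot (le_bot_iff.1 (e ▸ h.le_sylow P)))

theorem centralizer_eq : centralizer (N : Set G) = pCore p G := by
  haveI := h.normal
  refine le_antisymm (H1.le_pCore h.isPGroup_centralizer) fun y hy n hn => ?_
  obtain ⟨c, hc, rfl⟩ := h.le_center_of_normal (H1.isPGroup_pCore p G)
    (fun e => h.ne_bot (le_bot_iff.1 (e ▸ H1.le_pCore h.pg))) hn
  exact (congrArg Subtype.val (mem_center_iff.1 hc ⟨y, hy⟩)).symm

theorem fpf {y : G} (hy : ∀ k, y ^ p ^ k ≠ 1) : N ⊓ centralizer {y} = ⊥ := by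
  refine eq_bot_iff.2 fun x hx => ?_
  by_contra x1
  obtain ⟨k, hk⟩ := h.cent x hx.1 x1
    ⟨y, mem_centralizer_singleton_iff.2 (mem_centralizer_singleton_iff.1 hx.2).symm⟩
  exact hy k (congrArg Subtype.val hk)

theorem fpf_of_coprime {y : G} (y1 : y ≠ 1) (hy : (orderOf y).Coprime p) :
    N ⊓ centralizer {y} = ⊥ := h.fpf fun k hk =>
  y1 (orderOf_eq_one_iff.1 ((hy.pow_right k).eq_one_of_dvd (orderOf_dvd_of_pow_eq_one hk)))

theorem not_fpf {y : G} {k : ℕ} (hy : y ^ p ^ k = 1) : N ⊓ centralizer {y} ≠ ⊥ := by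
  intro e
  haveI := h.normal
  have hY : IsPGroup p (zpowers y) := by
    obtain ⟨j, -, hj⟩ := (Nat.dvd_prime_pow hp.out).1 (orderOf_dvd_of_pow_eq_one hy)
    exact H11.isPGroup_zpowers_of_orderOf hj
  have h1 : IsPGroup p (N ⊔ zpowers y : Subgroup G) := IsPGroup.to_sup_of_normal_left h.pg hY
  obtain ⟨P, hP⟩ := h1.exists_le_sylow
  haveI : Nontrivial P := (nontrivial_iff_ne_bot _).2
    fun e => h.ne_bot (le_bot_iff.1 (e ▸ h.le_sylow P))
  haveI := P.isPGroup'.center_nontrivial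
  obtain ⟨z, z1⟩ := exists_ne (1 : center (P : Subgroup G))
  have h2 : ((z : P) : G) ∈ N ⊓ centralizer {y} := ⟨h.center_le P ⟨z, z.2, rfl⟩,
    mem_centralizer_singleton_iff.2 (congrArg Subtype.val
      (mem_center_iff.1 z.2 ⟨y, hP (mem_sup_right (mem_zpowers y))⟩)).symm⟩
  rw [e] at h2
  exact z1 (Subtype.ext (Subtype.ext h2))

theorem ne_top : N ≠ ⊤ := by
  rintro rfl
  obtain ⟨x, hx, x1⟩ := h.exists_ne_one
  have h1 := h.index x hx x1
  have h2 : centralizer ({x} : Set G) = ⊤ :=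
    eq_top_iff.2 fun g _ => mem_centralizer_singleton_iff.2 (h.comm g trivial x trivial)
  rw [h2, index_top, card_top] at h1
  have := h.big
  omega

theorem not_dvd_index_of_odd (hC : centralizer (N : Set G) ≤ N) (hp2 : p ≠ 2) : ¬ p ∣ N.index := by
  intro hd
  haveI := h.normal
  obtain ⟨x, hx, x1⟩ := h.exists_ne_one
  obtain ⟨b, hb⟩ := h.pg.exists_card_eq
  have hodd : Odd (Nat.card N) := hb ▸ (hp.out.odd_of_ne_two hp2).pow
  obtain ⟨t, ht⟩ := H11.exists_invol_of_even' (G := G) (by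
    have h1 : Even (centralizer ({x} : Set G)).index := by
      have := h.index x hx x1
      rw [← this, Nat.odd_add_one, Nat.not_odd_iff_even] at hodd
      exact hodd
    exact (even_iff_two_dvd.2 ((even_iff_two_dvd.1 h1).trans (index_dvd_card _))))
  have hinv : ∀ s : G, orderOf s = 2 → ∀ n ∈ N, s * n * s⁻¹ = n⁻¹ := fun s hs n hn =>
    H1.conj_eq_inv_of_fpf (le_normalizer_of_normal (mem_top s)) (H11.mul_self_of_orderOf_two hs)
      (h.fpf_of_coprime (H11.ne_one_of_orderOf_two hs)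
        (hs ▸ (Nat.coprime_primes Nat.prime_two hp.out).2 hp2.symm)) hn
  have hf : N ⊓ centralizer {t} = ⊥ := h.fpf_of_coprime (H11.ne_one_of_orderOf_two ht)
    (ht ▸ (Nat.coprime_primes Nat.prime_two hp.out).2 hp2.symm)
  have hdec : ∀ g : G, ∃ m ∈ N, ∃ k ∈ centralizer ({t} : Set G), g = m * k := fun g => by
    have h1 : g * t * g⁻¹ * t⁻¹ ∈ N := hC fun n hn => by
      have h2 := hinv _ ((H11.orderOf_conj g t).trans ht) n⁻¹ (inv_mem hn)
      have h3 := hinv t ht n⁻¹ (inv_mem hn)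
      rw [inv_inv] at h2 h3
      calc n * (g * t * g⁻¹ * t⁻¹) = g * t * g⁻¹ * n⁻¹ * (g * t * g⁻¹)⁻¹ * (g * t * g⁻¹ * t⁻¹) := by
            rw [h2]
        _ = g * t * g⁻¹ * t⁻¹ * (t * n⁻¹ * t⁻¹) := by group
        _ = _ := by rw [h3]
    obtain ⟨m, hm, e⟩ := exists_eq_comm_of_fpf (le_normalizer_of_normal (mem_top t)) hf h1
    refine ⟨m, hm, m⁻¹ * g, mem_centralizer_singleton_iff.2 ?_, by group⟩
    calc m⁻¹ * g * t = m⁻¹ * (g * t * g⁻¹ * t⁻¹) * t * g := by group
      _ = _ := by rw [e]; group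
  have hcard : N.index ∣ Nat.card (centralizer ({t} : Set G)) := by
    refine card_dvd_of_surjective ((QuotientGroup.mk' N).comp (centralizer {t}).subtype) fun q => ?_
    obtain ⟨g, rfl⟩ := QuotientGroup.mk_surjective q
    obtain ⟨m, hm, k, hk, rfl⟩ := hdec g
    exact ⟨⟨k, hk⟩, by simp [(QuotientGroup.eq_one_iff m).2 hm]⟩
  obtain ⟨⟨g, hg⟩, ho⟩ := exists_prime_orderOf_dvd_card' p (hd.trans hcard)
  rw [orderOf_mk] at ho
  have g1 : g ≠ 1 := by
    rintro rfl
    exact hp.out.one_lt.ne (by rw [← ho, orderOf_one])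
  have gN : g ∉ N := fun e => g1 (by simpa [hf] using (show g ∈ N ⊓ centralizer {t} from ⟨e, hg⟩))
  refine h.not_fpf (y := g) (k := 1) (by rw [pow_one, ← ho, pow_orderOf_eq_one]) ?_
  let F : N → N := fun m => ⟨m * g * (m : G)⁻¹ * g⁻¹, by
    rw [mul_assoc, mul_assoc, ← mul_assoc g]
    exact mul_mem m.2 (h.normal.conj_mem _ (inv_mem m.2) g)⟩
  have hF : Function.Surjective F := fun n => by
    obtain ⟨c, hc⟩ := isConj_iff.1 (h.cam g gN n n.2)
    obtain ⟨m, hm, k, hk, rfl⟩ := hdec c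
    have h1 : k * g * k⁻¹ * g⁻¹ ∈ N ⊓ centralizer {t} := by
      refine mem_inf.2 ⟨?_, mul_mem (mul_mem (mul_mem hk hg) (inv_mem hk)) (inv_mem hg)⟩
      have : k * g * k⁻¹ * g⁻¹ = m⁻¹ * (m * k * g * (m * k)⁻¹) * m * g⁻¹ := by group
      rw [this, hc, show m⁻¹ * (n * g) * m * g⁻¹ = m⁻¹ * n * (g * m * g⁻¹) by group]
      exact mul_mem (mul_mem (inv_mem hm) n.2) (h.normal.conj_mem _ hm g)
    rw [hf, mem_bot, mul_inv_eq_one] at h1
    refine ⟨⟨m, hm⟩, Subtype.ext ?_⟩
    change m * g * m⁻¹ * g⁻¹ = n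
    rw [mul_inv_eq_iff_eq_mul, ← hc]
    nth_rewrite 1 [← h1]
    group
  have hI := Finite.injective_iff_surjective.2 hF
  refine eq_bot_iff.2 fun n hn => ?_
  have := hI (a₁ := ⟨n, hn.1⟩) (a₂ := 1) (Subtype.ext (by
    change n * g * n⁻¹ * g⁻¹ = 1 * g * 1⁻¹ * g⁻¹
    rw [mem_centralizer_singleton_iff.1 hn.2]; group))
  exact congrArg Subtype.val this

theorem not_dvd_index (hN : N = pCore p G) : ¬ p ∣ N.index := by
  have hC : centralizer (N : Set G) ≤ N := h.centralizer_eq.le.trans hN.ge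
  by_cases hp2 : p = 2
  swap
  · exact h.not_dvd_index_of_odd hC hp2
  subst hp2
  intro hd
  haveI := h.normal
  obtain ⟨t, ht⟩ := H11.exists_invol_of_even' (G := G ⧸ N) (even_iff_two_dvd.2 hd)
  have h0 : pCore 2 (G ⧸ N) = ⊥ := by
    subst hN
    exact H1.pCore_quotient_pCore 2
  obtain ⟨y, y1, hy, hty⟩ := exists_odd_inverted (H11.mul_self_of_orderOf_two ht)
    (by rw [h0]; exact H11.ne_one_of_orderOf_two ht)
  obtain ⟨t, rfl⟩ := QuotientGroup.mk_surjective t
  obtain ⟨y, rfl⟩ := QuotientGroup.mk_surjective y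
  have hf : N ⊓ centralizer {y⁻¹} = ⊥ := h.fpf fun k hk => y1 (by
    have h1 : (y : G ⧸ N) ^ 2 ^ k = 1 := by
      rw [inv_pow, inv_eq_one] at hk
      rw [← QuotientGroup.mk_pow, hk, QuotientGroup.mk_one]
    exact orderOf_eq_one_iff.1 ((hy.coprime_two_right.pow_right k).eq_one_of_dvd
      (orderOf_dvd_of_pow_eq_one h1)))
  have h1 : t * y * t⁻¹ * y ∈ N := by
    rw [← QuotientGroup.eq_one_iff]
    simp only [QuotientGroup.mk_mul, QuotientGroup.mk_inv, hty, inv_mul_cancel]
  obtain ⟨m, hm, e⟩ := exists_eq_comm_of_fpf (le_normalizer_of_normal (mem_top y⁻¹)) hf h1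
  have tN : t ∉ N := fun e => H11.ne_one_of_orderOf_two ht ((QuotientGroup.eq_one_iff t).2 e)
  have h2 : m⁻¹ * t * y * (m⁻¹ * t)⁻¹ = y⁻¹ := by
    calc m⁻¹ * t * y * (m⁻¹ * t)⁻¹ = m⁻¹ * (t * y * t⁻¹ * y) * y⁻¹ * m := by group
      _ = _ := by rw [e]; group
  have sN : m⁻¹ * t ∉ N := fun e => tN (by simpa using mul_mem hm e)
  have h3 : m⁻¹ * t * (m⁻¹ * t) ∈ N := by
    rw [← QuotientGroup.eq_one_iff]
    simp only [QuotientGroup.mk_mul, QuotientGroup.mk_inv, (QuotientGroup.eq_one_iff m).2 hm,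
      inv_one, one_mul]
    exact H11.mul_self_of_orderOf_two ht
  generalize m⁻¹ * t = s at h2 sN h3
  have h4 : s * s = 1 := by
    have : s * s ∈ N ⊓ centralizer {y⁻¹} := ⟨h3, mem_centralizer_singleton_iff.2 (by
      have h5 : s * y⁻¹ * s⁻¹ = y := by
        rw [← inv_inj, show (s * y⁻¹ * s⁻¹)⁻¹ = s * y * s⁻¹ by group, h2]
      calc s * s * y⁻¹ = s * (s * y⁻¹ * s⁻¹) * s⁻¹ * (s * s) := by group
        _ = _ := by rw [h5, h2])⟩
    simpa [hf] using this
  have h5 : ∀ n ∈ N, n * s * (n * s) = 1 := fun n hn => by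
    obtain ⟨c, hc⟩ := isConj_iff.1 (h.cam s sN n hn)
    rw [← hc, show c * s * c⁻¹ * (c * s * c⁻¹) = c * (s * s) * c⁻¹ by group, h4]; group
  have h6 : ∀ n ∈ N, n * n = 1 := fun n hn => by
    by_cases n1 : n = 1
    · rw [n1, one_mul]
    obtain ⟨u, hu, ho⟩ := H11.exists_invol_of_even (H := N) (by
      obtain ⟨b, hb⟩ := h.pg.exists_card_eq
      have := h.one_lt_card
      rw [hb] at this ⊢
      exact Nat.even_pow.2 ⟨even_two, by rintro rfl; simp at this⟩)
    exact H11.mul_self_of_orderOf_two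
      ((H11.orderOf_eq_of_isConj (h.cj n hn u hu n1 (H11.ne_one_of_orderOf_two ho))).trans ho)
  refine sN (hC fun n hn => ?_)
  calc n * s = n * s * (s * (n * n) * s) := by rw [h6 n hn, mul_one, h4, mul_one]
    _ = n * (s * s) * n * (n * s) := by group
    _ = n * s := by rw [h4, mul_one, h6 n hn, one_mul]
    _ = s * (n * n) * s * (n * s) := by rw [h6 n hn, mul_one, h4, one_mul]
    _ = s * n * (n * s * (n * s)) := by group
    _ = s * n := by rw [h5 n hn, mul_one]

theorem eq_pCore_iff : N = pCore p G ↔ ∃ H : Subgroup G, IsFrobeniusComplement H ∧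
    frobeniusKernel H = (N : Set G) ∧ Nat.card H + 1 = Nat.card N := by
  haveI := h.normal
  obtain ⟨b, hb⟩ := h.pg.exists_card_eq
  constructor
  · intro hN
    have h1 := h.not_dvd_index hN
    have h2 : (Nat.card N).Coprime N.index := by
      rw [hb]; exact (hp.out.coprime_iff_not_dvd.2 h1).pow_left b
    obtain ⟨H, hH⟩ := exists_right_complement'_of_coprime h2
    have h3 : Nat.card H = N.index := hH.symm.index_eq_card.symm
    have h4 : IsFrobeniusComplement H := by
      refine H1.isFrobeniusComplement_of_fpf hH h.ne_bot ?_ fun y hy y1 => h.fpf_of_coprime y1 ?_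
      · rintro rfl
        exact h.ne_top (index_eq_one.1 (by rw [← h3, card_bot]))
      · exact (hp.out.coprime_iff_not_dvd.2 fun e =>
          h1 (h3 ▸ e.trans (H.orderOf_dvd_natCard hy))).symm
    refine ⟨H, h4, H26.frobeniusKernel_eq_of_isComplement' h4 hH, ?_⟩
    obtain ⟨x, hx, x1⟩ := h.exists_ne_one
    have h5 : centralizer ({x} : Set G) = N := (h.pg.toSylow h1).is_maximal' (h.cent x hx x1)
      fun n hn => mem_centralizer_singleton_iff.2 (h.comm n hn x hx)
    rw [h3, ← h.index x hx x1, h5]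
  · rintro ⟨H, hH, hK, hc⟩
    obtain ⟨K, h1, -, h2⟩ := frobenius_theorem H hH
    obtain rfl : K = N := SetLike.coe_injective (h1.trans hK)
    have h3 : ¬ p ∣ K.index := by
      rw [h2.symm.index_eq_card]
      intro e
      have h4 : p ∣ Nat.card H + 1 := by
        have := h.one_lt_card
        rw [hc, hb]
        exact dvd_pow_self p (by rintro rfl; simp [hb] at this)
      exact hp.out.one_lt.ne' (Nat.dvd_one.1 ((Nat.dvd_add_right e).1 h4))
    exact le_antisymm (H1.le_pCore h.pg) (H1.pCore_le_sylow (h.pg.toSylow h3))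

end GagG

end Cfsg.Agent.H8
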