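import Mathlib
import Cfsg.Agent.H8.Glaub3
import Cfsg.Agent.H8.Deg3
import Cfsg.Agent.H8.Gal1

/-!
A canonical correspondence between the characters of `p'`-degree of `K P` and of `C P`, where
`C` is a relative Glauberman subgroup for the `p`-group `P` acting on `K`.
-/

set_option autoImplicit false
set_option linter.dupNamespace false

namespace Cfsg.Agent.H8

open Cfsg Cfsg.Agent.H4 Cfsg.Agent.H5
open scoped ComplexConjugate commutatorElement

theorem card_eq_of_rel {X Y I : Type*} [Finite X] [Finite Y] (s : Setoid I) (r : X → I → Prop)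
    (t : Y → I → Prop) (h1 : ∀ x, ∃ i, r x i) (h2 : ∀ x i j, r x i → (r x j ↔ s i j))
    (h3 : ∀ y, ∃ i, t y i) (h4 : ∀ y i j, t y i → (t y j ↔ s i j))
    (h5 : ∀ i, Nat.card {x // r x i} = Nat.card {y // t y i}) : Nat.card X = Nat.card Y := by
  choose f hf using h1
  choose g hg using h3
  refine Nat.card_congr (Equiv.ofFiberEquiv (f := fun x => Quotient.mk s (f x))
    (g := fun y => Quotient.mk s (g y)) fun c => Classical.choice ?_)
  obtain ⟨i, rfl⟩ := c.exists_rep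
  obtain ⟨e⟩ := Finite.card_eq.1 (h5 i)
  exact ⟨((Equiv.subtypeEquivRight fun x => Quotient.eq.trans (h2 x _ i (hf x)).symm).trans e).trans
    (Equiv.subtypeEquivRight fun y => Quotient.eq.trans (h4 y _ i (hg y)).symm).symm⟩

theorem lin_aux1 {L : Type*} [Group L] {lam : L →* ℂˣ} {e : ℕ} (h : lam ^ e * 1 = 1) :
    lam ^ e = 1 ^ e := MonoidHom.ext fun g => by simpa using DFunLike.congr_fun h g

theorem lin_aux2 {L : Type*} [Group L] (lam : L →* ℂˣ) (e : ℕ) : lam⁻¹ ^ e * lam ^ e = 1 :=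
  MonoidHom.ext fun g => by simp

section gen
variable {B L : Type*} [Group B] [Group L] (E : NEmb B L) {F ψ : L → ℂ}

/-- the multiplicity character -/
noncomputable def mulXi (F ψ : L → ℂ) (x : L) : ℂ :=
  (Nat.card B : ℂ)⁻¹ * ∑ᶠ b : B, F (E.f b * x) * conj (ψ (E.f b * x))

theorem mulXi_eq [Fintype B] (F ψ : L → ℂ) : mulXi E F ψ = cosIn E F ψ := by
  ext x; simp [mulXi, cosIn, classInner, finsum_eq_sum_of_fintype]

theorem mulXi_comp (e : L ≃* L) (e' : B ≃ B) (h : ∀ b, E.f (e' b) = e (E.f b)) (F ψ : L → ℂ) :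
    mulXi E (fun x => F (e x)) (fun x => ψ (e x)) = fun x => mulXi E F ψ (e x) := by
  ext x
  rw [mulXi, mulXi, ← finsum_comp_equiv e' (f := fun b => F (E.f b * e x) * conj (ψ (E.f b * e x)))]
  simp only [h, map_mul]

variable [Finite L]

theorem mulXi_conj (F ψ : L → ℂ) :
    mulXi E (fun x => conj (F x)) (fun x => conj (ψ x)) = fun x => conj (mulXi E F ψ x) := by
  haveI := @Fintype.ofFinite _ E.finite
  ext x; simp [mulXi, finsum_eq_sum_of_fintype]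

theorem isCharacter_mulXi (hF : IsCharacter L F) (hψ : IsCharacter L ψ) :
    IsCharacter L (mulXi E F ψ) := by
  haveI := @Fintype.ofFinite _ E.finite
  haveI := Fintype.ofFinite L
  rw [mulXi_eq]; exact isCharacter_cosIn E hF hψ

theorem mulXi_one [Finite B] (hF : IsCharacter L F) (hψ : IsCharacter L ψ) :
    mulXi E F ψ 1 = nin (fun b => F (E.f b)) fun b => ψ (E.f b) := by
  haveI := Fintype.ofFinite B
  rw [mulXi_eq, cosIn_one, nin_cast (hF.comp E.f) (hψ.comp E.f)]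

theorem det_mulXi_f (hF : IsCharacter L F) (hψ : IsCharacter L ψ) (b : B) :
    detHom (mulXi E F ψ) (E.f b) = 1 := by
  haveI := E.finite
  haveI := Fintype.ofFinite B
  haveI := Fintype.ofFinite L
  have h := detHom_comp_of_eq_mul (isCharacter_mulXi E hF hψ) E.f isCharacter_one
    (e := nin (fun b => F (E.f b)) fun b => ψ (E.f b)) fun b => by
      rw [← mulXi_one E hF hψ, mulXi_eq, mul_one, ← cosIn_f_mul E hF.isClassFunction
        hψ.isClassFunction b 1, mul_one]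
  simpa [detHom_one] using DFunLike.congr_fun h b

theorem det_mulXi_left [Finite B] (hF : IsCharacter L F) (hψ : IsCharacter L ψ) {lam : L →* ℂˣ}
    (h : ∀ b, lam (E.f b) = 1) : detHom (mulXi E ((fun g => (lam g : ℂ)) * F) ψ) =
      lam ^ nin (fun b => F (E.f b)) (fun b => ψ (E.f b)) * detHom (mulXi E F ψ) := by
  haveI := Fintype.ofFinite B
  rw [← detHom_linear_mul lam (isCharacter_mulXi E hF hψ) (mulXi_one E hF hψ)]
  congr 1; ext x
  rw [mulXi_eq, mulXi_eq, Pi.mul_apply]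
  exact cosIn_of_eq_mul E (fun b => by simp [h]) ψ

theorem det_mulXi_right [Finite B] (hF : IsCharacter L F) (hψ : IsCharacter L ψ) {lam : L →* ℂˣ}
    (h : ∀ b, lam (E.f b) = 1) : detHom (mulXi E F ((fun g => (lam g : ℂ)) * ψ)) =
      lam⁻¹ ^ nin (fun b => F (E.f b)) (fun b => ψ (E.f b)) * detHom (mulXi E F ψ) := by
  haveI := Fintype.ofFinite B
  rw [← detHom_linear_mul lam⁻¹ (isCharacter_mulXi E hF hψ) (mulXi_one E hF hψ)]
  congr 1; ext x
  rw [mulXi_eq, mulXi_eq, Pi.mul_apply, cosIn_of_eq_mul_right E (c := lam x) (φ := ψ)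
    (fun b => by simp [h]) F, conj_linear, map_inv, MonoidHom.inv_apply]

theorem exists_ext_of_not_dvd [Finite B] {p k : ℕ} (hp : p.Prime) (hk : E.f.range.index = p ^ k)
    (hF : IsCharacter L F) {ξ : B → ℂ} (hξ : IsIrrCharacter B ξ)
    (hinv : ∀ g n, ξ (E.act g n) = ξ n) (h : ¬ p ∣ nin (fun b => F (E.f b)) ξ) :
    ∃ ψ, IsIrrCharacter L ψ ∧ ∀ b, ψ (E.f b) = ξ b := by
  haveI := Fintype.ofFinite B
  haveI := Fintype.ofFinite L
  rw [nin_comp_eq_sum E.f hF hξ.isCharacter] at h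
  obtain ⟨φ, h1⟩ : ∃ φ : IrrCharacter L, ¬ p ∣ nin (fun b => φ.1 (E.f b)) ξ := by
    by_contra h1
    push Not at h1
    exact h (Finset.dvd_sum fun φ _ => (h1 φ).mul_left _)
  have h2 := (nin_ne_zero_iff (φ.2.isCharacter.comp E.f) hξ.isCharacter).1
    fun h2 => h1 (h2 ▸ dvd_zero p)
  obtain ⟨e, -, h3, h4⟩ := E.clifford_of_invariant_nat φ.2 hξ hinv h2
  obtain ⟨e', h5, h6⟩ := E.degree_dvd_index_of_invariant hξ hinv φ.2 h2
  have h7 := h4 1
  rw [map_one, h6, mul_left_inj' hξ.apply_one_ne_zero, Nat.cast_inj] at h7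
  rw [nin_eq_of h3] at h1
  obtain rfl : e = 1 := Nat.eq_one_of_dvd_coprimes
    (((Nat.Prime.coprime_iff_not_dvd hp).2 h1).pow_left k) (hk ▸ h7 ▸ h5) dvd_rfl
  exact ⟨φ, φ.2, fun b => by simp [h4]⟩

end gen

section amb
variable {Γ : Type*} [Group Γ] [Finite Γ] {K C X Y N U : Subgroup Γ}

theorem gmul_dvd_charDegree (h : N ≤ K) (hKN : K ≤ Subgroup.normalizer (N : Set Γ))
    (χ : IrrCharacter K) (θ : IrrCharacter N) (h1 : gmul h χ.1 θ.1 ≠ 0) :
    gmul h χ.1 θ.1 * charDegree θ.1 ∣ charDegree χ.1 := by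
  haveI := Fintype.ofFinite K
  haveI := Fintype.ofFinite N
  have h2 := (embN h hKN).clifford_degree χ.2 θ.2
    ((gmul_ne_zero_iff h χ.2.isCharacter θ.2.isCharacter).1 h1)
  erw [← gmul_cast h χ.2.isCharacter θ.2.isCharacter] at h2
  rw [← irr_coe_charDegree, ← irr_coe_charDegree, ← Nat.cast_mul, ← Nat.cast_mul,
    Nat.cast_inj] at h2
  exact ⟨_, by rw [h2, mul_right_comm]⟩

theorem not_dvd_charDegree_iff {p : ℕ} (hp : p.Prime) (h : N ≤ K)
    (hKN : K ≤ Subgroup.normalizer (N : Set Γ)) (hi : ¬ p ∣ N.relIndex K) {χ : IrrCharacter K}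
    {θ : IrrCharacter N} (h1 : gmul h χ.1 θ.1 ≠ 0) : p ∣ charDegree χ.1 ↔ p ∣ charDegree θ.1 := by
  haveI := Fintype.ofFinite N
  obtain ⟨e, h2, h3⟩ := (embN h hKN).degree_dvd_index θ.2 χ.2
    ((gmul_ne_zero_iff h χ.2.isCharacter θ.2.isCharacter).1 h1)
  rw [← irr_coe_charDegree, ← irr_coe_charDegree, ← Nat.cast_mul, Nat.cast_inj] at h3
  rw [h3, hp.dvd_mul, or_iff_right fun h4 => hi (embN_index h hKN ▸ h4.trans h2)]

omit [Finite Γ] in
theorem sInv_embN (h : N ≤ K) (hKN : K ≤ Subgroup.normalizer (N : Set Γ)) {θ : N → ℂ} :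
    SInv K θ ↔ ∀ g n, θ ((embN h hKN).act g n) = θ n :=
  ⟨fun H g n => H g g.2 _ _ rfl, fun H s hs g g' e => by
    rw [← H ⟨s, hs⟩ g]; exact congrArg θ (Subtype.ext e)⟩

omit [Finite Γ] in
theorem sInv_res (h : N ≤ K) {χ : K → ℂ} (hχ : IsClassFunction K χ) :
    SInv K fun n : N => χ ⟨n, h n.2⟩ := fun s hs g _ e =>
  (congrArg χ (Subtype.ext e)).trans (hχ ⟨g, h g.2⟩ ⟨s, hs⟩)

/-- the stabilizer of a function on a subgroup -/
def stabA (θ : N → ℂ) : Subgroup Γ where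
  carrier := {s | s ∈ Subgroup.normalizer (N : Set Γ) ∧ EInv s θ}
  one_mem' := ⟨one_mem _, fun g g' e => congrArg θ (Subtype.ext (by simpa using e))⟩
  mul_mem' ha hb := ⟨mul_mem ha.1 hb.1, ha.2.mul hb.1 hb.2⟩
  inv_mem' ha := ⟨inv_mem ha.1, fun g g' e => (ha.2 g' g (by simp [e, mul_assoc])).symm⟩

omit [Finite Γ] in
theorem le_stabA {S : Subgroup Γ} {θ : N → ℂ} :
    S ≤ stabA θ ↔ S ≤ Subgroup.normalizer (N : Set Γ) ∧ SInv S θ :=
  ⟨fun h => ⟨fun _ hs => (h hs).1, fun _ hs => (h hs).2⟩, fun h s hs => ⟨h.1 hs, h.2 s hs⟩⟩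

omit [Finite Γ] in
theorem self_le_stabA {θ : N → ℂ} (hθ : IsClassFunction N θ) : N ≤ stabA θ :=
  fun _ hs => ⟨Subgroup.le_normalizer hs, eInv_of_mem hs hθ⟩

omit [Finite Γ] in
theorem SInv.sup_self {S : Subgroup Γ} {θ : N → ℂ} (hS : SInv S θ) (hθ : IsClassFunction N θ)
    (hSN : S ≤ Subgroup.normalizer (N : Set Γ)) : SInv (N ⊔ S) θ :=
  (le_stabA.1 (sup_le (self_le_stabA hθ) (le_stabA.2 ⟨hSN, hS⟩))).2

omit [Finite Γ] in
theorem exists_lift_hom {A : Type*} [Group A] (hYK : Y ≤ Subgroup.normalizer (K : Set Γ))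
    (hX : K ⊔ Y = X) (μ : Y →* A) (hμ : ∀ y : Y, (y : Γ) ∈ K → μ y = 1) :
    ∃ lam : X →* A, (∀ x : X, (x : Γ) ∈ K → lam x = 1) ∧
      ∀ y : Y, lam ⟨y, hX ▸ le_sup_right (a := K) y.2⟩ = μ y := by
  subst hX
  haveI := Subgroup.normal_subgroupOf_of_le_normalizer (H1.sup_le_normalizer_left hYK)
  let g : Y →* ↥(K ⊔ Y) ⧸ K.subgroupOf (K ⊔ Y) :=
    (QuotientGroup.mk' _).comp (Subgroup.inclusion le_sup_right)
  have hg : Function.Surjective g := by
    rintro ⟨x, hx⟩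
    obtain ⟨y, hy, k, hk, rfl⟩ := (H1.mem_sup_of_le_normalizer_right hYK).1 (sup_comm K Y ▸ hx)
    exact ⟨⟨y, hy⟩, QuotientGroup.eq.2 (by simpa [Subgroup.mem_subgroupOf] using hk)⟩
  refine ⟨(g.liftOfSurjective hg ⟨μ, fun y hy => hμ y
    ((QuotientGroup.eq_one_iff (N := K.subgroupOf (K ⊔ Y)) _).1 hy)⟩).comp
    (QuotientGroup.mk' _), fun x hx => ?_, 
      fun y => g.liftOfRightInverse_comp_apply _ (Function.rightInverse_surjInv hg) _ y⟩
  rw [MonoidHom.comp_apply, QuotientGroup.mk'_apply, (QuotientGroup.eq_one_iff x).2 hx, map_one]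

/-- The data for the canonical correspondence. -/
structure MK (p : ℕ) (P K C X Y : Subgroup Γ) : Prop where
  hP : IsPGroup p P
  PK : P ≤ Subgroup.normalizer (K : Set Γ)
  PC : P ≤ Subgroup.normalizer (C : Set Γ)
  CK : C ≤ K
  X_eq : K ⊔ P = X
  Y_eq : C ⊔ P = Y
  inf : K ⊓ P ≤ C
  corr : GCorr p P CK

namespace MK
variable {p : ℕ} [hp : Fact p.Prime] {P : Subgroup Γ} (D : MK p P K C X Y)
include D

section
omit hp
theorem KX : K ≤ X := D.X_eq ▸ le_sup_left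
theorem CY : C ≤ Y := D.Y_eq ▸ le_sup_left
theorem PX : P ≤ X := D.X_eq ▸ le_sup_right
theorem PY : P ≤ Y := D.Y_eq ▸ le_sup_right
theorem YX : Y ≤ X := D.Y_eq ▸ sup_le (D.CK.trans D.KX) D.PX
theorem XK : X ≤ Subgroup.normalizer (K : Set Γ) := D.X_eq ▸ H1.sup_le_normalizer_left D.PK
theorem YC : Y ≤ Subgroup.normalizer (C : Set Γ) := D.Y_eq ▸ H1.sup_le_normalizer_left D.PC
theorem sup_Y : K ⊔ Y = X := by rw [← D.Y_eq, ← sup_assoc, sup_eq_left.2 D.CK, D.X_eq]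

theorem mem_C {y : Γ} (hy : y ∈ Y) (hk : y ∈ K) : y ∈ C := by
  obtain ⟨c, hc, s, hs, rfl⟩ := (H1.mem_sup_of_le_normalizer_left D.PC).1 (D.Y_eq ▸ hy)
  exact mul_mem hc (D.inf ⟨(mul_mem_cancel_left (D.CK hc)).1 hk, hs⟩)

theorem index_eq : K.relIndex X = C.relIndex Y := by
  rw [← D.sup_Y, H1.relIndex_sup_of_le_normalizer (D.YX.trans D.XK), ← Subgroup.inf_relIndex_right,
    show K ⊓ Y = C from le_antisymm (fun _ h => D.mem_C h.2 h.1) (le_inf D.CK D.CY)]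
end

theorem index_Y : ∃ k, (embN D.CY D.YC).f.range.index = p ^ k := by
  rw [embN_index, ← D.Y_eq, H1.relIndex_sup_of_le_normalizer D.PC]
  exact D.hP.index _

theorem index_X : ∃ k, (embN D.KX D.XK).f.range.index = p ^ k := by
  rw [embN_index, D.index_eq, ← embN_index D.CY D.YC]
  exact D.index_Y

theorem cop_Y {e : ℕ} (h : ¬ p ∣ e) : (embN D.CY D.YC).f.range.index.Coprime e := by
  obtain ⟨k, hk⟩ := D.index_Y
  exact hk ▸ ((Nat.Prime.coprime_iff_not_dvd hp.1).2 h).pow_left k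

theorem cop_X {e : ℕ} (h : ¬ p ∣ e) : (embN D.KX D.XK).f.range.index.Coprime e := by
  obtain ⟨k, hk⟩ := D.index_X
  exact hk ▸ ((Nat.Prime.coprime_iff_not_dvd hp.1).2 h).pow_left k

theorem dvd_deg_iff {θ : IrrCharacter K} {ξ : IrrCharacter C} (hθ : SInv P θ.1) (hξ : SInv P ξ.1)
    (h : ¬ p ∣ gmul D.CK θ.1 ξ.1) : p ∣ charDegree θ.1 ↔ p ∣ charDegree ξ.1 := by
  obtain ⟨ξ₀, -, -, h1⟩ := D.corr.down θ hθ
  obtain rfl : ξ = ξ₀ := by_contra fun hne => h (h1 _ hξ hne)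
  rw [← ZMod.natCast_eq_zero_iff, charDegree_eq_of_gmul D.hP D.PK D.PC D.CK hθ hξ h1, mul_eq_zero,
    ZMod.natCast_eq_zero_iff, ZMod.natCast_eq_zero_iff, or_iff_right h]

/-- The relation with the data below it. -/
structure RD (χ : IrrCharacter X) (ψ : IrrCharacter Y) (θ : IrrCharacter K) (ξ : IrrCharacter C) :
    Prop where
  h1 : ∀ k : K, χ.1 ⟨k, D.KX k.2⟩ = θ.1 k
  h2 : ∀ c : C, ψ.1 ⟨c, D.CY c.2⟩ = ξ.1 c
  h3 : ¬ p ∣ charDegree θ.1
  h4 : ¬ p ∣ gmul D.CK θ.1 ξ.1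
  h5 : detHom (mulXi (embN D.CY D.YC) (fun y => χ.1 ⟨y, D.YX y.2⟩) ψ.1) = 1

/-- The canonical correspondence. -/
def R (χ : IrrCharacter X) (ψ : IrrCharacter Y) : Prop := ∃ θ ξ, D.RD χ ψ θ ξ

theorem nin_eq {χ : X → ℂ} {ψ : Y → ℂ} {θ : K → ℂ} {ξ : C → ℂ}
    (h1 : ∀ k : K, χ ⟨k, D.KX k.2⟩ = θ k) (h2 : ∀ c : C, ψ ⟨c, D.CY c.2⟩ = ξ c) :
    nin (fun c => (fun y : Y => χ ⟨y, D.YX y.2⟩) ((embN D.CY D.YC).f c))
      (fun c => ψ ((embN D.CY D.YC).f c)) = gmul D.CK θ ξ := by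
  rw [gmul]
  congr 1
  · exact funext fun c => h1 ⟨c, D.CK c.2⟩
  · exact funext h2

variable {D} {χ χ' : IrrCharacter X} {ψ ψ' : IrrCharacter Y} {θ θ' : IrrCharacter K}
  {ξ ξ' : IrrCharacter C}

theorem RD.invX (h : D.RD χ ψ θ ξ) : SInv X θ.1 := funext h.h1 ▸ sInv_res D.KX χ.2.isClassFunction
theorem RD.invY (h : D.RD χ ψ θ ξ) : SInv Y ξ.1 := funext h.h2 ▸ sInv_res D.CY ψ.2.isClassFunction

theorem RD.degX (h : D.RD χ ψ θ ξ) : ¬ p ∣ charDegree χ.1 := by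
  rw [charDegree_eq_of ((h.h1 1).trans (irr_coe_charDegree θ).symm)]; exact h.h3

theorem RD.degY (h : D.RD χ ψ θ ξ) : ¬ p ∣ charDegree ψ.1 := by
  rw [charDegree_eq_of ((h.h2 1).trans (irr_coe_charDegree ξ).symm),
    ← D.dvd_deg_iff (h.invX.mono D.PX) (h.invY.mono D.PY) h.h4]
  exact h.h3

theorem RD.eq_iff (h : D.RD χ ψ θ ξ) (h' : D.RD χ' ψ' θ' ξ') : χ' = χ ↔ ψ' = ψ := by
  haveI := Fintype.ofFinite K
  haveI := Fintype.ofFinite C
  haveI := Fintype.ofFinite X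
  haveI := Fintype.ofFinite Y
  have h0 := D.corr.fix_iff (h.invX.mono D.PX) (h'.invX.mono D.PX) (h.invY.mono D.PY)
    (h'.invY.mono D.PY) h.h4 h'.h4
  have hF := χ.2.isCharacter.restrict_le D.YX
  constructor
  · rintro rfl
    obtain rfl := h0.1 (Subtype.ext ((funext h'.h1).symm.trans (funext h.h1)))
    obtain ⟨lam, h1, h2⟩ := (embN D.CY D.YC).exists_linear_of_ext ξ'.2 ψ.2.isCharacter h.h2
      ψ'.2.isCharacter h'.h2
    have h3 := h'.h5
    rw [h2, det_mulXi_right _ hF ψ.2.isCharacter h1, h.h5, D.nin_eq h.h1 h.h2] at h3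
    have h4 := (embN D.CY D.YC).eq_of_coprime (μ' := 1)
      (fun n => by simp [h1]) (D.cop_Y h.h4) (lin_aux1 h3)
    exact Subtype.ext (h2.trans (funext fun g => by
      simp [show lam g = 1 by simpa using DFunLike.congr_fun h4 g]))
  · rintro rfl
    obtain rfl := h0.2 (Subtype.ext ((funext h'.h2).symm.trans (funext h.h2)))
    obtain ⟨lam, h1, h2⟩ := (embN D.KX D.XK).exists_linear_of_ext θ'.2 χ.2.isCharacter h.h1
      χ'.2.isCharacter h'.h1
    have h3 := h'.h5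
    have h4 : ∀ c, lam.comp (Subgroup.inclusion D.YX) ((embN D.CY D.YC).f c) = 1 :=
      fun c => h1 ⟨c, D.CK c.2⟩
    rw [h2] at h3
    erw [det_mulXi_left _ hF ψ'.2.isCharacter h4, h.h5, D.nin_eq h.h1 h.h2] at h3
    have h5 := (embN D.CY D.YC).eq_of_coprime (μ' := 1) h4 (D.cop_Y h.h4) (lin_aux1 h3)
    refine Subtype.ext (h2.trans (funext fun ⟨g, hg⟩ => ?_))
    obtain ⟨k, hk, y, hy, rfl⟩ := (H1.mem_sup_of_le_normalizer_left (D.YX.trans D.XK)).1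
      (D.sup_Y ▸ hg)
    have h6 : lam ⟨k * y, hg⟩ = 1 := by
      rw [← mul_one 1]
      exact (map_mul lam ⟨k, D.KX hk⟩ ⟨y, D.YX hy⟩).trans
        (congrArg₂ _ (h1 ⟨k, hk⟩) (DFunLike.congr_fun h5 ⟨y, hy⟩))
    simp [h6]

theorem R.eq_iff (h : D.R χ ψ) (h' : D.R χ' ψ') : χ' = χ ↔ ψ' = ψ :=
  let ⟨_, _, h⟩ := h; let ⟨_, _, h'⟩ := h'; h.eq_iff h'

theorem R.degX (h : D.R χ ψ) : ¬ p ∣ charDegree χ.1 := let ⟨_, _, h⟩ := h; h.degX
theorem R.degY (h : D.R χ ψ) : ¬ p ∣ charDegree ψ.1 := let ⟨_, _, h⟩ := h; h.degY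

variable (D)

theorem exists_right (hχ : ¬ p ∣ charDegree χ.1) : ∃ ψ, D.R χ ψ := by
  let θ : IrrCharacter K := ⟨_, irr_res_of_coprime (embN D.KX D.XK) χ.2
    (irr_coe_charDegree χ).symm (D.cop_X hχ)⟩
  obtain ⟨ξ, h1, h2, -⟩ := D.corr.down θ ((sInv_res D.KX χ.2.isClassFunction).mono D.PX)
  replace h2 := not_dvd_of_sq_eq_one h2
  have hF := χ.2.isCharacter.restrict_le D.YX
  obtain ⟨k, hk⟩ := D.index_Y
  obtain ⟨ψ, h3, h4⟩ := exists_ext_of_not_dvd (embN D.CY D.YC) hp.1 hk hF ξ.2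
    ((sInv_embN _ _).1 (D.Y_eq ▸ h1.sup_self ξ.2.isClassFunction D.PC)) h2
  obtain ⟨β, h5, h6⟩ := (embN D.CY D.YC).exists_root_of_coprime
    (det_mulXi_f (embN D.CY D.YC) hF h3.isCharacter) (D.cop_Y h2)
  refine ⟨⟨(fun g => (β g : ℂ)) * ψ, isIrr_mul_of_linear (isCharacter_linear β) (by simp) h3⟩,
    θ, ξ, fun _ => rfl, fun c => ?_, hχ, h2, ?_⟩
  · exact (congrArg₂ (· * ·) (congrArg Units.val (h5 c)) (h4 c)).trans (one_mul _)
  · rw [det_mulXi_right _ hF h3.isCharacter h5, D.nin_eq (θ := θ.1) (fun _ => rfl) h4, ← h6,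
      lin_aux2]

theorem exists_left (hψ : ¬ p ∣ charDegree ψ.1) : ∃ χ, D.R χ ψ := by
  haveI := Fintype.ofFinite K
  haveI := Fintype.ofFinite C
  haveI := Fintype.ofFinite X
  haveI := Fintype.ofFinite Y
  let ξ : IrrCharacter C := ⟨_, irr_res_of_coprime (embN D.CY D.YC) ψ.2
    (irr_coe_charDegree ψ).symm (D.cop_Y hψ)⟩
  have h0 : SInv P ξ.1 := (sInv_res D.CY ψ.2.isClassFunction).mono D.PY
  obtain ⟨θ, h1, h2, -⟩ := D.corr.up ξ h0
  obtain ⟨k, hk⟩ := D.index_X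
  have h7 : SInv X θ.1 := D.X_eq ▸ h1.sup_self θ.2.isClassFunction D.PK
  obtain ⟨χ, h3, h4⟩ := exists_ext_of_not_dvd (embN D.KX D.XK) hp.1 hk
    (isCharacter_indHom (Subgroup.inclusion D.YX) ψ.2.isCharacter) θ.2 ((sInv_embN _ _).1 h7) (by
      have h8 : (fun y => indHom (embN D.KX D.XK).f θ.1 (Subgroup.inclusion D.YX y)) =
          indHom (embN D.CY D.YC).f fun c => θ.1 ⟨c, D.CK c.2⟩ := funext fun y => by
        by_cases hy : (y : Γ) ∈ C
        · refine ((embN D.KX D.XK).res_indHom_of_invariant ((sInv_embN _ _).1 h7)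
            ⟨y, D.CK hy⟩).trans (Eq.trans ?_ ((embN D.CY D.YC).res_indHom_of_invariant
              (fun g n => h7 g (D.YX g.2) _ _ rfl) ⟨y, hy⟩).symm)
          rw [embN_index, embN_index, D.index_eq]
        · rw [NEmb.indHom_eq_zero, NEmb.indHom_eq_zero] <;> rw [embN_range]
          exacts [hy, fun h => hy (D.mem_C y.2 h)]
      rwa [nin_eq_of (n := gmul D.CK θ.1 ξ.1) (by
        rw [← inner_indHom_right _ _ (indHom_isClassFunction _ _),
          inner_indHom_left _ _ (indHom_isClassFunction _ _), h8,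
          inner_indHom_right _ _ ψ.2.isClassFunction, ← classInner_conj_symm]
        erw [← gmul_cast D.CK θ.2.isCharacter ξ.2.isCharacter]
        exact map_natCast _ _)])
  have hF := h3.isCharacter.restrict_le D.YX
  obtain ⟨β, h5, h6⟩ := (embN D.CY D.YC).exists_root_of_coprime
    (det_mulXi_f (embN D.CY D.YC) hF ψ.2.isCharacter) (D.cop_Y h2)
  obtain ⟨lam, h8, h9⟩ := exists_lift_hom (D.YX.trans D.XK) D.sup_Y β⁻¹ fun y hy =>
    inv_eq_one.2 (h5 ⟨y, D.mem_C y.2 hy⟩)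
  refine ⟨⟨(fun g => (lam g : ℂ)) * χ, isIrr_mul_of_linear (isCharacter_linear lam) (by simp) h3⟩,
    θ, ξ, fun c => ?_, fun _ => rfl, mt (D.dvd_deg_iff h1 h0 h2).1 hψ, h2, ?_⟩
  · exact (congrArg₂ (· * ·) (congrArg Units.val (h8 _ c.2)) (h4 c)).trans (one_mul _)
  · have h10 := det_mulXi_left _ hF ψ.2.isCharacter (lam := β⁻¹) fun c => inv_eq_one.2 (h5 c)
    rw [D.nin_eq (ξ := ξ.1) h4 (fun _ => rfl), ← h6, lin_aux2] at h10
    rw [← h10]
    congr 2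
    exact funext fun y => congrArg (· * _) (congrArg Units.val (h9 y))

variable {D}

theorem R.cjI (h : D.R χ ψ) {n : Γ} (hK : n ∈ Subgroup.normalizer (K : Set Γ))
    (hC : n ∈ Subgroup.normalizer (C : Set Γ)) (hX : n ∈ Subgroup.normalizer (X : Set Γ))
    (hY : n ∈ Subgroup.normalizer (Y : Set Γ)) : D.R (cjI hX χ) (cjI hY ψ) := by
  obtain ⟨θ, ξ, h⟩ := h
  refine ⟨H8.cjI hK θ, H8.cjI hC ξ, fun k => h.h1 (cjE hK k), fun c => h.h2 (cjE hC c), ?_,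
    gmul_cjI D.CK hK hC θ ξ ▸ h.h4, ?_⟩
  · rw [charDegree_eq_of (d := charDegree θ.1) (by rw [cjI_apply, map_one, irr_coe_charDegree])]
    exact h.h3
  · have h1 := mulXi_comp (embN D.CY D.YC) (cjE hY) (cjE hC).toEquiv (fun _ => rfl)
      (fun y => χ.1 ⟨y, D.YX y.2⟩) ψ.1
    refine (congrArg detHom h1).trans ((detHom_comp (isCharacter_mulXi _
      (χ.2.isCharacter.restrict_le D.YX) ψ.2.isCharacter) (cjE hY).toMonoidHom).trans ?_)
    rw [h.h5]; rfl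

theorem R.real_iff (h : D.R χ ψ) : (∀ x, (χ.1 x).im = 0) ↔ ∀ y, (ψ.1 y).im = 0 := by
  have h0 : D.R ⟨_, χ.2.conj⟩ ⟨_, ψ.2.conj⟩ := by
    haveI := Fintype.ofFinite C
    obtain ⟨θ, ξ, h⟩ := h
    refine ⟨⟨_, θ.2.conj⟩, ⟨_, ξ.2.conj⟩, fun k => congrArg conj (h.h1 k),
      fun c => congrArg conj (h.h2 c), ?_, ?_, ?_⟩
    · rw [charDegree_eq_of (d := charDegree θ.1) (by
        simp only [← irr_coe_charDegree, map_natCast])]
      exact h.h3
    · rw [gmul_eq_of D.CK (m := gmul D.CK θ.1 ξ.1) (by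
        rw [gmul_cast D.CK θ.2.isCharacter ξ.2.isCharacter]
        refine (classInner_conj_conj _ _).trans ?_
        rw [← classInner_conj_symm, ← gmul_cast D.CK θ.2.isCharacter ξ.2.isCharacter,
          map_natCast])]
      exact h.h4
    · refine (congrArg detHom (mulXi_conj _ (fun y : Y => χ.1 ⟨y, D.YX y.2⟩) ψ.1)).trans ?_
      rw [detHom_conj (isCharacter_mulXi _ (χ.2.isCharacter.restrict_le D.YX) ψ.2.isCharacter),
        h.h5]
      exact MonoidHom.ext fun g => by simp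
  simpa only [Subtype.ext_iff, funext_iff, Complex.conj_eq_iff_im] using h.eq_iff h0

theorem RD.over_iff (h : D.RD χ ψ θ ξ) (hNC : N ≤ C) (hKN : X ≤ Subgroup.normalizer (N : Set Γ))
    {ν : IrrCharacter N} (hν : SInv P ν.1) : gmul (hNC.trans (D.CK.trans D.KX)) χ.1 ν.1 ≠ 0 ↔
      gmul (hNC.trans D.CY) ψ.1 ν.1 ≠ 0 := by
  classical
  have h1 : gmul (hNC.trans (D.CK.trans D.KX)) χ.1 ν.1 = gmul (hNC.trans D.CK) θ.1 ν.1 :=
    congrArg (nin · _) (funext fun n => h.h1 ⟨n, D.CK (hNC n.2)⟩)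
  have h2 : gmul (hNC.trans D.CY) ψ.1 ν.1 = gmul hNC ξ.1 ν.1 :=
    congrArg (nin · _) (funext fun n => h.h2 ⟨n, hNC n.2⟩)
  have hθ := h.invX.mono D.PX
  have hξ := h.invY.mono D.PY
  obtain ⟨ξ₀, -, -, h3⟩ := D.corr.down θ hθ
  obtain rfl : ξ = ξ₀ := by_contra fun hne => h.h4 (h3 _ hξ hne)
  have h4 := gmul_trans_mod D.hP D.PK D.PC (D.PX.trans hKN) D.CK hNC hθ hν
  rw [Finset.sum_eq_single_of_mem ξ (by simpa using hξ) fun η hη hne => by
    rw [(ZMod.natCast_eq_zero_iff _ _).2 (h3 η (by simpa using hη) hne), zero_mul],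
    ← Nat.cast_mul, ← h1, ← h2] at h4
  have h5 := (ZMod.natCast_eq_natCast_iff _ _ _).1 h4
  constructor
  · intro h6 h7
    rw [h7, mul_zero] at h5
    exact h.degX ((Nat.modEq_zero_iff_dvd.1 h5).trans ((Dvd.intro _ rfl).trans
      (gmul_dvd_charDegree _ hKN χ ν h6)))
  · intro h6 h7
    rw [h7] at h5
    exact ((hp.1.dvd_mul.1 (Nat.modEq_zero_iff_dvd.1 h5.symm)).elim h.h4) fun h8 => h.degY
      (h8.trans ((Dvd.intro _ rfl).trans (gmul_dvd_charDegree _ (D.YX.trans hKN) ψ ν h6)))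

end MK

end amb

end Cfsg.Agent.H8
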