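import Mathlib
import Cfsg.Agent.H8.McK1
import Cfsg.Agent.H1.SylowIn

/-!
The inductive skeleton for McKay-type counts in `p`-solvable groups.
-/

set_option autoImplicit false
set_option linter.dupNamespace false

namespace Cfsg.Agent.H8

open Cfsg Cfsg.Agent.H4 Cfsg.Agent.H5 Subgroup
open scoped ComplexConjugate commutatorElement

variable {Γ : Type*} [Group Γ] [Finite Γ] {p : ℕ} [hp : Fact p.Prime] {P L K C X Y M N : Subgroup Γ}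

omit [Finite Γ] in
theorem cjI_cjI {x y : Γ} (hx : x ∈ normalizer (K : Set Γ)) (hy : y ∈ normalizer (K : Set Γ))
    (χ : IrrCharacter K) : cjI hy (cjI hx χ) = cjI (mul_mem hx hy) χ :=
  Subtype.ext (funext fun k => congrArg χ.1 (Subtype.ext (by simp [mul_assoc])))

theorem mem_of_pow_of_not_dvd (hKL : K ≤ normalizer (L : Set Γ)) (h : ¬ p ∣ L.relIndex K) {x : Γ}
    (hx : x ∈ K) {k : ℕ} (hk : x ^ p ^ k ∈ L) : x ∈ L :=
  NEmb.mem_of_coprime L (((Nat.Prime.coprime_iff_not_dvd hp.1).2 h).pow_left k) hk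
    (pow_relIndex_mem hKL hx)

theorem inf_sup_le_of_not_dvd [L.Normal] (hP : IsPGroup p P) (hLK : L ≤ K)
    (h : ¬ p ∣ L.relIndex K) : K ⊓ (L ⊔ P) ≤ L := by
  rintro _ ⟨h1, h2⟩
  obtain ⟨l, hl, s, hs, rfl⟩ := (H1.mem_sup_of_le_normalizer_left le_normalizer_of_normal).1 h2
  obtain ⟨k, hk⟩ := hP ⟨s, hs⟩
  exact mul_mem hl (mem_of_pow_of_not_dvd le_normalizer_of_normal h
    ((mul_mem_cancel_left (hLK hl)).1 h1) (k := k) ((show s ^ p ^ k = 1 from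
      congrArg Subtype.val hk) ▸ one_mem L))

/-- The data of one step. -/
structure MS (p : ℕ) (P L K C X Y M N : Subgroup Γ) : Prop extends MK p P K C X Y where
  NM : N ≤ M
  XM : X ≤ M
  YN : Y ≤ N
  MX : M ≤ normalizer (X : Set Γ)
  NK : N ≤ normalizer (K : Set Γ)
  NC : N ≤ normalizer (C : Set Γ)
  NY : N ≤ normalizer (Y : Set Γ)
  sup : X ⊔ N = M
  infN : X ⊓ N ≤ Y
  idx : ¬ p ∣ X.relIndex M
  LC : L ≤ C
  idxL : ¬ p ∣ L.relIndex K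
  NLP : N ≤ normalizer ((L ⊔ P : Subgroup Γ) : Set Γ)
  hC : ∀ k, k ∈ C ↔ k ∈ K ∧ ∀ x ∈ P, x * k * x⁻¹ * k⁻¹ ∈ L

theorem exists_MS (S : Sylow p Γ) [L.Normal] [K.Normal] (hLK : L ≤ K) (h : ¬ p ∣ L.relIndex K) :
    ∃ C X Y, MS p S L K C X Y (normalizer ((K ⊔ S : Subgroup Γ) : Set Γ))
      (normalizer ((L ⊔ S : Subgroup Γ) : Set Γ)) := by
  set N := normalizer ((L ⊔ S : Subgroup Γ) : Set Γ)
  have h1 := inf_sup_le_of_not_dvd S.2 hLK h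
  have hSN : (S : Subgroup Γ) ≤ N := le_sup_right.trans le_normalizer
  have hLN : L ≤ N := le_sup_left.trans le_normalizer
  have hC : ∀ k, k ∈ K ⊓ N ↔ k ∈ K ∧ ∀ x ∈ (S : Subgroup Γ), x * k * x⁻¹ * k⁻¹ ∈ L := fun k => by
    refine mem_inf.trans <| and_congr_right fun hk => ⟨fun hN x hx => h1 ⟨K.mul_mem (Normal.conj_mem ‹_› k hk x)
      (K.inv_mem hk), (?_ : _ ∈ L ⊔ S)⟩, fun hN => ?_⟩
    · rw [mul_assoc, mul_assoc, ← mul_assoc k]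
      exact mul_mem (mem_sup_right hx) (H1.conj_mem_of_le_normalizer le_rfl hN
        (mem_sup_right (inv_mem hx)))
    · refine Subgroup.mem_normalizer_fintype fun y hy => ?_
      obtain ⟨l, hl, s, hs, rfl⟩ := (H1.mem_sup_of_le_normalizer_left le_normalizer_of_normal).1 hy
      rw [show k * (l * s) * k⁻¹ = k * l * k⁻¹ * (s * (s⁻¹ * k * s⁻¹⁻¹ * k⁻¹)) by group]
      exact mul_mem (mem_sup_left (Normal.conj_mem ‹_› l hl k))
        (mul_mem (mem_sup_right hs) (mem_sup_left (hN _ (inv_mem hs))))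
  have hNC : N ≤ normalizer ((K ⊓ N : Subgroup Γ) : Set Γ) :=
    H1.le_normalizer_inf le_normalizer_of_normal le_normalizer
  have hNM : N ≤ normalizer ((K ⊔ S : Subgroup Γ) : Set Γ) := by
    rw [show K ⊔ S = K ⊔ (L ⊔ S) by rw [← sup_assoc, sup_eq_left.2 hLK]]
    exact H1.le_normalizer_sup le_normalizer_of_normal le_rfl
  have hY : (K ⊔ S) ⊓ N = K ⊓ N ⊔ S := H1.sup_inf_of_le_normalizer' le_normalizer_of_normal hSN
  refine ⟨K ⊓ N, K ⊔ S, K ⊓ N ⊔ S, ⟨S.2, le_normalizer_of_normal, hSN.trans hNC, inf_le_left, rfl,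
    rfl, inf_le_inf_left _ hSN, gCorr_rel S.2 le_normalizer_of_normal _ rfl le_normalizer_of_normal
      le_normalizer_of_normal h hC _⟩, hNM, le_normalizer, sup_le inf_le_right hSN, le_rfl,
    le_normalizer_of_normal, hNC, hY ▸ H1.le_normalizer_inf hNM le_normalizer, ?_, hY.le,
    fun h2 => S.not_dvd_index (h2.trans ((relIndex_dvd_index_of_le le_normalizer).trans
      (index_dvd_of_le le_sup_right))), le_inf hLK hLN, h, le_rfl, hC⟩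
  refine le_antisymm (sup_le le_normalizer hNM) fun m hm => ?_
  obtain ⟨k, hk, h2⟩ := (H1.isSylowIn_of_le S (le_sup_right (a := K))).exists_mul_normalizer hm
  rw [← mul_inv_cancel_left k m]
  exact mul_mem_sup hk (H1.le_normalizer_sup le_normalizer_of_normal le_rfl h2)

theorem chain_eq (hG : IsPSolvable p Γ) (S : Sylow p Γ) (L : Subgroup Γ) [L.Normal]
    (f : Subgroup Γ → ℕ) (hf : ∀ (L' K C X Y M N : Subgroup Γ), L'.Normal → L ≤ L' →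
      MS p S L' K C X Y M N → f M = f N) :
    f ⊤ = f (normalizer ((L ⊔ S : Subgroup Γ) : Set Γ)) := by
  obtain ⟨n, H, h0, h1, h2, h3, h4⟩ := hG
  suffices h : ∀ i, f (normalizer ((L ⊔ H i ⊔ S : Subgroup Γ) : Set Γ)) =
      f (normalizer ((L ⊔ S : Subgroup Γ) : Set Γ)) by
    simpa [h1] using h (Fin.last n)
  refine Fin.induction (by rw [h0, sup_bot_eq]) fun i ih => ih ▸ ?_
  have h5 : H i.castSucc ≤ H i.succ := h2 i.castSucc_le_succ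
  rcases h4 i with ⟨m, h6⟩ | h6
  · congr 3
    refine le_antisymm (sup_le (sup_le (le_sup_left.trans le_sup_left) fun x hx => ?_) le_sup_right)
      (sup_le_sup_right (sup_le_sup_left h5 _) _)
    have h7 := (H1.isSylowIn_top S).inf le_top (N := H i.succ) le_normalizer_of_normal
    obtain ⟨a, ha, b, hb, rfl⟩ := H1.exists_mul_of_coprime_relIndex h5 h7.1
      (h6 ▸ ((Nat.Prime.coprime_iff_not_dvd hp.1).2 h7.3).pow_left m) hx
    exact mul_mem_sup (mem_sup_right ha) hb.1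
  · obtain ⟨C, X, Y, D⟩ := exists_MS S (L := L ⊔ H i.castSucc) (K := L ⊔ H i.succ)
      (sup_le_sup_left h5 _) fun h => (Nat.Prime.coprime_iff_not_dvd hp.1).1 h6.symm (h.trans (by
        rw [show L ⊔ H i.succ = L ⊔ H i.castSucc ⊔ H i.succ by rw [sup_assoc, sup_eq_right.2 h5],
          relIndex_sup_left]
        exact relIndex_dvd_of_le_left _ le_sup_right))
    exact hf _ _ _ _ _ _ _ inferInstance le_sup_left D

namespace MS
variable (D : MS p P L K C X Y M N)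
include D

omit hp in
theorem index_eq' : X.relIndex M = Y.relIndex N := by
  rw [← D.sup, H1.relIndex_sup_of_le_normalizer (D.NM.trans D.MX), ← inf_relIndex_right,
    le_antisymm D.infN (le_inf D.YX D.YN)]

theorem R_cjI {η : IrrCharacter X} {ψ : IrrCharacter Y} (h : D.R η ψ) {n : Γ} (hn : n ∈ N) :
    D.R (cjI (D.MX (D.NM hn)) η) (cjI (D.NY hn) ψ) := h.cjI (D.NK hn) (D.NC hn) _ _

theorem card_eq (Q : IrrCharacter M → Prop) (Q' : IrrCharacter N → Prop)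
    (J : IrrCharacter X → IrrCharacter Y → Prop) (hJ : ∀ η ψ, J η ψ → D.R η ψ)
    (h1 : ∀ χ, Q χ → ∃ η ψ, J η ψ ∧ gmul D.XM χ.1 η.1 ≠ 0)
    (h2 : ∀ χ, Q' χ → ∃ η ψ, J η ψ ∧ gmul D.YN χ.1 ψ.1 ≠ 0)
    (h3 : ∀ η ψ, J η ψ → Nat.card {χ // Q χ ∧ gmul D.XM χ.1 η.1 ≠ 0} =
      Nat.card {χ // Q' χ ∧ gmul D.YN χ.1 ψ.1 ≠ 0}) : Nat.card {χ // Q χ} = Nat.card {χ // Q' χ} := by
  have hN := D.NM.trans D.MX
  refine card_eq_of_rel (I := {i : IrrCharacter X × IrrCharacter Y // J i.1 i.2})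
    ⟨fun i j => ∃ n, ∃ hn : n ∈ N, cjI (hN hn) i.1.1 = j.1.1,
      fun i => ⟨1, one_mem _, cjI_of_mem (one_mem _) _ _⟩, fun ⟨n, hn, h⟩ => ⟨n⁻¹, inv_mem hn, ?_⟩,
      fun ⟨n, hn, h⟩ ⟨m, hm, h'⟩ => ⟨n * m, mul_mem hn hm, by rw [← h', ← h, cjI_cjI]⟩⟩
    (fun χ i => gmul D.XM χ.1.1 i.1.1.1 ≠ 0) (fun χ i => gmul D.YN χ.1.1 i.1.2.1 ≠ 0)
    (fun χ => let ⟨η, ψ, h, h'⟩ := h1 _ χ.2; ⟨⟨(η, ψ), h⟩, h'⟩) (fun χ i j h => ⟨fun h' => ?_, ?_⟩)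
    (fun χ => let ⟨η, ψ, h, h'⟩ := h2 _ χ.2; ⟨⟨(η, ψ), h⟩, h'⟩) (fun χ i j h => ⟨fun h' => ?_, ?_⟩)
    fun i => ?_
  · rw [← h, cjI_cjI]; exact cjI_of_mem (by simp) _ _
  · obtain ⟨m, hm, h4⟩ := exists_cjI_eq D.XM D.MX h h'
    obtain ⟨x, hx, n, hn, rfl⟩ := (H1.mem_sup_of_le_normalizer_left hN).1 (D.sup ▸ hm)
    exact ⟨n, hn, by rw [← h4, ← cjI_cjI (le_normalizer hx) (hN hn), cjI_of_mem hx]⟩
  · rintro ⟨n, hn, h4⟩
    rwa [← h4, gmul_cjI_right D.XM D.MX _ _ (D.NM hn)]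
  · obtain ⟨n, hn, h4⟩ := exists_cjI_eq D.YN D.NY h h'
    exact ⟨n, hn, ((hJ _ _ j.2).eq_iff (D.R_cjI (hJ _ _ i.2) hn)).2 h4⟩
  · rintro ⟨n, hn, h4⟩
    rwa [← ((hJ _ _ j.2).eq_iff (D.R_cjI (hJ _ _ i.2) hn)).1 h4, gmul_cjI_right D.YN D.NY _ _ hn]
  · exact (Nat.card_congr (Equiv.subtypeSubtypeEquivSubtypeInter Q
      fun χ => gmul D.XM χ.1 i.1.1.1 ≠ 0)).trans ((h3 _ _ i.2).trans (Nat.card_congr
        (Equiv.subtypeSubtypeEquivSubtypeInter Q' fun χ => gmul D.YN χ.1 i.1.2.1 ≠ 0)).symm)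

end MS

theorem card_real_over (h : X ≤ M) (hM : M ≤ normalizer (X : Set Γ)) (hi : ¬ 2 ∣ X.relIndex M)
    {η : IrrCharacter X} (h1 : ∀ x, (η.1 x).im = 0) (h2 : ¬ 2 ∣ charDegree η.1) :
    Nat.card {χ : IrrCharacter M // ((∀ x, (χ.1 x).im = 0) ∧ ¬ 2 ∣ charDegree χ.1) ∧
      gmul h χ.1 η.1 ≠ 0} = 1 := by
  haveI := Fintype.ofFinite X
  haveI := Fintype.ofFinite M
  obtain ⟨χ, h3, h4, h5, h6⟩ := exists_real_over (embN h hM) (by
    rwa [embN_index, ← Nat.not_even_iff_odd, even_iff_two_dvd]) η.2 h1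
  have h7 : gmul h χ η.1 ≠ 0 := (gmul_ne_zero_iff h h3.isCharacter η.2.isCharacter).2
    (h4.trans_ne one_ne_zero)
  refine Nat.card_eq_one_iff_exists.2 ⟨⟨⟨χ, h3⟩, ⟨h5,
    mt (not_dvd_charDegree_iff Nat.prime_two h hM hi (χ := ⟨χ, h3⟩) h7).1 h2⟩, h7⟩, fun χ' => ?_⟩
  exact Subtype.ext (Subtype.ext (h6 _ χ'.1.2
    ((gmul_ne_zero_iff h χ'.1.2.isCharacter η.2.isCharacter).1 χ'.2.2) χ'.2.1.1))

theorem exists_real_under (h : X ≤ M) (hM : M ≤ normalizer (X : Set Γ)) (hi : ¬ 2 ∣ X.relIndex M)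
    {χ : IrrCharacter M} (h1 : (∀ x, (χ.1 x).im = 0) ∧ ¬ 2 ∣ charDegree χ.1) :
    ∃ η : IrrCharacter X, (∀ x, (η.1 x).im = 0) ∧ ¬ 2 ∣ charDegree η.1 ∧ gmul h χ.1 η.1 ≠ 0 := by
  haveI := Fintype.ofFinite X
  haveI := Fintype.ofFinite M
  obtain ⟨η, h2⟩ := exists_under h χ
  exact ⟨η, real_under (embN h hM) (by rwa [embN_index, ← Nat.not_even_iff_odd, even_iff_two_dvd])
    χ.2 h1.1 η.2 ((gmul_ne_zero_iff h χ.2.isCharacter η.2.isCharacter).1 h2),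
    mt (not_dvd_charDegree_iff Nat.prime_two h hM hi h2).2 h1.2, h2⟩

theorem card_irr_top (Q : (Γ → ℂ) → Prop) (Q' : ((⊤ : Subgroup Γ) → ℂ) → Prop)
    (h : ∀ χ : Γ → ℂ, Q χ ↔ Q' fun x => χ x) :
    Nat.card {χ : IrrCharacter Γ // Q χ.1} = Nat.card {χ : IrrCharacter (⊤ : Subgroup Γ) // Q' χ.1} :=
  Nat.card_congr (Equiv.subtypeEquiv ⟨fun χ => ⟨_, χ.2.comp_equiv topEquiv⟩,
    fun χ => ⟨_, χ.2.comp_equiv topEquiv.symm⟩, fun _ => rfl, fun _ => rfl⟩ fun χ => h χ.1)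

theorem card_real_odd_eq (hG : IsPSolvable 2 Γ) (S : Sylow 2 Γ) :
    Nat.card {χ : IrrCharacter Γ // (∀ x, (χ.1 x).im = 0) ∧ ¬ 2 ∣ charDegree χ.1} =
      Nat.card {χ : IrrCharacter (normalizer ((S : Subgroup Γ) : Set Γ)) //
        (∀ x, (χ.1 x).im = 0) ∧ ¬ 2 ∣ charDegree χ.1} := by
  have h := chain_eq hG S ⊥ (fun W => Nat.card {χ : IrrCharacter W //
    (∀ x, (χ.1 x).im = 0) ∧ ¬ 2 ∣ charDegree χ.1}) fun L K C X Y M N _ _ D => by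
      refine D.card_eq _ _ (fun η ψ => D.R η ψ ∧ ∀ x, (η.1 x).im = 0) (fun _ _ h => h.1)
        (fun χ h => ?_) (fun χ h => ?_) fun η ψ h => ?_
      · obtain ⟨η, h1, h2, h3⟩ := exists_real_under D.XM D.MX D.idx h
        obtain ⟨ψ, h4⟩ := D.exists_right h2
        exact ⟨η, ψ, ⟨h4, h1⟩, h3⟩
      · obtain ⟨ψ, h1, h2, h3⟩ := exists_real_under D.YN D.NY (D.index_eq' ▸ D.idx) h
        obtain ⟨η, h4⟩ := D.exists_left h2
        exact ⟨η, ψ, ⟨h4, h4.real_iff.2 h1⟩, h3⟩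
      · rw [card_real_over D.XM D.MX D.idx h.2 h.1.degX, card_real_over D.YN D.NY
          (D.index_eq' ▸ D.idx) (h.1.real_iff.1 h.2) h.1.degY]
  rw [bot_sup_eq] at h
  exact (card_irr_top (fun χ => (∀ x, (χ x).im = 0) ∧ ¬ 2 ∣ charDegree χ)
    (fun χ => (∀ x, (χ x).im = 0) ∧ ¬ 2 ∣ charDegree χ) fun χ =>
      and_congr ⟨fun h x => h x, fun h x => h ⟨x, trivial⟩⟩ Iff.rfl).trans h

end Cfsg.Agent.H8
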