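import Mathlib
import Cfsg.Agent.H8.McK2
import Cfsg.Agent.H8.Fong2

/-!
Gallagher's count of the characters over an invariant character.
-/

set_option autoImplicit false
set_option linter.dupNamespace false

namespace Cfsg.Agent.H8

open Cfsg Cfsg.Agent.H4 Cfsg.Agent.H5 Subgroup
open scoped ComplexConjugate commutatorElement

theorem card_mul_sum_comp {G Q : Type*} [Group G] [Group Q] [Fintype G] [Fintype Q] (F : G →* Q)
    (hF : Function.Surjective F) (g : Q → ℂ) :
    (Nat.card Q : ℂ) * ∑ x, g (F x) = Nat.card G * ∑ a, g a := by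
  have h := inner_comp_of_surjective F hF g fun _ => 1
  simp only [classInner, map_one, mul_one] at h
  have h1 := card_ne_zero_C G
  have h2 := card_ne_zero_C Q
  field_simp at h
  rwa [mul_comm]

section lin
variable {M Γ Q : Type*} [Group M] [Group Γ] [Group Q] (E : NEmb M Γ) (ν : M →* ℂˣ)

/-- good elements for an invariant linear character -/
def LGood (γ : Γ) : Prop := ∀ δ m, E.f m * γ = δ * γ * δ⁻¹ → ν m = 1

variable {ν} (hν : ∀ g m, ν (E.act g m) = ν m)
include hν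

theorem LGood.f_mul {γ : Γ} (h : LGood E ν γ) (n : M) : LGood E ν (E.f n * γ) := fun δ m h1 => by
  have h2 := h δ ((E.act δ n)⁻¹ * m * n) (by
    rw [map_mul, map_mul, map_inv, E.f_act, mul_assoc, mul_assoc, h1]; group)
  rwa [map_mul, map_mul, map_inv, hν, mul_right_comm, inv_mul_cancel, one_mul] at h2

open Classical in
theorem sum_good [Fintype M] [Fintype Γ] (F : Γ →* Q) (hF : F.ker = E.f.range) (γ : Γ) :
    ∑ δ, ∑ m, (if E.f m * γ = δ * γ * δ⁻¹ then conj (ν m : ℂ) else 0) =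
      if LGood E ν γ then ∑ δ, if F δ * F γ = F γ * F δ then 1 else 0 else 0 := by
  split_ifs with h
  · refine Finset.sum_congr rfl fun δ _ => ?_
    split_ifs with h1
    · obtain ⟨m, hm⟩ : δ * γ * δ⁻¹ * γ⁻¹ ∈ E.f.range := by
        rw [← hF, MonoidHom.mem_ker]; simp [h1]
      have h2 : E.f m * γ = δ * γ * δ⁻¹ := by rw [hm]; group
      rw [Finset.sum_eq_single m (fun n _ hn => if_neg fun h3 =>
        hn (E.inj (mul_right_cancel (h3.trans h2.symm)))) (by simp), if_pos h2, h δ m h2]; simp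
    · refine Finset.sum_eq_zero fun m _ => if_neg fun h2 => h1 ?_
      have h3 : F (E.f m) = 1 := by rw [← MonoidHom.mem_ker, hF]; exact ⟨m, rfl⟩
      have h4 := congrArg F h2
      rw [map_mul, h3, one_mul, map_mul, map_mul, map_inv, eq_mul_inv_iff_mul_eq] at h4
      exact h4.symm
  · obtain ⟨δ₀, m₀, h1, h2⟩ : ∃ δ m, E.f m * γ = δ * γ * δ⁻¹ ∧ ν m ≠ 1 := by
      simpa [LGood] using h
    refine eq_zero_of_mul_eq_self_left (b := conj (ν m₀ : ℂ)) (fun h3 => h2 (Units.ext (by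
      simpa using congrArg conj h3))) ?_
    conv_rhs => rw [← Equiv.sum_comp (Equiv.mulRight δ₀)]
    rw [Finset.mul_sum]
    refine Finset.sum_congr rfl fun δ _ => ?_
    conv_rhs => rw [← Equiv.sum_comp (Equiv.mulLeft (E.act δ m₀))]
    rw [Finset.mul_sum]
    refine Finset.sum_congr rfl fun m _ => ?_
    have h3 : E.f (E.act δ m₀ * m) * γ = δ * δ₀ * γ * (δ * δ₀)⁻¹ ↔ E.f m * γ = δ * γ * δ⁻¹ := by
      rw [show δ * δ₀ * γ * (δ * δ₀)⁻¹ = δ * (δ₀ * γ * δ₀⁻¹) * δ⁻¹ by group, ← h1, map_mul, E.f_act,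
        show δ * (E.f m₀ * γ) * δ⁻¹ = δ * E.f m₀ * δ⁻¹ * (δ * γ * δ⁻¹) by group, mul_assoc,
        mul_right_inj]
    simp only [Equiv.coe_mulRight, Equiv.coe_mulLeft, h3]
    simp [hν]

open Classical in
theorem sum_over [Fintype M] [Fintype Γ] :
    ∑ γ, ∑ δ, ∑ m, (if E.f m * γ = δ * γ * δ⁻¹ then conj (ν m : ℂ) else 0) =
      Nat.card {β : IrrCharacter Γ // classInner (fun m => β.1 (E.f m)) (fun m => ν m) ≠ 0} *
        Nat.card M * Nat.card Γ := by
  have h1 : ∀ (β : IrrCharacter Γ) γ, ∑ m, conj (ν m : ℂ) * β.1 (E.f m * γ) =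
      if classInner (fun m => β.1 (E.f m)) (fun m => ν m) ≠ 0 then Nat.card M * β.1 γ else 0 := by
    intro β γ
    have h := congrFun (projOver_eq E (isIrrCharacter_linear ν) (fun g n => by rw [hν])
      β.2.isClassFunction) γ
    rw [Finset.sum_eq_single β (fun φ _ hφ => by simp [irr_classInner, hφ.symm]) (by simp),
      β.2.classInner_self, projOver] at h
    simp only [map_one, Units.val_one, mul_assoc, ← Finset.mul_sum] at h
    rw [one_div, inv_mul_eq_iff_eq_mul₀ (card_ne_zero_C M)] at h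
    rw [h]
    split_ifs <;> simp
  have h2 : ∀ γ, ∑ δ, ∑ m, (if E.f m * γ = δ * γ * δ⁻¹ then conj (ν m : ℂ) else 0) =
      ∑ β : IrrCharacter Γ, if classInner (fun m => β.1 (E.f m)) (fun m => ν m) ≠ 0 then
        Nat.card M * (β.1 γ * conj (β.1 γ)) else 0 := fun γ => by
    rw [Finset.sum_comm]
    calc _ = ∑ m, conj (ν m : ℂ) * ∑ β : IrrCharacter Γ, β.1 (E.f m * γ) * conj (β.1 γ) :=
          Finset.sum_congr rfl fun m _ => by
            rw [sum_irr_mul_conj, Nat.card_eq_fintype_card, Fintype.card_subtype, ← Finset.sum_filter]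
            simp [mul_comm, eq_comm]
      _ = _ := by
        simp only [Finset.mul_sum]
        rw [Finset.sum_comm]
        refine Finset.sum_congr rfl fun β _ => ?_
        simp only [← mul_assoc, ← Finset.sum_mul, h1, ite_mul, zero_mul]
  simp only [h2]
  rw [Finset.sum_comm, Nat.card_eq_fintype_card (α := {β // _}), Fintype.card_subtype, Finset.card_filter,
    Nat.cast_sum, Finset.sum_mul, Finset.sum_mul]
  refine Finset.sum_congr rfl fun β _ => ?_
  split_ifs
  · rw [← Finset.mul_sum, ← card_mul_classInner, β.2.classInner_self]; simp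
  · simp

open Classical in
theorem lin_count [Fintype M] [Fintype Γ] [Fintype Q] (F : Γ →* Q) (hF : F.ker = E.f.range)
    (hs : Function.Surjective F) (P : Q → Prop) (hP : ∀ γ, P (F γ) ↔ LGood E ν γ) :
    Nat.card {β : IrrCharacter Γ // classInner (fun m => β.1 (E.f m)) (fun m => ν m) ≠ 0} *
      Nat.card Q = ∑ a, if P a then Nat.card (centralizer {a}) else 0 := by
  have h1 := sum_over E hν
  have h2 : (Nat.card Γ : ℂ) = Nat.card M * Nat.card Q := by
    rw [← E.card_mul_index_C, ← hF, index_ker, MonoidHom.range_eq_top.2 hs, card_top]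
  have h3 := card_mul_sum_comp F hs fun a => if P a then Nat.card (centralizer {a}) else 0
  have h4 : ∀ γ, (Nat.card Q : ℂ) * ∑ δ, ∑ m, (if E.f m * γ = δ * γ * δ⁻¹ then conj (ν m : ℂ) else 0)
      = Nat.card Γ * if P (F γ) then Nat.card (centralizer {F γ}) else 0 := fun γ => by
    rw [sum_good E hν F hF, hP]
    split_ifs
    · rw [card_mul_sum_comp F hs fun a => if a * F γ = F γ * a then 1 else 0, Finset.sum_boole,
        ← Fintype.card_subtype, ← Nat.card_eq_fintype_card]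
      exact congrArg (fun n : ℕ => _ * (n : ℂ)) (Nat.card_congr (Equiv.subtypeEquivRight fun a =>
        mem_centralizer_singleton_iff.symm))
    · simp
  have h5 := (Finset.mul_sum _ _ _).symm.trans (congrArg ((Nat.card Q : ℂ) * ·) h1)
  rw [Finset.sum_congr rfl fun γ _ => h4 γ, ← Finset.mul_sum] at h5
  push_cast at h5
  have h6 := card_ne_zero_C Γ
  refine Nat.cast_injective (R := ℂ) (mul_left_cancel₀ (mul_ne_zero h6 h6) ?_)
  push_cast
  linear_combination (Nat.card Γ : ℂ) * h3 - Nat.card Q * h5 + (Nat.card Γ : ℂ) * Nat.card Q *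
    Nat.card {β : IrrCharacter Γ // classInner (fun m => β.1 (E.f m)) (fun m => ν m) ≠ 0} * h2

theorem LGood.conj {γ : Γ} (h : LGood E ν γ) (x : Γ) : LGood E ν (x * γ * x⁻¹) := fun δ m h1 => by
  rw [← hν x⁻¹]
  refine h (x⁻¹ * δ * x) _ ?_
  rw [E.f_act, show x⁻¹ * E.f m * x⁻¹⁻¹ * γ = x⁻¹ * (E.f m * (x * γ * x⁻¹)) * x by group, h1]; group

theorem exists_lin_ext [Finite Γ] {γ δ : Γ} {m : M} (h1 : E.f m * γ = δ * γ * δ⁻¹) (h2 : ν m = 1)
    (h3 : ∀ V : Subgroup Γ, E.f.range ≤ V → γ ∈ V → δ ∈ V → V = ⊤) :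
    ∃ μ : Γ →* ℂˣ, ∀ m, μ (E.f m) = ν m := by
  haveI := Fintype.ofFinite Γ
  haveI := @Fintype.ofFinite _ E.finite
  obtain ⟨β, hβ, h4⟩ := exists_irr_over_hom E.f E.inj (isIrrCharacter_linear ν)
  obtain ⟨e, -, -, h5⟩ := E.clifford_of_invariant_nat hβ (isIrrCharacter_linear ν)
    (fun g n => by rw [hν]) h4
  haveI := hβ.isCharacter.charKer_normal
  let q := QuotientGroup.mk' (charKer β)
  have h6 : ∀ m, ν m = 1 → q (E.f m) = 1 := fun m hm => (QuotientGroup.eq_one_iff _).2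
    (hβ.isCharacter.mem_charKer.2 (by rw [h5, hm, ← map_one E.f, h5, map_one]))
  have h7 : E.f.range ≤ (center _).comap q := by
    rintro _ ⟨n, rfl⟩
    refine mem_center_iff.2 fun w => ?_
    obtain ⟨w, rfl⟩ := QuotientGroup.mk'_surjective _ w
    have h7 := h6 (E.act w n * n⁻¹) (by simp [hν])
    rw [map_mul, E.f_act, map_inv, map_mul, map_mul, map_mul, map_inv, map_inv, mul_inv_eq_one,
      mul_inv_eq_iff_eq_mul] at h7
    exact h7
  have h8 : q δ * q γ = q γ * q δ := by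
    have h8 := congrArg q h1
    rw [map_mul, h6 m h2, one_mul, map_mul, map_mul, map_inv, eq_mul_inv_iff_mul_eq] at h8
    exact h8.symm
  have h9 : ∀ x, q γ * q x = q x * q γ → q δ * q x = q x * q δ → x ∈ (center _).comap q :=
    fun x hx hx' => mem_center_iff.2 fun w => by
      obtain ⟨w, rfl⟩ := QuotientGroup.mk'_surjective _ w
      exact mem_centralizer_singleton_iff.1 (show w ∈ (centralizer {q x}).comap q from
        h3 _ (h7.trans (comap_mono (center_le_centralizer _))) (mem_centralizer_singleton_iff.2 hx)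
          (mem_centralizer_singleton_iff.2 hx') ▸ trivial)
  have h10 := h3 _ h7 (h9 γ rfl h8) (h9 δ h8.symm rfl)
  have h11 := hβ.commutator_le_charKer_iff.1 (commutator_le.2 fun a _ b _ =>
    (QuotientGroup.eq_one_iff _).1 (by
      change q _ = 1
      rw [map_commutatorElement, commutatorElement_eq_one_iff_mul_comm]
      exact mem_center_iff.1 (show b ∈ (center _).comap q from h10 ▸ trivial) _))
  obtain ⟨μ, rfl⟩ := hβ.isCharacter.exists_linear h11
  have h12 := h5 1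
  simp only [map_one, Units.val_one, mul_one] at h12
  exact ⟨μ, fun m => Units.ext (by simpa [← h12] using h5 m)⟩

end lin

section inv
variable {N G Q : Type*} [Group N] [Group G] [Group Q] (E : NEmb N G) {θ : N → ℂ}

/-- `θ` extends to `U` -/
def ExtU (θ : N → ℂ) (U : Subgroup G) : Prop :=
  ∃ η : U → ℂ, IsCharacter U η ∧ ∀ n (h : E.f n ∈ U), η ⟨E.f n, h⟩ = θ n

/-- good elements of the quotient -/
def GoodQ (θ : N → ℂ) (f : G →* Q) (a : Q) : Prop :=
  ∀ b, a * b = b * a → ExtU E θ ((Subgroup.closure {a, b}).comap f)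

theorem card_over_cover {Γ Z : Type*} [Group Γ] [Group Z] [Finite Γ] [Fintype N] [Fintype Z]
    {E : NEmb N G} (C : Cover E θ Γ Z) (hθ : IsIrrCharacter N θ) :
    Nat.card {χ : IrrCharacter G // classInner (fun n => χ.1 (E.f n)) θ ≠ 0} =
      Nat.card {β : IrrCharacter Γ //
        classInner (fun m => β.1 (C.embNZ.f m)) (fun m => C.nu m) ≠ 0} := by
  haveI := Fintype.ofFinite Γ
  choose β h1 h2 h3 using fun χ : {χ : IrrCharacter G // classInner (fun n => χ.1 (E.f n)) θ ≠ 0} =>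
    C.exists_factor hθ χ.1.2 χ.2
  have h4 : ∀ n, C.ι n = C.embNZ.f (n, 1) := fun n => by simp [C.embNZ_f]
  have h5 : ∀ n, C.nu (n, 1) = 1 := fun n => by simp [C.nu_apply]
  refine Nat.card_eq_of_bijective (fun χ => ⟨⟨β χ, h1 χ⟩, ?_⟩) ⟨fun χ χ' h => ?_, fun b => ?_⟩
  · rw [show (fun m => β χ (C.embNZ.f m)) = β χ 1 • fun m => (C.nu m : ℂ) from
      funext fun m => by simpa [mul_comm] using h2 χ m 1, classInner_smul_left,
      (isIrrCharacter_linear _).classInner_self, mul_one]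
    exact (h1 χ).apply_one_ne_zero
  · refine Subtype.ext (Subtype.ext (funext fun g => ?_))
    obtain ⟨γ, rfl⟩ := C.π_surj g
    rw [h3, h3, show β χ = β χ' from congrArg (·.1.1) h]
  · obtain ⟨e, -, -, h6⟩ := C.embNZ.clifford_of_invariant_nat b.1.2 (isIrrCharacter_linear _)
      (fun g n => by rw [C.nu_inv]) b.2
    have h7 := h6 1
    simp only [map_one, Units.val_one, mul_one] at h7
    obtain ⟨χ, h8, h9⟩ := C.exists_of_factor hθ b.1.2 fun x => by rw [h6, h7, mul_comm]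
    refine ⟨⟨⟨χ, h8⟩, ?_⟩, Subtype.ext (Subtype.ext (C.embN.gallagher_inj hθ C.isChar C.hat_ι (h1 _)
      b.1.2 (fun n => ?_) (fun n => ?_) (funext fun γ => (h3 _ γ).symm.trans (h9 γ))))⟩
    · rw [show (fun n => χ (E.f n)) = b.1.1 1 • θ from funext fun n => by
        rw [← C.π_ι, h9, C.hat_ι, h4, h6, h5, h7]; simp, classInner_smul_left,
        hθ.classInner_self, mul_one]
      exact b.1.2.apply_one_ne_zero
    · exact (congrArg _ ((h4 n).trans (mul_one _).symm)).trans ((h2 _ _ _).trans (by simp [h5]))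
    · exact (congrArg _ (h4 n)).trans (by rw [h6, h5, h7]; simp)

open Classical in
theorem gallagher_count [Finite G] [Fintype N] [Fintype Q] (hθ : IsIrrCharacter N θ)
    (hinv : ∀ g n, θ (E.act g n) = θ n) (f : G →* Q) (hf : f.ker = E.f.range)
    (hs : Function.Surjective f) :
    Nat.card {χ : IrrCharacter G // classInner (fun n => χ.1 (E.f n)) θ ≠ 0} * Nat.card Q =
      ∑ a, if GoodQ E θ f a then Nat.card (centralizer {a}) else 0 := by
  obtain ⟨Γ, _, _, Z, _, ⟨C⟩⟩ := exists_cover' E hθ hinv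
  haveI := Fintype.ofFinite Γ
  haveI := @Fintype.ofFinite _ C.finite_Z
  have h0 : (f.comp C.π).ker = C.embNZ.f.range := by rw [C.embNZ_range, ← hf]; rfl
  rw [card_over_cover C hθ]
  refine lin_count _ C.nu_inv (f.comp C.π) h0 (hs.comp C.π_surj) _ fun γ => ?_
  have h1 : ∀ (A : Subgroup Q) n, E.f n ∈ A.comap f := fun A n => by
    rw [mem_comap, show f (E.f n) = 1 from (hf ▸ ⟨n, rfl⟩ : E.f n ∈ f.ker)]; exact one_mem _
  have h2 : ∀ A : Subgroup Q, ExtU E θ (A.comap f) ↔ ∃ μ : (A.comap f).comap C.π →* ℂˣ,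
      ∀ x, μ ((C.restrict _ (h1 A)).embNZ.f x) = C.nu x := fun A =>
    Iff.trans ⟨fun ⟨η, h2, h3⟩ => ⟨η, (E.restrict _ (h1 A)).irr_of_ext hθ h2 fun n => h3 n _,
      fun n => h3 n _⟩, fun ⟨η, h2, h3⟩ => ⟨η, h2.isCharacter, fun n _ => h3 n⟩⟩
      (((C.restrict _ (h1 A)).ext_iff_mem hθ).trans (NEmb.mem_resL_range _))
  refine ⟨fun h δ m h3 => ?_, fun h b hb => (h2 _).2 ?_⟩
  · obtain ⟨μ, h4⟩ := (h2 _).1 (h ((f.comp C.π) δ) (by
      have h4 := congrArg (f.comp C.π) h3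
      rwa [map_mul, show f.comp C.π (C.embNZ.f m) = 1 from (h0 ▸ ⟨m, rfl⟩ : _ ∈ (f.comp C.π).ker),
        one_mul, map_mul, map_mul, map_inv, eq_mul_inv_iff_mul_eq] at h4))
    have h5 := congrArg μ (show (C.restrict _ (h1 _)).embNZ.f m * ⟨γ, Subgroup.subset_closure (by simp)⟩ =
      ⟨δ, Subgroup.subset_closure (by simp)⟩ * ⟨γ, Subgroup.subset_closure (by simp)⟩ *
        (⟨δ, Subgroup.subset_closure (by simp)⟩)⁻¹ from Subtype.ext h3)
    rwa [map_mul, map_mul, map_mul, map_inv, h4, mul_inv_cancel_comm, mul_eq_right] at h5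
  · obtain ⟨δ, rfl⟩ := (hs.comp C.π_surj) b
    obtain ⟨m, hm⟩ : δ * γ * δ⁻¹ * γ⁻¹ ∈ C.embNZ.f.range := by
      rw [← h0, MonoidHom.mem_ker, map_mul, map_mul, map_mul, map_inv, map_inv]
      erw [← hb]; simp
    have h3 : C.embNZ.f m * γ = δ * γ * δ⁻¹ := by rw [hm]; group
    refine exists_lin_ext _ (C.restrict _ (h1 _)).nu_inv (γ := ⟨γ, Subgroup.subset_closure (by simp)⟩)
      (δ := ⟨δ, Subgroup.subset_closure (by simp)⟩) (Subtype.ext h3) (h δ m h3) fun V h4 h5 h6 => ?_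
    have h7 : (f.comp C.π).ker ≤ V.map (Subgroup.subtype _) := by
      rw [h0]
      rintro _ ⟨x, rfl⟩
      exact ⟨_, h4 ⟨x, rfl⟩, rfl⟩
    refine eq_top_iff.2 fun x _ => ?_
    have h8 : Subgroup.closure {f.comp C.π γ, (f ∘ C.π) δ} ≤ (V.map (Subgroup.subtype _)).map (f.comp C.π) :=
      (Subgroup.closure_le _).2 (Set.insert_subset ⟨_, ⟨_, h5, rfl⟩, rfl⟩
        (Set.singleton_subset_iff.2 ⟨_, ⟨_, h6, rfl⟩, rfl⟩))
    obtain ⟨y, hy, h9⟩ := comap_map_eq_self h7 ▸ comap_mono (f := f.comp C.π) h8 x.2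
    exact Subtype.ext h9 ▸ hy

theorem card_over_inertia [Finite G] [Fintype N] (hθ : IsIrrCharacter N θ) (T : Subgroup G)
    (hNT : ∀ n, E.f n ∈ T) (hT : E.inertia θ ≤ T) :
    Nat.card {ψ : IrrCharacter T // classInner (fun n => ψ.1 ⟨E.f n, hNT n⟩) θ ≠ 0} =
      Nat.card {χ : IrrCharacter G // classInner (fun n => χ.1 (E.f n)) θ ≠ 0} := by
  haveI := Fintype.ofFinite G
  refine Nat.card_eq_of_bijective (fun ψ => ⟨⟨_, (E.isIrr_indFun_of_inertia_le hθ T hNT hT ψ.1.2
    ψ.2).1⟩, (E.isIrr_indFun_of_inertia_le hθ T hNT hT ψ.1.2 ψ.2).2.trans_ne ψ.2⟩)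
    ⟨fun ψ ψ' h => Subtype.ext (Subtype.ext (E.eq_of_indFun_eq_of_inertia_le hθ T hNT hT ψ.1.2
      ψ'.1.2 ψ.2 ψ'.2 (congrArg (·.1.1) h))), fun χ => ?_⟩
  obtain ⟨ψ, h1, h2, h3⟩ := E.exists_indFun_eq_of_inertia_le hθ T hNT hT χ.1.2 χ.2
  exact ⟨⟨⟨ψ, h1⟩, h3.trans_ne χ.2⟩, Subtype.ext (Subtype.ext h2)⟩

theorem extU_restrict {T : Subgroup G} (hNT : ∀ n, E.f n ∈ T) (V : Subgroup T) :
    ExtU (E.restrict T hNT) θ V ↔ ExtU E θ (V.map T.subtype) := by
  let e := equivMapOfInjective V T.subtype T.subtype_injective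
  refine ⟨fun ⟨η, h1, h2⟩ => ⟨_, h1.comp e.symm.toMonoidHom, fun n h => ?_⟩,
    fun ⟨η, h1, h2⟩ => ⟨_, h1.comp e.toMonoidHom, fun n h => h2 n _⟩⟩
  obtain ⟨x, hx, h3⟩ := h
  have h4 : (E.restrict T hNT).f n ∈ V := (Subtype.ext h3 : x = (E.restrict T hNT).f n) ▸ hx
  exact (congrArg η (e.symm_apply_eq.2 (Subtype.ext rfl))).trans (h2 n h4)

open Classical in
theorem gallagher_count' [Finite G] [Fintype N] (hθ : IsIrrCharacter N θ) (f : G →* Q)
    (hf : f.ker = E.f.range) (A : Subgroup Q) [Fintype A] (hA : (E.inertia θ).map f = A)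
    (P : A → Prop) (hP : ∀ a, P a ↔ ∀ b : A, a * b = b * a →
      ExtU E θ ((Subgroup.closure {(a : Q), (b : Q)}).comap f)) :
    Nat.card {χ : IrrCharacter G // classInner (fun n => χ.1 (E.f n)) θ ≠ 0} * Nat.card A =
      ∑ a, if P a then Nat.card (centralizer {a}) else 0 := by
  have hm := E.f_mem_inertia hθ.isClassFunction
  have h0 : f.ker ≤ E.inertia θ := hf ▸ E.range_le_inertia hθ.isClassFunction
  let g : E.inertia θ →* A := (f.comp (E.inertia θ).subtype).codRestrict A fun t =>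
    hA.le ⟨t, t.2, rfl⟩
  rw [← card_over_inertia E hθ _ hm le_rfl]
  refine (gallagher_count (E.restrict _ hm) hθ (fun t => t.2) g ?_ fun a => ?_).trans
    (Finset.sum_congr rfl fun a _ => if_congr (Iff.trans (forall₂_congr fun b _ => ?_)
      (hP a).symm) rfl rfl)
  · rw [NEmb.restrict_range, ← hf]
    exact Subgroup.ext fun t => Subtype.ext_iff
  · obtain ⟨t, ht, h⟩ := hA.ge a.2
    exact ⟨⟨t, ht⟩, Subtype.ext h⟩
  · rw [extU_restrict, ← Set.image_pair, ← A.coe_subtype, ← MonoidHom.map_closure]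
    refine iff_of_eq (congrArg _ (le_antisymm ?_ fun x ⟨c, h1, h2⟩ => ?_))
    · rintro _ ⟨t, ht, rfl⟩
      exact ⟨_, ht, rfl⟩
    · have h3 : x ∈ E.inertia θ := comap_map_eq_self h0 ▸ (show f x ∈ _ from hA.ge (h2 ▸ c.2))
      exact ⟨⟨x, h3⟩, show g ⟨x, h3⟩ ∈ _ from (Subtype.ext h2 : c = g ⟨x, h3⟩) ▸ h1, rfl⟩

theorem card_over_transfer [Finite G] [Fintype N] {N' G' : Type*} [Group N'] [Group G'] [Finite G']
    [Fintype N'] (E' : NEmb N' G') {θ' : N' → ℂ} (hθ : IsIrrCharacter N θ)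
    (hθ' : IsIrrCharacter N' θ') (f : G →* Q) (f' : G' →* Q) (hf : f.ker = E.f.range)
    (hf' : f'.ker = E'.f.range) (hA : (E'.inertia θ').map f' = (E.inertia θ).map f)
    (h : ∀ a ∈ (E.inertia θ).map f, ∀ b ∈ (E.inertia θ).map f, a * b = b * a →
      (ExtU E θ ((Subgroup.closure {a, b}).comap f) ↔
        ExtU E' θ' ((Subgroup.closure {a, b}).comap f'))) :
    Nat.card {χ : IrrCharacter G // classInner (fun n => χ.1 (E.f n)) θ ≠ 0} =
      Nat.card {χ : IrrCharacter G' // classInner (fun n => χ.1 (E'.f n)) θ' ≠ 0} := by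
  haveI := Finite.of_surjective _ (f.subgroupMap_surjective (E.inertia θ))
  haveI := Fintype.ofFinite ((E.inertia θ).map f)
  exact Nat.eq_of_mul_eq_mul_right Nat.card_pos ((gallagher_count' E hθ f hf _ rfl _
    fun _ => Iff.rfl).trans (gallagher_count' E' hθ' f' hf' _ hA _ fun a => forall₂_congr
      fun b hb => h _ a.2 _ b.2 (congrArg Subtype.val hb)).symm)

end inv

end Cfsg.Agent.H8
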