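import Mathlib
import Cfsg.Agent.H8.McK3
import Cfsg.Agent.H1.Generation

/-!
The Okuyama-Wajima argument.
-/

set_option autoImplicit false
set_option linter.dupNamespace false

namespace Cfsg.Agent.H8

open Cfsg Cfsg.Agent.H4 Cfsg.Agent.H5 Subgroup
open scoped ComplexConjugate commutatorElement

variable {Γ : Type*} [Group Γ] [Finite Γ] {p : ℕ} [hp : Fact p.Prime]
  {P Q L K B C D H U T : Subgroup Γ}

omit hp in
theorem exists_cocyclic (hCH : C ≤ H) (hPC : P ≤ normalizer (C : Set Γ))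
    (hHP : H ≤ normalizer (P : Set Γ)) (hab : ⁅H, H⁆ ≤ C)
    (hcop : (C.relIndex H).Coprime (C.relIndex P)) (hQ : Q ≤ P) (hPQ : P ⊓ C ≤ Q) (hne : ¬ P ≤ Q) :
    ∃ D, C ≤ D ∧ D ≤ H ∧ (∃ a ∈ H, D ⊔ zpowers a = H) ∧
      ∃ t ∈ P, t ∉ Q ∧ ∀ d ∈ D, d * t * d⁻¹ * t⁻¹ ∈ C := by
  have hHC := H1.le_normalizer_of_commutator_le hab hCH
  set W := normalizer (C : Set Γ)
  let f := QuotientGroup.mk' (C.subgroupOf W)
  have hf : f.ker = C.subgroupOf W := QuotientGroup.ker_mk' _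
  have h1 : ∀ Y ≤ W, Nat.card ((Y.subgroupOf W).map f) = C.relIndex Y := fun Y hY => by
    rw [← relIndex_ker, hf, relIndex_subgroupOf hY]
  haveI : IsMulCommutative ((H.subgroupOf W).map f) := ⟨⟨by
    rintro ⟨_, a, ha, rfl⟩ ⟨_, b, hb, rfl⟩
    refine Subtype.ext (commutatorElement_eq_one_iff_mul_comm.1 ?_)
    exact (map_commutatorElement f a b).symm.trans ((QuotientGroup.eq_one_iff _).2
      (hab (commutator_mem_commutator ha hb)))⟩⟩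
  have h2 : ((H.subgroupOf W).map f).comap f = H.subgroupOf W :=
    comap_map_eq_self (hf.le.trans (subgroupOf_mono W hCH))
  by_contra h
  push Not at h
  refine hne fun t ht => ?_
  obtain ⟨q, hq, h3⟩ := H1.le_of_forall_centralizer_le (A := (H.subgroupOf W).map f)
    (K := (P.subgroupOf W).map f) (D := (Q.subgroupOf W).map f)
    ((map_mono (K' := normalizer (P.subgroupOf W : Set W)) (fun x hx => mem_normalizer_fintype
      fun y hy => H1.conj_mem_of_le_normalizer hHP hx hy)).trans (le_normalizer_map f))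
    (by rwa [h1 H hHC, h1 P hPC]) (by
      rintro B hB ⟨_, ⟨a, ha, rfl⟩, h3⟩ _ ⟨⟨t, ht, rfl⟩, h4⟩
      refine ⟨t, by_contra fun h5 => ?_, rfl⟩
      obtain ⟨_, ⟨d, hd, rfl⟩, h6⟩ := h ((B.comap f).map W.subtype)
        (fun c hc => ⟨⟨c, le_normalizer hc⟩, ker_le_comap f B (hf.ge hc), rfl⟩)
        (map_le_iff_le_comap.2 ((comap_mono hB).trans h2.le)) ⟨a, ha, by
          rw [← coe_subtype, ← MonoidHom.map_zpowers, ← Subgroup.map_sup,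
            ← map_subgroupOf_eq_of_le hHC, ← h2, ← h3, ← MonoidHom.map_zpowers,
            ← comap_sup_eq f _ _ (QuotientGroup.mk'_surjective _), comap_map_eq, sup_comm _ f.ker,
            ← sup_assoc, sup_eq_left.2 (ker_le_comap f B)]⟩ t ht h5
      refine h6 ((QuotientGroup.eq_one_iff (N := C.subgroupOf W) (d * t * d⁻¹ * t⁻¹)).1 ?_)
      change f _ = 1
      rw [map_mul, map_mul, map_mul, h4 _ hd, map_inv, map_inv]; group) ⟨⟨t, hPC ht⟩, ht, rfl⟩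
  have h4 := hPQ ⟨P.mul_mem (P.inv_mem (hQ hq)) ht,
    (QuotientGroup.eq (s := C.subgroupOf W)).1 h3⟩
  exact (mul_mem_cancel_left (Q.inv_mem hq)).1 h4

/-- `θ` extends to `U` -/
def ExtA (θ : K → ℂ) (U : Subgroup Γ) : Prop :=
  ∃ η : U → ℂ, IsCharacter U η ∧ ∀ (k : K) (h : (k : Γ) ∈ U), η ⟨k, h⟩ = θ k

omit [Finite Γ] in
theorem ExtA.mono {θ : K → ℂ} (h : ExtA θ U) (hB : B ≤ U) : ExtA θ B :=
  let ⟨_, h1, h2⟩ := h; ⟨_, h1.restrict_le hB, fun k _ => h2 k _⟩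

theorem extA_cyc (hKB : K ≤ B) (hBK : B ≤ normalizer (K : Set Γ)) {a : Γ} (hU : B ⊔ zpowers a = U)
    (ha : a ∈ normalizer (B : Set Γ)) (θ : IrrCharacter K) : ExtA θ.1 U ↔
      ∃ η : IrrCharacter B, (∀ k : K, η.1 ⟨k, hKB k.2⟩ = θ.1 k) ∧ EInv a η.1 := by
  subst hU
  have h1 : a ∈ B ⊔ zpowers a := mem_sup_right (mem_zpowers a)
  refine ⟨fun ⟨η, h2, h3⟩ => ⟨⟨_, (embN hKB hBK).irr_of_ext θ.2 (h2.restrict_le le_sup_left)
    fun k => h3 k _⟩, fun k => h3 k _, sInv_res le_sup_left h2.isClassFunction a h1⟩,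
    fun ⟨η, h2, h3⟩ => ?_⟩
  haveI := Fintype.ofFinite B
  haveI := Fintype.ofFinite ↥(B ⊔ zpowers a)
  obtain ⟨χ, h4, h5⟩ := exists_ext_of_gen (embN le_sup_left (H1.sup_le_normalizer_left
    (zpowers_le.2 ha))) (s := ⟨a, h1⟩) (fun l => by
      obtain ⟨k, hk, n, h⟩ := exists_eq_mul_pow_of_mem_sup ha l.2
      exact ⟨⟨k, hk⟩, n, Subtype.ext h⟩) η.2 fun b => h3 _ _ rfl
  exact ⟨χ, h4.isCharacter, fun k _ => (h5 ⟨k, hKB k.2⟩).trans (h2 k)⟩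

section
variable (h : K ≤ B) (hBK : B ≤ normalizer (K : Set Γ)) {θ : IrrCharacter K} (hθ : SInv B θ.1)
  {η : IrrCharacter B}
include hBK hθ

omit hp in
theorem res_eq_gmul (h1 : gmul h η.1 θ.1 ≠ 0) (k : K) :
    η.1 ⟨k, h k.2⟩ = gmul h η.1 θ.1 * θ.1 k := by
  haveI := Fintype.ofFinite K
  haveI := Fintype.ofFinite B
  obtain ⟨e, -, h2, h3⟩ := (embN h hBK).clifford_of_invariant_nat η.2 θ.2 ((sInv_embN _ _).1 hθ)
    ((gmul_ne_zero_iff h η.2.isCharacter θ.2.isCharacter).1 h1)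
  rw [gmul_eq_of h h2]; exact h3 k

omit hp in
theorem ext_iff_gmul : (∀ k : K, η.1 ⟨k, h k.2⟩ = θ.1 k) ↔ gmul h η.1 θ.1 = 1 := by
  haveI := Fintype.ofFinite K
  refine ⟨fun h1 => gmul_eq_of h (by rw [funext h1, θ.2.classInner_self, Nat.cast_one]),
    fun h1 k => ?_⟩
  rw [res_eq_gmul h hBK hθ (h1.trans_ne one_ne_zero), h1, Nat.cast_one, one_mul]

theorem dvd_gmul_iff (hi : ¬ p ∣ K.relIndex B) : p ∣ gmul h η.1 θ.1 ↔ gmul h η.1 θ.1 = 0 := by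
  refine ⟨fun h1 => by_contra fun h2 => hi ?_, fun h1 => h1 ▸ dvd_zero p⟩
  haveI := Fintype.ofFinite K
  obtain ⟨e, h3, h4⟩ := (embN h hBK).degree_dvd_index_of_invariant θ.2 ((sInv_embN _ _).1 hθ) η.2
    ((gmul_ne_zero_iff h η.2.isCharacter θ.2.isCharacter).1 h2)
  have h5 := (res_eq_gmul h hBK hθ h2 1).symm.trans h4
  rw [mul_left_inj' θ.2.apply_one_ne_zero, Nat.cast_inj] at h5
  exact h1.trans (h5 ▸ embN_index h hBK ▸ h3)

omit hp in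
theorem card_over_mul_sq (hab : ⁅B, B⁆ ≤ K) (h1 : gmul h η.1 θ.1 ≠ 0) :
    Nat.card {η : IrrCharacter B // gmul h η.1 θ.1 ≠ 0} * gmul h η.1 θ.1 ^ 2 = K.relIndex B := by
  classical
  haveI := Fintype.ofFinite K
  haveI := Fintype.ofFinite B
  have h2 := isCharacter_indHom (embN h hBK).f θ.2.isCharacter
  have h3 := nin_comp_eq_sum (MonoidHom.id B) h2 h2
  erw [nin_eq_of ((embN h hBK).inner_indHom_self_of_invariant θ.2 ((sInv_embN _ _).1 hθ))] at h3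
  rw [← embN_index h hBK, h3, Nat.card_eq_fintype_card, Fintype.card_subtype, Finset.card_filter,
    Finset.sum_mul]
  refine Finset.sum_congr rfl fun φ _ => ?_
  have h4 : classInner φ.1 (indHom (embN h hBK).f θ.1) = gmul h φ.1 θ.1 :=
    (inner_indHom_right _ _ φ.2.isClassFunction).trans
      (gmul_cast h φ.2.isCharacter θ.2.isCharacter).symm
  rw [nin_eq_of (n := gmul h φ.1 θ.1) (by rw [← classInner_conj_symm, h4, map_natCast])]
  erw [nin_eq_of h4]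
  split_ifs with h5
  · obtain ⟨lam, h6, h7⟩ := exists_linear_mul' h hBK
      (fun a ha b hb => hab (commutator_mem_commutator ha hb)) h1 h5
    rw [one_mul, sq, show gmul h φ.1 θ.1 = gmul h η.1 θ.1 from
      congrArg (nin · _) (funext fun k => by rw [h7, h6 _ k.2]; simp)]
  · rw [not_not.1 h5]; simp
end

theorem gmul_mod_down (hP : IsPGroup p P) (hPK : P ≤ normalizer (K : Set Γ))
    (hPB : P ≤ normalizer (B : Set Γ)) (hPC : P ≤ normalizer (C : Set Γ)) {h : B ≤ K} (h' : C ≤ B)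
    (G : GCorr p P h) {χ : IrrCharacter K} (hχ : SInv P χ.1) {η : IrrCharacter B} (hη : SInv P η.1)
    {ξ : IrrCharacter C} (hξ : SInv P ξ.1) (h1 : ¬ p ∣ gmul h χ.1 η.1) :
    gmul (h'.trans h) χ.1 ξ.1 ≡ gmul h χ.1 η.1 * gmul h' η.1 ξ.1 [MOD p] := by
  classical
  rw [← ZMod.natCast_eq_natCast_iff, gmul_trans_mod hP hPK hPB hPC h h' hχ hξ, Nat.cast_mul]
  refine Finset.sum_eq_single_of_mem η (by simpa using hη) fun φ hφ hne => ?_
  rw [(ZMod.natCast_eq_zero_iff _ _).2 (by_contra fun h2 =>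
    hne ((G.fix_iff hχ hχ hη (by simpa using hφ) h1 h2).1 rfl)), zero_mul]

theorem gmul_mod_up (hP : IsPGroup p P) (hPK : P ≤ normalizer (K : Set Γ))
    (hPB : P ≤ normalizer (B : Set Γ)) (hPC : P ≤ normalizer (C : Set Γ)) (h : B ≤ K) {h' : C ≤ B}
    (G : GCorr p P h') {χ : IrrCharacter K} (hχ : SInv P χ.1) {η : IrrCharacter B} (hη : SInv P η.1)
    {ξ : IrrCharacter C} (hξ : SInv P ξ.1) (h1 : ¬ p ∣ gmul h' η.1 ξ.1) :
    gmul (h'.trans h) χ.1 ξ.1 ≡ gmul h χ.1 η.1 * gmul h' η.1 ξ.1 [MOD p] := by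
  classical
  rw [← ZMod.natCast_eq_natCast_iff, gmul_trans_mod hP hPK hPB hPC h h' hχ hξ, Nat.cast_mul]
  refine Finset.sum_eq_single_of_mem η (by simpa using hη) fun φ hφ hne => ?_
  rw [(ZMod.natCast_eq_zero_iff (gmul h' φ.1 ξ.1) _).2 (by_contra fun h2 =>
    hne ((G.fix_iff hη (by simpa using hφ) hξ hξ h1 h2).2 rfl)), mul_zero]

omit hp [Finite Γ] in
theorem SInv.cjI_mod [L.Normal] (hLK : L ≤ K) (hPK : P ≤ normalizer (K : Set Γ))
    {χ : IrrCharacter K} (h : SInv P χ.1) {x : Γ} (hx : x ∈ normalizer (K : Set Γ))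
    (hxP : x ∈ normalizer ((L ⊔ P : Subgroup Γ) : Set Γ)) : SInv P (H8.cjI hx χ).1 :=
  ((le_stabA.1 (sup_le (hLK.trans (self_le_stabA χ.2.isClassFunction))
    (le_stabA.2 ⟨hPK, h⟩))).2.cjI hx fun _ hs => H1.conj_mem_of_le_normalizer le_rfl hxP hs).mono
    le_sup_right

theorem GCorr.eInv_iff [L.Normal] {h : C ≤ K} (G : GCorr p P h) (hLC : L ≤ C)
    (hPK : P ≤ normalizer (K : Set Γ)) (hPC : P ≤ normalizer (C : Set Γ)) {χ : IrrCharacter K}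
    (hχ : SInv P χ.1) {ξ : IrrCharacter C} (hξ : SInv P ξ.1) (h1 : ¬ p ∣ gmul h χ.1 ξ.1) {x : Γ}
    (hx : x ∈ normalizer (K : Set Γ)) (hx' : x ∈ normalizer (C : Set Γ))
    (hxP : x ∈ normalizer ((L ⊔ P : Subgroup Γ) : Set Γ)) : EInv x χ.1 ↔ EInv x ξ.1 :=
  (cjI_eq_iff hx χ).symm.trans ((G.fix_iff hχ (hχ.cjI_mod (hLC.trans h) hPK hx hxP) hξ
    (hξ.cjI_mod hLC hPC hx' hxP) h1 (gmul_cjI h hx hx' χ ξ ▸ h1)).trans (cjI_eq_iff hx' ξ))

omit hp [Finite Γ] in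
theorem commutator_sup_le' (hHK : H ≤ normalizer (K : Set Γ)) (hab : ⁅H, H⁆ ≤ K) :
    ⁅K ⊔ H, K ⊔ H⁆ ≤ K := by
  refine commutator_le.2 fun x hx y hy => ?_
  obtain ⟨k, hk, d, hd, rfl⟩ := (H1.mem_sup_of_le_normalizer_left hHK).1 hx
  obtain ⟨k', hk', d', hd', rfl⟩ := (H1.mem_sup_of_le_normalizer_left hHK).1 hy
  rw [show ⁅k * d, k' * d'⁆ = k * (d * k' * d⁻¹) * ⁅d, d'⁆ * (d' * k⁻¹ * d'⁻¹) * k'⁻¹ by
    simp only [commutatorElement_def]; group]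
  exact mul_mem (mul_mem (mul_mem (mul_mem hk (H1.conj_mem_of_le_normalizer hHK hd hk'))
    (hab (commutator_mem_commutator hd hd')))
    (H1.conj_mem_of_le_normalizer hHK hd' (inv_mem hk))) (inv_mem hk')

theorem ow_base [L.Normal] (hT : IsPGroup p T) (hLC : L ≤ C) (hCK : C ≤ K) (hCD : C ≤ D)
    (hDH : D ≤ H) (hTK : T ≤ normalizer (K : Set Γ)) (hHK : H ≤ normalizer (K : Set Γ))
    (hHT : H ≤ normalizer ((L ⊔ T : Subgroup Γ) : Set Γ))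
    (hC : ∀ k, k ∈ C ↔ k ∈ K ∧ ∀ x ∈ T, x * k * x⁻¹ * k⁻¹ ∈ L)
    (hD : ∀ t ∈ T, ∀ d ∈ D, t * d * t⁻¹ * d⁻¹ ∈ L) (hi : ¬ p ∣ L.relIndex (K ⊔ H))
    (hab : ⁅H, H⁆ ≤ C) {a : Γ} (ha : a ∈ H) (hDa : D ⊔ zpowers a = H) {θ : IrrCharacter K}
    (hθ : SInv T θ.1) (hθ' : SInv H θ.1) {ξ : IrrCharacter C} (hξ : SInv T ξ.1)
    (h1 : ¬ p ∣ gmul hCK θ.1 ξ.1) : ExtA θ.1 (K ⊔ H) ↔ ExtA ξ.1 H := by
  have hHC := H1.le_normalizer_of_commutator_le hab (hCD.trans hDH)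
  have hHD := H1.le_normalizer_of_commutator_le (hab.trans hCD) hDH
  have hTC := le_normalizer_of_relCent hTK le_normalizer_of_normal hC
  have hTD : T ≤ normalizer (D : Set Γ) := fun t ht => mem_normalizer_fintype fun d hd =>
    (mul_mem_cancel_right (inv_mem hd)).1 (hCD (hLC (hD t ht d hd)))
  have hTB := H1.le_normalizer_sup hTK hTD
  have hHB := H1.le_normalizer_sup hHK hHD
  have hBK := H1.sup_le_normalizer_left (hDH.trans hHK)
  have h2 : ∀ x ∈ T, ∀ k, ∀ d ∈ D, x * (k * d) * x⁻¹ * (k * d)⁻¹ ∈ L ↔ x * k * x⁻¹ * k⁻¹ ∈ L :=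
    fun x hx k d hd => by
      rw [show x * (k * d) * x⁻¹ * (k * d)⁻¹ = x * k * x⁻¹ * k⁻¹ * (k * (x * d * x⁻¹ * d⁻¹) * k⁻¹) by
        group, mul_mem_cancel_right (Normal.conj_mem ‹_› _ (hD x hx d hd) k)]
  have hiB : ¬ p ∣ L.relIndex (K ⊔ D) := fun h => hi (h.trans (Dvd.intro _
    (relIndex_mul_relIndex L _ _ (hLC.trans (hCK.trans le_sup_left)) (sup_le_sup_left hDH K))))
  have G1 := gCorr_rel hT le_normalizer_of_normal _ rfl hTK le_normalizer_of_normal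
    (fun h => hiB (h.trans (Dvd.intro _ (relIndex_mul_relIndex L _ _ (hLC.trans hCK) le_sup_left))))
    hC hCK
  have G2 := gCorr_rel hT le_normalizer_of_normal _ rfl hTB le_normalizer_of_normal hiB
    (C := D) (fun b => ⟨fun hb => ⟨mem_sup_right hb, fun x hx => hD x hx b hb⟩, fun ⟨hb, h⟩ => by
      obtain ⟨k, hk, d, hd, rfl⟩ := (H1.mem_sup_of_le_normalizer_left (hDH.trans hHK)).1 hb
      exact mul_mem (hCD ((hC k).2 ⟨hk, fun x hx => (h2 x hx k d hd).1 (h x hx)⟩)) hd⟩) le_sup_right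
  have h3 : K.relIndex (K ⊔ D) = C.relIndex D := by
    rw [H1.relIndex_sup_of_le_normalizer (hDH.trans hHK), ← inf_relIndex_right, le_antisymm
      (fun k hk => (hC k).2 ⟨hk.1, fun x hx => hD x hx k hk.2⟩) (le_inf hCK hCD)]
  have h4 : ¬ p ∣ K.relIndex (K ⊔ D) := fun h => hiB (h.trans
    (relIndex_dvd_of_le_left _ (hLC.trans hCK)))
  have hξ' : SInv H ξ.1 := fun x hx =>
    (G1.eInv_iff hLC hTK hTC hθ hξ h1 (hHK hx) (hHC hx) (hHT hx)).1 (hθ' x hx)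
  have hθB := (hθ'.mono hDH).sup_self θ.2.isClassFunction (hDH.trans hHK)
  have h5 : ∀ t ∈ T, ∃ k, t ^ p ^ k = 1 := fun t ht =>
    let ⟨k, hk⟩ := hT ⟨t, ht⟩; ⟨k, congrArg Subtype.val hk⟩
  have h6 : ∀ η : IrrCharacter ↥(K ⊔ D), gmul le_sup_left η.1 θ.1 ≠ 0 → SInv T η.1 :=
    fun η h t ht => let ⟨k, hk⟩ := h5 t ht
      eInv_of_over le_sup_left hBK (hTK ht) (fun b hb => by
        obtain ⟨k, hk, d, hd, rfl⟩ := (H1.mem_sup_of_le_normalizer_left (hDH.trans hHK)).1 hb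
        rw [show t * (k * d) * t⁻¹ * (k * d)⁻¹ = t * k * t⁻¹ * (t * d * t⁻¹ * d⁻¹) * k⁻¹ by group]
        exact mul_mem (mul_mem (H1.conj_mem_of_le_normalizer hTK ht hk)
          (hCK (hLC (hD t ht d hd)))) (inv_mem hk))
        (((Nat.Prime.coprime_iff_not_dvd hp.1).2 h4).pow_left k) (hk ▸ one_mem K) (hθ t ht) h
  have h7 : ∀ ζ : IrrCharacter D, gmul hCD ζ.1 ξ.1 ≠ 0 → SInv T ζ.1 :=
    fun ζ h t ht => let ⟨k, hk⟩ := h5 t ht
      eInv_of_over hCD (hDH.trans hHC) (hTC ht) (fun d hd => hLC (hD t ht d hd))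
        (((Nat.Prime.coprime_iff_not_dvd hp.1).2 (h3 ▸ h4)).pow_left k) (hk ▸ one_mem C) (hξ t ht) h
  have h8 : ∀ (η : IrrCharacter ↥(K ⊔ D)) (ζ : IrrCharacter D), SInv T η.1 → SInv T ζ.1 →
      ¬ p ∣ gmul le_sup_right η.1 ζ.1 → (gmul le_sup_left η.1 θ.1 ≠ 0 ↔ gmul hCD ζ.1 ξ.1 ≠ 0) := by
    intro η ζ hη hζ h
    have h8 := (gmul_mod_up hT hTB hTK hTC le_sup_left G1 hη hθ hξ h1).symm.trans
      (gmul_mod_down hT hTB hTD hTC hCD G2 hη hζ hξ h)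
    rw [Ne, Ne, ← dvd_gmul_iff _ hBK hθB h4, ← dvd_gmul_iff _ (hDH.trans hHC) (hξ'.mono hDH)
      (h3 ▸ h4), not_iff_not]
    simpa only [hp.1.dvd_mul, h, h1, or_false, false_or] using h8.dvd_iff dvd_rfl
  have h9 : ∀ (η : IrrCharacter ↥(K ⊔ D)) (ζ : IrrCharacter D), SInv T η.1 → SInv T ζ.1 →
      ¬ p ∣ gmul le_sup_right η.1 ζ.1 → (gmul le_sup_left η.1 θ.1 = 1 ∧ EInv a η.1 ↔
        gmul hCD ζ.1 ξ.1 = 1 ∧ EInv a ζ.1) := fun η ζ hη hζ h => by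
    refine and_congr ?_ (G2.eInv_iff (hLC.trans hCD) hTB hTD hη hζ h (hHB ha) (hHD ha) (hHT ha))
    by_cases h9 : gmul le_sup_left η.1 θ.1 = 0
    · rw [h9, not_not.1 (mt (h8 η ζ hη hζ h).2 (not_not.2 h9))]
    have h10 := card_over_mul_sq _ hBK hθB (commutator_sup_le' (hDH.trans hHK)
      ((commutator_mono hDH hDH).trans (hab.trans hCK))) h9
    rw [G2.card_eq _ _ h6 h7 h8, h3, ← card_over_mul_sq _ (hDH.trans hHC) (hξ'.mono hDH)
      ((commutator_mono hDH hDH).trans hab) ((h8 η ζ hη hζ h).1 h9)] at h10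
    haveI : Nonempty {ζ : IrrCharacter D // gmul hCD ζ.1 ξ.1 ≠ 0} := ⟨⟨ζ, (h8 η ζ hη hζ h).1 h9⟩⟩
    rw [Nat.pow_left_injective two_ne_zero (Nat.eq_of_mul_eq_mul_left Nat.card_pos h10)]
  rw [extA_cyc le_sup_left hBK (by rw [sup_assoc, hDa]) (hHB ha),
    extA_cyc hCD (hDH.trans hHC) hDa (hHD ha)]
  simp only [ext_iff_gmul _ hBK hθB, ext_iff_gmul _ (hDH.trans hHC) (hξ'.mono hDH)]
  refine ⟨fun ⟨η, h⟩ => ?_, fun ⟨ζ, h⟩ => ?_⟩
  · have h10 := h6 η (h.1.trans_ne one_ne_zero)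
    obtain ⟨ζ, h11, h12, -⟩ := G2.down η h10
    exact ⟨ζ, (h9 η ζ h10 h11 (not_dvd_of_sq_eq_one h12)).1 h⟩
  · have h10 := h7 ζ (h.1.trans_ne one_ne_zero)
    obtain ⟨η, h11, h12, -⟩ := G2.up ζ h10
    exact ⟨η, (h9 η ζ h11 h10 h12).2 h⟩

/-- the centralizer of `k` modulo `L` -/
def czm (L : Subgroup Γ) [L.Normal] (k : Γ) : Subgroup Γ :=
  (centralizer {(k : Γ ⧸ L)}).comap (QuotientGroup.mk' L)

omit hp [Finite Γ] in
theorem le_czm [L.Normal] {k : Γ} : T ≤ czm L k ↔ ∀ x ∈ T, x * k * x⁻¹ * k⁻¹ ∈ L :=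
  forall₂_congr fun x _ => by
    rw [czm, mem_comap, mem_centralizer_singleton_iff, ← QuotientGroup.eq_one_iff,
      ← commutatorElement_eq_one_iff_mul_comm]; rfl

omit hp [Finite Γ] in
theorem self_le_czm [hL : L.Normal] (k : Γ) : L ≤ czm L k := le_czm.2 fun x hx => by
  rw [mul_assoc, mul_assoc, ← mul_assoc k]
  exact mul_mem hx (hL.conj_mem _ (inv_mem hx) k)

omit hp in
theorem le_normalizer_relCent [hL : L.Normal] (hK : H ≤ normalizer (K : Set Γ))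
    (hQ : H ≤ normalizer (Q : Set Γ)) :
    H ≤ normalizer (relCent Q K L le_normalizer_of_normal : Set Γ) := fun h hh =>
  mem_normalizer_fintype fun k hk => ⟨H1.conj_mem_of_le_normalizer hK hh hk.1, fun x hx => by
    have := hL.conj_mem _ (hk.2 _ (H1.conj_mem_of_le_normalizer hQ (inv_mem hh) hx)) h
    convert this using 1; group⟩

theorem okuyama_wajima [L.Normal] (n : ℕ) : ∀ {S K C H : Subgroup Γ}, Nat.card S = n →
    IsPGroup p S → L ≤ C → ∀ hCK : C ≤ K, C ≤ H → S ≤ normalizer (K : Set Γ) →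
    H ≤ normalizer (K : Set Γ) → H ≤ normalizer ((L ⊔ S : Subgroup Γ) : Set Γ) →
    (∀ k, k ∈ C ↔ k ∈ K ∧ ∀ x ∈ S, x * k * x⁻¹ * k⁻¹ ∈ L) → ¬ p ∣ L.relIndex (K ⊔ H) →
    ⁅H, H⁆ ≤ C → ∀ {θ : IrrCharacter K} {ξ : IrrCharacter C}, SInv S θ.1 → SInv H θ.1 →
    SInv S ξ.1 → ¬ p ∣ gmul hCK θ.1 ξ.1 → (ExtA θ.1 (K ⊔ H) ↔ ExtA ξ.1 H) := by
  induction n using Nat.strong_induction_on with
  | _ n ih =>
  intro S K C H hn hS hLC hCK hCH hSK hHK hHS hC hi hab θ ξ hθ hθ' hξ h1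
  classical
  by_cases hSL : S ≤ L
  · obtain rfl : C = K := le_antisymm hCK fun k hk =>
      (hC k).2 ⟨hk, le_czm.1 (hSL.trans (self_le_czm k))⟩
    obtain rfl : θ = ξ := by_contra fun h => h1 (by rw [gmul_refl, if_neg h]; exact dvd_zero p)
    rw [sup_eq_right.2 hCH]
  obtain ⟨Q, ⟨hLQ, hQ, hHQ⟩, hmax⟩ := (wellFounded_gt (α := Subgroup Γ)).has_min
    {Q | L ≤ Q ∧ Q < L ⊔ S ∧ H ≤ normalizer (Q : Set Γ)}
    ⟨L, le_rfl, left_lt_sup.2 hSL, le_normalizer_of_normal⟩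
  replace hmax : ∀ Q', Q < Q' → Q' ≤ L ⊔ S → H ≤ normalizer (Q' : Set Γ) → Q' = L ⊔ S :=
    fun Q' h2 h3 h4 => by_contra fun h5 => hmax Q' ⟨hLQ.trans h2.le, h3.lt_of_ne h5, h4⟩ h2
  have h2 : ∀ Q', L ≤ Q' → Q' ≤ L ⊔ S → L ⊔ S ⊓ Q' = Q' := fun Q' h h' => by
    rw [← H1.sup_inf_of_le_normalizer le_normalizer_of_normal h, inf_eq_right.2 h']
  have h3 : S ⊓ Q < S := inf_lt_left.2 fun h => hQ.not_ge (sup_le hLQ h)
  have hSQ : L ⊔ S ≤ normalizer (Q : Set Γ) := by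
    obtain ⟨s, hs, h4⟩ := SetLike.exists_of_lt (H1.lt_normalizer_inf_of_isNilpotent hS.isNilpotent h3)
    refine inf_eq_right.1 (hmax _ (SetLike.lt_iff_le_and_exists.2 ⟨le_inf le_normalizer hQ.le, s,
      mem_inf.2 ⟨?_, mem_sup_right hs.2⟩, fun h => h4 ⟨hs.2, h⟩⟩) inf_le_right
      (H1.le_normalizer_inf (H1.le_normalizer_normalizer hHQ) hHS))
    rw [← h2 Q hLQ hQ.le]
    exact H1.le_normalizer_sup le_normalizer_of_normal le_rfl hs.1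
  have hSC := le_normalizer_of_relCent hSK le_normalizer_of_normal hC
  have hiK : ∀ K' ≤ K ⊔ H, L ≤ K' → ¬ p ∣ L.relIndex K' := fun K' h h' h'' =>
    hi (h''.trans (Dvd.intro _ (relIndex_mul_relIndex L _ _ h' h)))
  have h4 := inf_sup_le_of_not_dvd hS hLC (hiK C (hCK.trans le_sup_left) hLC)
  obtain ⟨D, hCD, hDH, ⟨a, ha, hDa⟩, t, ht, h5, h6⟩ := exists_cocyclic hCH
    (sup_le (hLC.trans le_normalizer) hSC) hHS hab (by
      obtain ⟨k, hk⟩ := hS.index (L.subgroupOf S)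
      refine Nat.Coprime.coprime_dvd_right (relIndex_dvd_of_le_left _ hLC) ?_
      rw [relIndex_sup_left, relIndex, relIndex, hk]
      exact (((Nat.Prime.coprime_iff_not_dvd hp.1).2 fun h => hiK H le_sup_right (hLC.trans hCH)
        (h.trans (relIndex_dvd_of_le_left _ hLC))).symm.pow_right k)) hQ.le
    ((inf_comm _ C).le.trans (h4.trans hLQ)) hQ.not_ge
  have hHD := H1.le_normalizer_of_commutator_le (hab.trans hCD) hDH
  set T := relCent D (L ⊔ S) L le_normalizer_of_normal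
  have hHT : H ≤ normalizer (T : Set Γ) := le_normalizer_relCent hHS hHD
  have hLT : L ≤ T := fun l hl => ⟨mem_sup_left hl, fun d _ =>
    mul_mem (Normal.conj_mem ‹_› l hl d) (inv_mem hl)⟩
  have hT : T ≤ L ⊔ S := fun _ h => h.1
  have h7 := hmax (Q ⊔ T) (left_lt_sup.2 fun h => h5 (h ⟨ht, fun d hd => h4 ⟨h6 d hd,
    (L ⊔ S).mul_mem (H1.conj_mem_of_le_normalizer hHS (hDH hd) ht) ((L ⊔ S).inv_mem ht)⟩⟩)) (sup_le hQ.le hT)
    (H1.le_normalizer_sup hHQ hHT)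
  set K₁ := relCent Q K L le_normalizer_of_normal
  have hK₁ : K₁ ≤ K := fun _ h => h.1
  have hCK₁ : C ≤ K₁ := fun k hk => ⟨hCK hk, le_czm.1 (hQ.le.trans (sup_le (self_le_czm k)
    (le_czm.2 ((hC k).1 hk).2)))⟩
  have h8 : ∀ k, k ∈ K₁ ↔ k ∈ K ∧ ∀ x ∈ S ⊓ Q, x * k * x⁻¹ * k⁻¹ ∈ L := fun k =>
    and_congr_right fun _ => ⟨fun h x hx => h x hx.2, fun h => le_czm.1
      ((h2 Q hLQ hQ.le).ge.trans (sup_le (self_le_czm k) (le_czm.2 h)))⟩
  have hSK₁ : S ≤ normalizer (K₁ : Set Γ) := le_normalizer_relCent hSK (le_sup_right.trans hSQ)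
  have hHK₁ : H ≤ normalizer (K₁ : Set Γ) := le_normalizer_relCent hHK hHQ
  have hQ₀ := hS.to_inf_left (K := Q)
  have G := gCorr_rel hQ₀ le_normalizer_of_normal _ rfl (inf_le_left.trans hSK)
    le_normalizer_of_normal (hiK K le_sup_left (hLC.trans hCK)) h8 hK₁
  obtain ⟨θ₁, h9, h10, -⟩ := G.down θ (hθ.mono inf_le_left)
  replace h10 := not_dvd_of_sq_eq_one h10
  have h11 := fun x => G.eInv_iff (x := x) (hLC.trans hCK₁) (inf_le_left.trans hSK)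
    (inf_le_left.trans hSK₁) (hθ.mono inf_le_left) h9 h10
  rw [h2 Q hLQ hQ.le] at h11
  have h12 := ih _ (hn ▸ H1.card_lt_of_lt h3) rfl hQ₀ (hLC.trans hCK₁) hK₁ (H := K₁ ⊔ H) le_sup_left
    (inf_le_left.trans hSK) (sup_le (hK₁.trans le_normalizer) hHK) (by
      rw [h2 Q hLQ hQ.le]
      refine sup_le (fun k hk => mem_normalizer_fintype fun q hq => ?_) hHQ
      rw [show k * q * k⁻¹ = q * (q⁻¹ * k * q⁻¹⁻¹ * k⁻¹) by group]
      exact mul_mem hq (hLQ (hk.2 _ (inv_mem hq)))) h8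
    (by rwa [← sup_assoc, sup_eq_left.2 hK₁]) (commutator_sup_le' hHK₁ (hab.trans hCK₁))
    (hθ.mono inf_le_left) ((hθ'.sup_self θ.2.isClassFunction hHK).mono (sup_le_sup_right hK₁ H)) h9 h10
  rw [← sup_assoc, sup_eq_left.2 hK₁] at h12
  refine h12.trans (ow_base (hS.to_inf_left (K := T)) hLC hCK₁ hCD hDH (inf_le_left.trans hSK₁) hHK₁
    (by rwa [h2 T hLT hT]) (fun k => ⟨fun hk => ⟨hCK₁ hk, fun x hx => ((hC k).1 hk).2 x hx.1⟩,
      fun hk => (hC k).2 ⟨hk.1.1, le_czm.1 (le_sup_right.trans (h7.ge.trans (sup_le (le_czm.2 hk.1.2)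
        ((h2 T hLT hT).ge.trans (sup_le (self_le_czm k) (le_czm.2 hk.2))))))⟩⟩)
    (fun t ht d hd => by simpa [mul_assoc] using inv_mem (ht.2.2 d hd))
    (hiK _ (sup_le_sup_right hK₁ H) (hLC.trans (hCH.trans le_sup_right))) hab ha hDa
    (fun x hx => (h11 x (hSK hx.1) (hSK₁ hx.1) (hSQ (mem_sup_right hx.1))).1 (hθ x hx.1))
    (fun x hx => (h11 x (hHK hx) (hHK₁ hx) (hHQ hx)).1 (hθ' x hx)) (hξ.mono inf_le_left)
    fun h => h1 (((gmul_mod_down hQ₀ (inf_le_left.trans hSK) (inf_le_left.trans hSK₁)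
      (inf_le_left.trans hSC) hCK₁ G (hθ.mono inf_le_left) h9 (hξ.mono inf_le_left) h10).dvd_iff
        dvd_rfl).2 (h.mul_left _)))

end Cfsg.Agent.H8
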