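import Mathlib
import Cfsg.Agent.H8.McK4

/-!
The relative McKay count for `p`-solvable groups.
-/

set_option autoImplicit false
set_option linter.dupNamespace false

namespace Cfsg.Agent.H8

open Cfsg Cfsg.Agent.H4 Cfsg.Agent.H5 Subgroup
open scoped ComplexConjugate commutatorElement

variable {Γ : Type*} [Group Γ] [Finite Γ] {p : ℕ} [hp : Fact p.Prime]
  {P L K B C X Y M N U : Subgroup Γ}

theorem extA_iff_of_sup (hKX : K ≤ X) (hKB : K ≤ B) (hU : X ⊔ B = U)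
    (hUK : U ≤ normalizer (K : Set Γ)) (hUX : U ≤ normalizer (X : Set Γ)) {k : ℕ}
    (hk : K.relIndex X = p ^ k) (hi : ¬ p ∣ K.relIndex B) {η : IrrCharacter X} (hη : SInv U η.1)
    {θ : IrrCharacter K} (h : ∀ k : K, η.1 ⟨k, hKX k.2⟩ = θ.1 k) : ExtA η.1 U ↔ ExtA θ.1 B := by
  have hXU : X ≤ U := hU ▸ le_sup_left
  have hBU : B ≤ U := hU ▸ le_sup_right
  refine ⟨fun ⟨χ, h1, h2⟩ => ExtA.mono ⟨χ, h1, fun k _ => (h2 ⟨k, hKX k.2⟩ _).trans (h k)⟩ hBU,
    fun ⟨ζ, h1, h2⟩ => ?_⟩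
  haveI := Fintype.ofFinite K
  haveI := Fintype.ofFinite X
  have h3 : X.relIndex U = X.relIndex B := hU ▸ H1.relIndex_sup_of_le_normalizer (hBU.trans hUX)
  have h4 : ¬ p ∣ X.relIndex U := fun h4 => hi ((h3 ▸ h4).trans (relIndex_dvd_of_le_left _ hKX))
  have h5 : B.relIndex U ∣ p ^ k := by
    have h5 := (relIndex_mul_relIndex K B U hKB hBU).trans (relIndex_mul_relIndex K X U hKX hXU).symm
    have h6 := relIndex_inf_mul_relIndex K X B
    rw [inf_eq_left.2 hKX] at h6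
    rw [h3, ← h6, mul_right_comm, hk] at h5
    exact Dvd.intro_left _ (Nat.eq_of_mul_eq_mul_right (Nat.pos_of_ne_zero index_ne_zero_of_finite) h5)
  obtain ⟨χ, h6, h7⟩ := (embN (hKX.trans hXU) hUK).exists_ext_of_forall_prime θ.2
    (fun g n => by rw [← h, ← h]; exact hη g g.2 _ _ rfl) fun q hq _ => by
      by_cases h6 : q = p
      · exact ⟨X.subgroupOf U, fun n => hKX n.2, _, h6 ▸ h4,
          η.2.isCharacter.comp (subgroupOfEquivOfLe hXU).toMonoidHom, h⟩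
      · exact ⟨B.subgroupOf U, fun n => hKB n.2, _, fun h7 => h6 ((Nat.prime_dvd_prime_iff_eq hq
          hp.1).1 (hq.dvd_of_dvd_pow (h7.trans h5))),
          h1.comp (subgroupOfEquivOfLe hBU).toMonoidHom, fun n => h2 n _⟩
  obtain ⟨lam, h8, h9⟩ := (embN hKX (hXU.trans hUK)).exists_linear_of_ext θ.2 η.2.isCharacter h
    (h6.isCharacter.restrict_le hXU) h7
  obtain ⟨μ, h10, -⟩ := (embN hXU hUX).exists_linear_ext_of_coprime (lam := lam) (fun g n => by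
      have h10 := (embN hKX (hXU.trans hUK)).gallagher_inj θ.2 η.2.isCharacter h
        (isIrrCharacter_linear (lam.comp (cjE (hUX g.2)).toMonoidHom)) (isIrrCharacter_linear lam)
        (fun n => by
          rw [map_one]
          exact congrArg _ (h8 ⟨_, H1.conj_mem_of_le_normalizer hUK g.2 n.2⟩))
        (fun n => by rw [h8, map_one]) (funext fun x => by
          rw [← h9, Pi.mul_apply, ← hη g g.2 x (cjE (hUX g.2) x) rfl]
          exact (congrFun h9 _).symm.trans (h6.isClassFunction ⟨x, hXU x.2⟩ g))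
      exact Units.ext (congrFun h10 n)) (by
      rw [embN_index]
      refine Nat.Coprime.coprime_dvd_right (orderOf_dvd_of_pow_eq_one
        ((embN hKX (hXU.trans hUK)).pow_index_eq_one lam h8)) ?_
      rw [embN_index, hk]
      exact ((Nat.Prime.coprime_iff_not_dvd hp.1).2 h4).symm.pow_right k)
  refine ⟨_, (isCharacter_linear μ⁻¹).mul h6.isCharacter, fun x hx => ?_⟩
  have h11 := congrFun h9 x
  rw [Pi.mul_apply, ← h10] at h11
  exact (congrArg _ h11).trans (Units.inv_mul_cancel_left _ _)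

namespace MS
variable (D : MS p P L K C X Y M N) {η : IrrCharacter X} {ψ : IrrCharacter Y}
include D

theorem extA_iff [L.Normal] (h : D.R η ψ) (hY : Y ≤ U) (hN : U ≤ N) (hab : ⁅U, U⁆ ≤ Y)
    (hη : SInv U η.1) : ExtA η.1 (X ⊔ U) ↔ ExtA ψ.1 U := by
  obtain ⟨θ, ξ, h⟩ := h
  let f := QuotientGroup.mk' L
  have hf : f.ker = L := QuotientGroup.ker_mk' L
  have hLU := D.LC.trans (D.CY.trans hY)
  have h0 : ¬ p ∣ L.relIndex C := fun h => D.idxL (h.trans (Dvd.intro _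
    (relIndex_mul_relIndex L C K D.LC D.CK)))
  have h1 : ¬ p ∣ (P.map f).relIndex (U.map f) := by
    rw [relIndex_map_map, hf, sup_eq_left.2 hLU, sup_comm, ← relIndex_mul_relIndex _ Y U
      (sup_le (D.LC.trans D.CY) D.PY) hY, hp.1.dvd_mul, not_or]
    refine ⟨fun h => h0 (h.trans ?_), fun h => D.idx (D.index_eq' ▸ h.trans (Dvd.intro _
      (relIndex_mul_relIndex Y U N hY hN)))⟩
    rw [show Y = L ⊔ P ⊔ C by rw [sup_right_comm, sup_eq_right.2 D.LC, D.Y_eq],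
      H1.relIndex_sup_of_le_normalizer (D.CY.trans (D.YN.trans D.NLP))]
    exact relIndex_dvd_of_le_left _ le_sup_left
  obtain ⟨k, hk⟩ := IsPGroup.iff_card.1 (D.hP.map f)
  obtain ⟨H₀, h2, h3, -, h4⟩ := H1.exists_complement_le (map_mono (f := f) (D.PY.trans hY)) (by
    have := (map_mono (hN.trans D.NLP)).trans (le_normalizer_map f)
    rwa [Subgroup.map_sup, (map_eq_bot_iff L).2 hf.ge, bot_sup_eq] at this)
    (hk ▸ ((Nat.Prime.coprime_iff_not_dvd hp.1).2 h1).pow_left k)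
  have h5 : H₀.comap f ≤ U := (comap_mono h2).trans (comap_map_eq_self (hf.le.trans hLU)).le
  have h6 : L ⊔ P ⊔ H₀.comap f = U := by
    rw [← comap_map_eq_self (hf.le.trans hLU), ← h3, ← comap_sup_eq f _ _
      (QuotientGroup.mk'_surjective L), comap_map_eq, hf, sup_comm P]
  have h7 : ¬ p ∣ L.relIndex (H₀.comap f) := by
    rwa [show L.relIndex _ = _ from hf ▸ relIndex_ker _ f,
      map_comap_eq_self_of_surjective (QuotientGroup.mk'_surjective L), h4]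
  generalize H₀.comap f = H at *
  have h8 : C ⊔ H ≤ U := sup_le (D.CY.trans hY) h5
  have h9 : K ⊔ (C ⊔ H) = K ⊔ H := by rw [← sup_assoc, sup_eq_left.2 D.CK]
  have h10 : ¬ p ∣ K.relIndex (K ⊔ H) := by
    rw [H1.relIndex_sup_of_le_normalizer (h5.trans (hN.trans D.NK))]
    exact fun h => h7 (h.trans (relIndex_dvd_of_le_left _ (D.LC.trans D.CK)))
  have h11 : ¬ p ∣ C.relIndex (C ⊔ H) := by
    rw [H1.relIndex_sup_of_le_normalizer (h5.trans (hN.trans D.NC))]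
    exact fun h => h7 (h.trans (relIndex_dvd_of_le_left _ D.LC))
  have h12 : Y ⊔ (C ⊔ H) = U := le_antisymm (sup_le hY h8) (h6.ge.trans (sup_le
    ((sup_le (D.LC.trans D.CY) D.PY).trans le_sup_left) (le_sup_right.trans le_sup_right)))
  have hNX := D.NM.trans D.MX
  obtain ⟨k₁, hk₁⟩ := D.index_X
  obtain ⟨k₂, hk₂⟩ := D.index_Y
  rw [embN_index] at hk₁ hk₂
  have h13 : SInv U θ.1 := fun s hs g g' e => by rw [← h.h1, ← h.h1]; exact hη s hs _ _ e
  rw [extA_iff_of_sup D.KX (B := K ⊔ (C ⊔ H)) le_sup_left (by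
      rw [← h12, ← sup_assoc, sup_eq_left.2 D.KX, ← sup_assoc X Y, sup_eq_left.2 D.YX])
    (sup_le D.XK (hN.trans D.NK)) (H1.sup_le_normalizer_left (hN.trans hNX)) hk₁ (h9 ▸ h10)
    (hη.sup_self η.2.isClassFunction (hN.trans hNX)) h.h1,
    extA_iff_of_sup D.CY le_sup_left h12 (hN.trans D.NC) (hN.trans D.NY) hk₂ h11 (fun s hs =>
      (cjI_eq_iff _ ψ).1 ((MK.R.eq_iff ⟨θ, ξ, h⟩ (D.R_cjI ⟨θ, ξ, h⟩ (hN hs))).1
        ((cjI_eq_iff _ η).2 (hη s hs)))) h.h2]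
  refine okuyama_wajima _ rfl D.hP D.LC D.CK le_sup_left D.PK (h8.trans (hN.trans D.NK))
    (h8.trans (hN.trans D.NLP)) D.hC ?_ (fun y hy => ?_) (h.invX.mono D.PX) (h13.mono h8)
    (h.invY.mono D.PY) h.h4
  · rw [h9, ← relIndex_mul_relIndex L K _ (D.LC.trans D.CK) le_sup_left, hp.1.dvd_mul, not_or]
    exact ⟨D.idxL, h10⟩
  · obtain ⟨c, hc, s, hs, rfl⟩ := (H1.mem_sup_of_le_normalizer_left D.PC).1
      (D.Y_eq ▸ hab (commutator_mono h8 h8 hy))
    obtain ⟨j, hj⟩ := D.hP ⟨s, hs⟩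
    exact mul_mem hc (mem_of_pow_of_not_dvd (h8.trans (hN.trans D.NC)) h11
      ((mul_mem_cancel_left (mem_sup_left hc)).1 (commutator_le_self _ hy)) (k := j)
      ((show s ^ p ^ j = 1 from congrArg Subtype.val hj) ▸ one_mem C))

theorem card_over_eq [L.Normal] (h : D.R η ψ) :
    Nat.card {χ : IrrCharacter M // gmul D.XM χ.1 η.1 ≠ 0} =
      Nat.card {χ : IrrCharacter N // gmul D.YN χ.1 ψ.1 ≠ 0} := by
  haveI := Fintype.ofFinite X
  haveI := Fintype.ofFinite Y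
  haveI := normal_subgroupOf_of_le_normalizer D.MX
  let f := QuotientGroup.mk' (X.subgroupOf M)
  have hf : f.ker = X.subgroupOf M := QuotientGroup.ker_mk' _
  have hNX := D.NM.trans D.MX
  have h0 : (f.comp (inclusion D.NM)).ker = Y.subgroupOf N := Subgroup.ext fun n =>
    (QuotientGroup.eq_one_iff _).trans ⟨fun h => D.infN ⟨h, n.2⟩, fun h => D.YX h⟩
  have h1 : ∀ n : N, n ∈ (embN D.YN D.NY).inertia ψ.1 ↔
      inclusion D.NM n ∈ (embN D.XM D.MX).inertia η.1 := fun n =>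
    ((embN D.YN D.NY).mem_inertia_iff_cj (g := n)).trans ((Subtype.ext_iff.symm.trans
      ((h.eq_iff (D.R_cjI h n.2)).symm.trans Subtype.ext_iff)).trans
        ((embN D.XM D.MX).mem_inertia_iff_cj (g := inclusion D.NM n)).symm)
  have h2 : ∀ m : M, ∃ n : N, ∃ x : M, (x : Γ) ∈ X ∧ x * inclusion D.NM n = m := fun m => by
    obtain ⟨x, hx, n, hn, h2⟩ := (H1.mem_sup_of_le_normalizer_left hNX).1 (D.sup.ge m.2)
    exact ⟨⟨n, hn⟩, ⟨x, D.XM hx⟩, hx, Subtype.ext h2⟩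
  have h3 : ∀ x : M, (x : Γ) ∈ X → x ∈ (embN D.XM D.MX).inertia η.1 := fun x hx =>
    (embN D.XM D.MX).f_mem_inertia η.2.isClassFunction ⟨x, hx⟩
  have h4 : ∀ x : M, (x : Γ) ∈ X → f x = 1 := fun x hx => (QuotientGroup.eq_one_iff _).2 hx
  simp only [fun χ : IrrCharacter M => gmul_ne_zero_iff D.XM χ.2.isCharacter η.2.isCharacter,
    fun χ : IrrCharacter N => gmul_ne_zero_iff D.YN χ.2.isCharacter ψ.2.isCharacter]
  refine card_over_transfer (embN D.XM D.MX) (embN D.YN D.NY) η.2 ψ.2 f (f.comp (inclusion D.NM))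
    (hf.trans (embN_range _ _).symm) (h0.trans (embN_range _ _).symm)
    (le_antisymm ?_ ?_) fun a ha b hb hab => ?_
  · rintro _ ⟨n, hn, rfl⟩
    exact ⟨_, (h1 n).1 hn, rfl⟩
  · rintro _ ⟨m, hm, rfl⟩
    obtain ⟨n, x, hx, rfl⟩ := h2 m
    exact ⟨n, (h1 n).2 ((mul_mem_cancel_left (h3 x hx)).1 hm), by rw [map_mul, h4 x hx, one_mul]; rfl⟩
  · have h5 : ∀ {V W : Subgroup Γ} (h : V ≤ W) (h' : W ≤ normalizer (V : Set Γ)) (θ : V → ℂ)
        (A : Subgroup W), ExtU (embN h h') θ A ↔ ExtA θ (A.map W.subtype) := fun h h' θ A => by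
      let e := equivMapOfInjective A (Subgroup.subtype _) (subtype_injective _)
      refine ⟨fun ⟨η, h1, h2⟩ => ⟨_, h1.comp e.symm.toMonoidHom, fun n ⟨x, hx, h3⟩ => ?_⟩,
        fun ⟨η, h1, h2⟩ => ⟨_, h1.comp e.toMonoidHom, fun n h => h2 n _⟩⟩
      exact (congrArg η (e.symm_apply_eq.2 (Subtype.ext rfl))).trans
        (h2 n ((Subtype.ext h3 : x = (embN h h').f n) ▸ hx))
    set A := Subgroup.closure {a, b}
    have h6 : A ≤ ((embN D.XM D.MX).inertia η.1).map f :=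
      (Subgroup.closure_le _).2 (Set.insert_subset ha (Set.singleton_subset_iff.2 hb))
    have h7 : ∀ x ∈ A, ∀ y ∈ A, x * y = y * x := fun x hx y hy => congrArg Subtype.val
      ((closureCommGroupOfComm (by simp [hab])).mul_comm (⟨x, hx⟩ : A) ⟨y, hy⟩)
    rw [h5, h5, ← D.extA_iff h (U := (A.comap (f.comp (inclusion D.NM))).map N.subtype) (fun y hy => ⟨⟨y, D.YN hy⟩, ker_le_comap _ _ (h0.ge hy), rfl⟩)
      (map_subtype_le _) (commutator_le.2 ?_) ?_]
    · refine iff_of_eq (congrArg _ (le_antisymm ?_ (sup_le (fun x hx =>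
        ⟨⟨x, D.XM hx⟩, ker_le_comap _ _ (h4 _ hx), rfl⟩) ?_)))
      · rintro _ ⟨m, hm, rfl⟩
        obtain ⟨n, x, hx, rfl⟩ := h2 m
        exact mul_mem_sup hx ⟨n, (mul_mem_cancel_left (ker_le_comap _ _ (h4 x hx))).1 hm, rfl⟩
      · rintro _ ⟨n, hn, rfl⟩
        exact ⟨_, hn, rfl⟩
    · rintro _ ⟨x, hx, rfl⟩ _ ⟨y, hy, rfl⟩
      exact h0.le (show f.comp (inclusion D.NM) ⁅x, y⁆ = 1 by
        rw [map_commutatorElement, commutatorElement_eq_one_iff_mul_comm]; exact h7 _ hx _ hy)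
    · rintro _ ⟨n, hn, rfl⟩ g g' e
      have h8 := (comap_map_eq_self (hf.le.trans fun x hx => h3 x hx)).le (h6 hn)
      rw [← h8 g]; exact congrArg _ (Subtype.ext e)

end MS

theorem mckay_rel (hG : IsPSolvable p Γ) (S : Sylow p Γ) (L : Subgroup Γ) [L.Normal]
    {ν : IrrCharacter L} (hν : SInv S ν.1) (hN : L ≤ N) (h : N = normalizer ((L ⊔ S : Subgroup Γ) : Set Γ)) :
    Nat.card {χ : IrrCharacter (⊤ : Subgroup Γ) // ¬ p ∣ charDegree χ.1 ∧ gmul le_top χ.1 ν.1 ≠ 0} =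
      Nat.card {χ : IrrCharacter N // ¬ p ∣ charDegree χ.1 ∧ gmul hN χ.1 ν.1 ≠ 0} := by
  subst h
  simpa [hN] using chain_eq hG S L (fun W => Nat.card {χ : IrrCharacter W //
    ¬ p ∣ charDegree χ.1 ∧ ∃ h : L ≤ W, gmul h χ.1 ν.1 ≠ 0}) fun L' K C X Y M N _ hL D => by
      have hC := hL.trans D.LC
      have hX := hC.trans (D.CK.trans D.KX)
      have hY := hC.trans D.CY
      have hNX := D.NM.trans D.MX
      have h1 : ∀ {η ψ}, D.R η ψ → (gmul hX η.1 ν.1 ≠ 0 ↔ gmul hY ψ.1 ν.1 ≠ 0) :=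
        fun ⟨_, _, h⟩ => h.over_iff hC le_normalizer_of_normal hν
      refine D.card_eq _ _ (fun η ψ => D.R η ψ ∧ gmul hX η.1 ν.1 ≠ 0) (fun _ _ h => h.1)
        (fun χ ⟨h, _, h'⟩ => ?_) (fun χ ⟨h, _, h'⟩ => ?_) fun η ψ ⟨h, h'⟩ => ?_
      · obtain ⟨η, h2, h3⟩ := exists_between D.XM hX h'
        obtain ⟨ψ, h4⟩ := D.exists_right (mt (not_dvd_charDegree_iff hp.1 _ D.MX D.idx h2).2 h)
        exact ⟨η, ψ, ⟨h4, h3⟩, h2⟩
      · obtain ⟨ψ, h2, h3⟩ := exists_between D.YN hY h'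
        obtain ⟨η, h4⟩ := D.exists_left
          (mt (not_dvd_charDegree_iff hp.1 _ D.NY (D.index_eq' ▸ D.idx) h2).2 h)
        exact ⟨η, ψ, ⟨h4, (h1 h4).2 h3⟩, h2⟩
      · exact (Nat.card_congr (Equiv.subtypeEquivRight fun χ => and_iff_right_of_imp fun h2 =>
          ⟨mt (not_dvd_charDegree_iff hp.1 _ D.MX D.idx h2).1 h.degX, _,
            gmul_trans_ne_zero _ _ h2 h'⟩)).trans ((D.card_over_eq h).trans (Nat.card_congr
          (Equiv.subtypeEquivRight fun χ => and_iff_right_of_imp fun h2 =>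
          ⟨mt (not_dvd_charDegree_iff hp.1 _ D.NY (D.index_eq' ▸ D.idx) h2).1 h.degY, _,
            gmul_trans_ne_zero _ _ h2 ((h1 h).1 h')⟩)).symm)

end Cfsg.Agent.H8
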