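import Mathlib

/-! Permutational wreath products and the property "`P/P'` has exponent dividing `p`". -/

set_option autoImplicit false

namespace Cfsg.Agent.H8

open Subgroup Equiv SemidirectProduct
open scoped Pointwise commutatorElement

section good

variable {G X : Type*} [Group G] [Group X] {p : ℕ}

/-- The elements of `H` whose `p`-th power lies in the derived subgroup of `H`. -/
def goodSub (p : ℕ) (H : Subgroup G) : Subgroup G :=
  ((powMonoidHom p).comp (Abelianization.of (G := H))).ker.map H.subtype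

theorem mem_goodSub {H : Subgroup G} {x : G} : x ∈ goodSub p H ↔ x ∈ H ∧ x ^ p ∈ ⁅H, H⁆ := by
  have key : ∀ y : H, y ∈ ((powMonoidHom p).comp (Abelianization.of (G := H))).ker ↔
      (y : G) ^ p ∈ ⁅H, H⁆ := fun y => by
    rw [MonoidHom.mem_ker, MonoidHom.comp_apply, powMonoidHom_apply, ← map_pow,
      ← MonoidHom.mem_ker, Abelianization.ker_of, ← H.map_subtype_commutator,
      ← coe_pow, ← H.subtype_apply, mem_map_iff_mem H.subtype_injective]
  constructor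
  · rintro ⟨y, hy, rfl⟩
    exact ⟨y.2, (key y).1 hy⟩
  · rintro ⟨h1, h2⟩
    exact ⟨⟨x, h1⟩, (key _).2 h2, rfl⟩

theorem goodSub_le (H : Subgroup G) : goodSub p H ≤ H := map_subtype_le _

theorem mem_goodSub_map (f : X →* G) {K : Subgroup X} {H : Subgroup G} (h : K.map f ≤ H) {x : X}
    (hx : x ∈ goodSub p K) : f x ∈ goodSub p H := by
  rw [mem_goodSub] at hx ⊢
  refine ⟨h ⟨x, hx.1, rfl⟩, commutator_mono h h ?_⟩
  rw [← map_commutator, ← map_pow]
  exact ⟨_, hx.2, rfl⟩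

theorem goodSub_mono {K H : Subgroup G} (h : K ≤ H) : goodSub p K ≤ goodSub p H := fun _ hx =>
  mem_goodSub_map (MonoidHom.id G) (by simpa using h) hx

theorem mem_goodSub_of_pow {H : Subgroup G} {x : G} (hx : x ∈ H) (h : x ^ p = 1) :
    x ∈ goodSub p H := mem_goodSub.2 ⟨hx, h ▸ one_mem _⟩

theorem mem_goodSub_of_mul_self {H : Subgroup G} {x : G} (hx : x ∈ H) (h : x * x = 1) :
    x ∈ goodSub 2 H := mem_goodSub_of_pow hx (by rw [sq, h])

theorem mem_goodSub_of_inv {H : Subgroup G} {x g : G} (hx : x ∈ H) (hg : g ∈ H)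
    (h : g * x * g⁻¹ = x⁻¹) : x ∈ goodSub 2 H := by
  refine mem_goodSub.2 ⟨hx, ?_⟩
  have h1 : g * x⁻¹ * g⁻¹ = x := by
    rw [← inv_inj, show (g * x⁻¹ * g⁻¹)⁻¹ = g * x * g⁻¹ by group, h]
  have : x ^ 2 = ⁅x, g⁆ := by
    rw [commutatorElement_def, sq, show x * g * x⁻¹ * g⁻¹ = x * (g * x⁻¹ * g⁻¹) by group, h1]
  rw [this]
  exact commutator_mem_commutator hx hg

theorem conj_mem_goodSub {H : Subgroup G} {x g : G} (hg : ∀ y ∈ H, g * y * g⁻¹ ∈ H)
    (hx : x ∈ goodSub p H) : g * x * g⁻¹ ∈ goodSub p H :=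
  mem_goodSub_map (MulAut.conj g).toMonoidHom (by rintro _ ⟨y, hy, rfl⟩; exact hg y hy) hx

theorem map_le_goodSub (f : X →* G) {K : Subgroup X} (h : K ≤ goodSub p K) :
    K.map f ≤ goodSub p (K.map f) := by
  rintro _ ⟨x, hx, rfl⟩
  exact mem_goodSub_map f le_rfl (h hx)

theorem pow_mem_of_map_le (f : X →* G) (hf : Function.Injective f) {K : Subgroup X}
    (h : K.map f ≤ goodSub p (K.map f)) (x : K) : x ^ p ∈ commutator K := by
  have h1 := (mem_goodSub.1 (h ⟨x, x.2, rfl⟩)).2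
  rw [← map_commutator, ← map_pow, mem_map_iff_mem hf, ← K.map_subtype_commutator, ← coe_pow,
    ← K.subtype_apply, mem_map_iff_mem K.subtype_injective] at h1
  exact h1

theorem le_goodSub_of_pow_mem {K : Subgroup X} (h : ∀ x : K, x ^ p ∈ commutator K) :
    K ≤ goodSub p K := fun x hx => mem_goodSub.2 ⟨hx, by
  rw [← K.map_subtype_commutator]; exact ⟨_, h ⟨x, hx⟩, rfl⟩⟩

/-- `H` is generated by its elements of order dividing `p`. -/
def GenP (p : ℕ) (H : Subgroup G) : Prop := H ≤ closure {x | x ∈ H ∧ x ^ p = 1}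

theorem GenP.le_goodSub {H : Subgroup G} (h : GenP p H) : H ≤ goodSub p H :=
  h.trans ((closure_le _).2 fun _ hx => mem_goodSub_of_pow hx.1 hx.2)

theorem GenP.map {K : Subgroup X} (h : GenP p K) (f : X →* G) : GenP p (K.map f) := by
  refine (map_mono h).trans ?_
  rw [MonoidHom.map_closure]
  refine closure_mono ?_
  rintro _ ⟨x, hx, rfl⟩
  exact ⟨⟨x, hx.1, rfl⟩, by rw [← map_pow, hx.2, map_one]⟩

variable [Finite G] [hp : Fact p.Prime]

theorem exists_map_eq_sylow (f : X →* G) (hf : Function.Injective f) {P : Subgroup X}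
    (hP : IsPGroup p P) (hc : (Nat.card G).factorization p ≤ (Nat.card P).factorization p)
    (S : Sylow p G) : ∃ g : G, P.map ((MulAut.conj g).toMonoidHom.comp f) = S := by
  haveI := Finite.of_injective f hf
  obtain ⟨k, hk⟩ := hP.exists_card_eq
  obtain ⟨S', hS'⟩ := (hP.map f).exists_le_sylow
  have h1 : P.map f = S' := eq_of_le_of_card_ge hS' (by
    rw [card_map_of_injective hf, S'.card_eq_multiplicity, hk]
    rw [hk, Nat.factorization_pow_self hp.out] at hc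
    exact Nat.pow_le_pow_right hp.out.pos hc)
  obtain ⟨g, hg⟩ := MulAction.exists_smul_eq G S' S
  exact ⟨g, by rw [← map_map, h1, ← hg]; rfl⟩

theorem sylow_pow_mem (f : X →* G) (hf : Function.Injective f) {P : Subgroup X}
    (hP : IsPGroup p P) (hc : (Nat.card G).factorization p ≤ (Nat.card P).factorization p)
    (hE : P ≤ goodSub p P) (S : Sylow p G) (x : (S : Subgroup G)) :
    x ^ p ∈ commutator (S : Subgroup G) := by
  obtain ⟨g, hg⟩ := exists_map_eq_sylow f hf hP hc S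
  refine pow_mem_of_map_le (MonoidHom.id G) Function.injective_id ?_ x
  rw [map_id, ← hg]
  exact map_le_goodSub _ hE

theorem sylow_ker_pow_mem {A : Type*} [Group A] (f : X →* G) (hf : Function.Injective f)
    (ψ : G →* A) {P : Subgroup X}
    (hP : IsPGroup p P) (hc : (Nat.card G).factorization p ≤ (Nat.card P).factorization p)
    (hE : P ⊓ (ψ.comp f).ker ≤ goodSub p (P ⊓ (ψ.comp f).ker)) (S : Sylow p ψ.ker)
    (x : (S : Subgroup ψ.ker)) : x ^ p ∈ commutator (S : Subgroup ψ.ker) := by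
  obtain ⟨S', hS'⟩ := (S.isPGroup'.map ψ.ker.subtype).exists_le_sylow
  obtain ⟨g, hg⟩ := exists_map_eq_sylow f hf hP hc S'
  have h1 : (S' : Subgroup G).comap ψ.ker.subtype = S :=
    S.is_maximal' (S'.isPGroup'.comap_subtype) (map_le_iff_le_comap.1 hS')
  have h2 : (S : Subgroup ψ.ker).map ψ.ker.subtype =
      (P ⊓ (ψ.comp f).ker).map ((MulAut.conj g).toMonoidHom.comp f) := by
    rw [← h1, ← hg]
    ext y
    constructor
    · rintro ⟨y, ⟨z, hz, e⟩, rfl⟩
      refine ⟨z, ⟨hz, ?_⟩, e⟩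
      have h3 : ψ (g * f z * g⁻¹) = 1 := by
        rw [show g * f z * g⁻¹ = y from e]; exact y.2
      rw [map_mul, map_mul, map_inv, conj_eq_one_iff] at h3
      exact h3
    · rintro ⟨z, ⟨hz, hz'⟩, rfl⟩
      refine ⟨⟨_, ?_⟩, ⟨z, hz, rfl⟩, rfl⟩
      change ψ (g * f z * g⁻¹) = 1
      rw [map_mul, map_mul, map_inv, conj_eq_one_iff]
      exact hz'
  refine pow_mem_of_map_le ψ.ker.subtype ψ.ker.subtype_injective ?_ x
  rw [h2]
  exact map_le_goodSub _ hE

theorem sylow_pow_mem_congr [Finite X] (e : X ≃* G)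
    (h : ∀ (S : Sylow p X) (x : (S : Subgroup X)), x ^ p ∈ commutator (S : Subgroup X))
    (S : Sylow p G) (x : (S : Subgroup G)) : x ^ p ∈ commutator (S : Subgroup G) := by
  obtain ⟨P⟩ : Nonempty (Sylow p X) := inferInstance
  refine sylow_pow_mem e.toMonoidHom e.injective P.isPGroup' ?_ (le_goodSub_of_pow_mem (h P)) S x
  rw [P.card_eq_multiplicity, Nat.factorization_pow_self hp.out, Nat.card_congr e.toEquiv]

end good

/-- The wreath product of `D` with the symmetric group on `I`. -/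
abbrev Wr (D I : Type*) [Group D] := (I → D) ⋊[mulAutArrow] Perm I

section wr

variable {D I : Type*} [Group D]

theorem wr_mul_left (a b : Wr D I) (i : I) :
    (a * b).left i = a.left i * b.left (a.right⁻¹ i) := rfl

theorem wr_inv_left (a : Wr D I) (i : I) : a⁻¹.left i = (a.left (a.right i))⁻¹ := rfl

/-- The wreath product of subgroups. -/
def wsub (D0 : Subgroup D) (T : Subgroup (Perm I)) : Subgroup (Wr D I) where
  carrier := {w | (∀ i, w.left i ∈ D0) ∧ w.right ∈ T}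
  one_mem' := ⟨fun _ => one_mem _, one_mem _⟩
  mul_mem' ha hb := ⟨fun _ => mul_mem (ha.1 _) (hb.1 _), mul_mem ha.2 hb.2⟩
  inv_mem' ha := ⟨fun _ => inv_mem (ha.1 _), inv_mem ha.2⟩

variable {D0 : Subgroup D} {T : Subgroup (Perm I)}

theorem card_wsub [Finite I] : Nat.card (wsub D0 T) = Nat.card D0 ^ Nat.card I * Nat.card T := by
  rw [← Nat.card_fun, ← Nat.card_prod]
  exact Nat.card_congr
    { toFun := fun w => (fun i => ⟨w.1.left i, w.2.1 i⟩, ⟨w.1.right, w.2.2⟩)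
      invFun := fun x => ⟨⟨fun i => x.1 i, x.2⟩, fun i => (x.1 i).2, x.2.2⟩
      left_inv := fun _ => rfl
      right_inv := fun _ => rfl }

theorem inr_mem_wsub {t : Perm I} (ht : t ∈ T) : (inr t : Wr D I) ∈ wsub D0 T :=
  ⟨fun _ => one_mem _, ht⟩

variable [DecidableEq I]

/-- The embedding of `D` at position `i`. -/
def sg (i : I) : D →* Wr D I := inl.comp (MonoidHom.mulSingle (fun _ : I => D) i)

theorem sg_left (i : I) (d : D) : (sg i d).left = Pi.mulSingle i d := rfl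

theorem sg_right (i : I) (d : D) : (sg i d).right = 1 := rfl

theorem conj_sg (w : Wr D I) (i : I) (d : D) :
    w * sg i d * w⁻¹ = sg (w.right i) (w.left (w.right i) * d * (w.left (w.right i))⁻¹) := by
  refine SemidirectProduct.ext (funext fun j => ?_) (by simp [sg_right])
  rw [wr_mul_left, wr_mul_left, wr_inv_left, sg_left, sg_left, mul_right, sg_right, mul_one,
    Perm.inv_def, apply_symm_apply]
  by_cases h : j = w.right i
  · subst h; simp
  · rw [Pi.mulSingle_eq_of_ne h, Pi.mulSingle_eq_of_ne fun e => h (by rw [← e]; simp)]; simp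

theorem inr_conj_sg (t : Perm I) (i : I) (d : D) :
    inr t * sg i d * (inr t)⁻¹ = (sg (t i) d : Wr D I) := by
  rw [conj_sg]; simp

theorem sg_commute {i j : I} (h : i ≠ j) (d e : D) : Commute (sg i d) (sg j e) :=
  (Pi.mulSingle_commute (f := fun _ : I => D) h d e).map (inl : (I → D) →* Wr D I)

theorem sg_mem_wsub (i : I) {d : D} (hd : d ∈ D0) : sg i d ∈ wsub D0 T := by
  refine ⟨fun j => ?_, one_mem _⟩
  rw [sg_left]
  by_cases h : j = i
  · subst h; simpa using hd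
  · rw [Pi.mulSingle_eq_of_ne h]; exact one_mem _

theorem wsub_le [Finite I] {K : Subgroup (Wr D I)} (h1 : ∀ i, ∀ d ∈ D0, sg i d ∈ K)
    (h2 : ∀ t ∈ T, inr t ∈ K) : wsub D0 T ≤ K := fun w hw => by
  rw [← w.inl_left_mul_inr_right]
  exact mul_mem (pi_mem_of_mulSingle_mem (H := K.comap inl) w.left fun i => h1 i _ (hw.1 i))
    (h2 _ hw.2)

theorem map_sg_eq {A : Type*} [CommGroup A] (ψ : Wr D I →* A) (i j : I) (d : D) :
    ψ (sg i d) = ψ (sg j d) := by
  have := congrArg ψ (inr_conj_sg (swap i j) i d)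
  rwa [map_mul, map_mul, map_inv, mul_inv_cancel_comm, swap_apply_left] at this

theorem map_sg_le (i : I) : D0.map (sg i) ≤ wsub D0 T := by
  rintro _ ⟨d, hd, rfl⟩
  exact sg_mem_wsub i hd

omit [DecidableEq I] in
theorem map_inr_le : T.map (inr : Perm I →* Wr D I) ≤ wsub D0 T := by
  rintro _ ⟨d, hd, rfl⟩
  exact inr_mem_wsub hd

theorem GenP.le_closure {G : Type*} [Group G] {p : ℕ} {H K : Subgroup G} (h : GenP p H)
    (hk : H ≤ K) : H ≤ closure {x | x ∈ K ∧ x ^ p = 1} :=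
  h.trans (Subgroup.closure_mono fun _ hx => And.intro (hk hx.1) hx.2)

theorem GenP.wsub [Finite I] {p : ℕ} (h1 : GenP p D0) (h2 : GenP p T) : GenP p (wsub D0 T) :=
  wsub_le
    (fun i d hd => (h1.map (sg i)).le_closure (map_sg_le i) ⟨d, hd, rfl⟩)
    (fun t ht => (h2.map (inr : Perm I →* Wr D I)).le_closure map_inr_le ⟨t, ht, rfl⟩)

theorem wsub_le_goodSub [Finite I] {p : ℕ} (h1 : D0 ≤ goodSub p D0) (h2 : T ≤ goodSub p T) :
    wsub D0 T ≤ goodSub p (wsub D0 T) :=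
  wsub_le (fun i _ hd => mem_goodSub_map (sg i) (map_sg_le i) (h1 hd))
    (fun _ ht => mem_goodSub_map (inr : Perm I →* Wr D I) map_inr_le (h2 ht))

theorem isPGroup_wsub [Finite I] [Finite D] {p : ℕ} [Fact p.Prime] (h1 : IsPGroup p D0)
    (h2 : IsPGroup p T) : IsPGroup p (wsub D0 T) := by
  obtain ⟨a, ha⟩ := h1.exists_card_eq
  obtain ⟨b, hb⟩ := h2.exists_card_eq
  exact IsPGroup.of_card (by rw [card_wsub, ha, hb, ← pow_mul, ← pow_add])

theorem factorization_card_wsub [Finite I] [Finite D] (p : ℕ) :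
    (Nat.card (wsub D0 T)).factorization p =
      Nat.card I * (Nat.card D0).factorization p + (Nat.card T).factorization p := by
  rw [card_wsub, Nat.factorization_mul (pow_ne_zero _ Nat.card_pos.ne') Nat.card_pos.ne',
    Nat.factorization_pow]
  rfl

end wr

section ker

variable {X A : Type*} [Group X] [Group A]

theorem inf_ker_le_goodSub {p : ℕ} (ψ : X →* A) {P E : Subgroup X} (hE : E ≤ P)
    (h1 : P ≤ goodSub p (P ⊓ ψ.ker) ⊔ E) (h2 : E ⊓ ψ.ker ≤ goodSub p (P ⊓ ψ.ker)) :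
    P ⊓ ψ.ker ≤ goodSub p (P ⊓ ψ.ker) := fun x hx => by
  have hc : ∀ g ∈ P, ∀ y ∈ P ⊓ ψ.ker, g * y * g⁻¹ ∈ P ⊓ ψ.ker := fun g hg y hy =>
    mem_inf.2 ⟨mul_mem (mul_mem hg (mem_inf.1 hy).1) (inv_mem hg),
      ψ.normal_ker.conj_mem y (mem_inf.1 hy).2 g⟩
  have hn : E ≤ normalizer (goodSub p (P ⊓ ψ.ker) : Set X) := fun g hg => mem_normalizer_iff.2
    fun y => ⟨conj_mem_goodSub (hc g (hE hg)), fun hy => by
      simpa [mul_assoc] using conj_mem_goodSub (hc g⁻¹ (inv_mem (hE hg))) hy⟩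
  have h3 := h1 (mem_inf.1 hx).1
  rw [← SetLike.mem_coe, coe_mul_of_right_le_normalizer_left _ _ hn] at h3
  obtain ⟨n, hn, e, he, rfl⟩ := h3
  refine mul_mem hn (h2 (mem_inf.2 ⟨he, ?_⟩))
  simpa using mul_mem (inv_mem (mem_inf.1 (goodSub_le _ hn)).2) (mem_inf.1 hx).2

end ker

section wrker

variable {D I R A : Type*} [Group D] [Finite I] [DecidableEq I] [Group R] [CommGroup A]

theorem wr_ker (ψ : Wr D I × R →* A) {D0 : Subgroup D} {T : Subgroup (Perm I)} (i0 : I)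
    (δ : D →* A) (hδ : ∀ d, ψ (sg i0 d, 1) = δ d)
    (hT : ∀ t ∈ T, ψ (inr t, 1) = 1) (hT2 : T ≤ goodSub 2 T)
    (hD : D0 ≤ closure {d | d ∈ D0 ∧ (δ d = 1 ∨ d * d = 1)})
    (hD1 : ∀ d ∈ D0, δ d = 1 → d ∈ goodSub 2 (D0 ⊓ δ.ker) ∨
      (Nontrivial I ∧ ∃ a ∈ D0, a * a = 1 ∧ a * d * a⁻¹ = d⁻¹))
    (hR : ⊤ ≤ closure {r : R | r * r = 1 ∧ ∃ a ∈ D0, a * a = 1 ∧ δ a = ψ (1, r)}) :
    (wsub D0 T).prod ⊤ ⊓ ψ.ker ≤ goodSub 2 ((wsub D0 T).prod ⊤ ⊓ ψ.ker) := by
  let e : I → D →* Wr D I × R := fun i => (MonoidHom.inl _ _).comp (sg i)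
  have he : ∀ i d, ψ (e i d) = δ d := fun i d =>
    (map_sg_eq (ψ.comp (MonoidHom.inl _ _)) i i0 d).trans (hδ d)
  have heP : ∀ i, ∀ d ∈ D0, e i d ∈ (wsub D0 T).prod (⊤ : Subgroup R) := fun i d hd =>
    ⟨sg_mem_wsub i hd, trivial⟩
  have hcomm : ∀ i j, i ≠ j → ∀ d d', Commute (e i d) (e j d') := fun i j h d d' =>
    (sg_commute h d d').map (MonoidHom.inl _ _)
  have hpair : ∀ i j, ∀ a ∈ D0, a * a = 1 →
      e i a * e j a ∈ (wsub D0 T).prod (⊤ : Subgroup R) ⊓ ψ.ker := fun i j a ha a2 =>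
    ⟨mul_mem (heP i a ha) (heP j a ha), by
      change ψ _ = 1
      rw [map_mul, he, he, ← map_mul, a2, map_one]⟩
  have h1 : ∀ i, ∀ d ∈ D0, δ d = 1 → e i d ∈ goodSub 2 ((wsub D0 T).prod ⊤ ⊓ ψ.ker) := by
    intro i d hd h1
    rcases hD1 d hd h1 with h | ⟨_, a, ha, a2, had⟩
    · refine mem_goodSub_map (e i) ?_ h
      rintro _ ⟨y, hy, rfl⟩
      exact ⟨heP i y hy.1, (he i y).trans hy.2⟩
    · obtain ⟨j, hj⟩ := exists_ne i
      refine mem_goodSub_of_inv ⟨heP i d hd, (he i d).trans h1⟩ (hpair i j a ha a2) ?_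
      rw [mul_inv_rev, mul_assoc (e i a), (hcomm j i hj a d).eq, mul_assoc, mul_assoc,
        mul_inv_cancel_left, ← mul_assoc, ← map_mul, ← map_inv, ← map_mul, had, map_inv]
  refine inf_ker_le_goodSub ψ (E := D0.map (e i0)) (map_le_iff_le_comap.2 (heP i0)) ?_ ?_
  swap
  · rintro _ ⟨⟨d, hd, rfl⟩, h⟩
    exact h1 i0 d hd ((he i0 d).symm.trans h)
  set K := goodSub 2 ((wsub D0 T).prod ⊤ ⊓ ψ.ker) ⊔ D0.map (e i0) with hK
  have h2 : ∀ a ∈ D0, e i0 a ∈ K := fun a ha => mem_sup_right ⟨a, ha, rfl⟩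
  rintro ⟨w, r⟩ ⟨hw, -⟩
  rw [show ((w, r) : Wr D I × R) = MonoidHom.inl _ _ w * MonoidHom.inr _ _ r by simp]
  refine mul_mem (wsub_le (K := comap (MonoidHom.inl (Wr D I) R) K)
    (fun i d hd => ?_) (fun t ht => ?_) hw)
    ((closure_le (comap (MonoidHom.inr (Wr D I) R) K)).2 ?_ (hR (mem_top r)))
  · refine (closure_le (comap (e i) K)).2 ?_ (hD hd)
    rintro a ⟨ha, h | h⟩
    · exact mem_sup_left (h1 i a ha h)
    by_cases hi : i = i0
    · subst hi; exact h2 a ha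
    have h3 : e i a = e i a * e i0 a * e i0 a := by
      rw [mul_assoc, ← map_mul, h, map_one, mul_one]
    change e i a ∈ K
    rw [h3]
    refine mul_mem (mem_sup_left (mem_goodSub_of_pow (hpair i i0 a ha h) ?_)) (h2 a ha)
    rw [(hcomm i i0 hi a a).mul_pow, ← map_pow, ← map_pow, sq, h, map_one, map_one, mul_one]
  · refine mem_sup_left (mem_goodSub_map (K := T)
      ((MonoidHom.inl (Wr D I) R).comp (inr : Perm I →* Wr D I)) ?_ (hT2 ht))
    rintro _ ⟨y, hy, rfl⟩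
    exact ⟨⟨inr_mem_wsub hy, trivial⟩, hT y hy⟩
  · rintro r ⟨r2, a, ha, a2, h⟩
    have h3 : MonoidHom.inr _ _ r = (sg i0 a, r) * e i0 a := by
      ext1
      · change 1 = sg i0 a * sg i0 a
        rw [← map_mul, a2, map_one]
      · exact (mul_one r).symm
    change MonoidHom.inr (Wr D I) R r ∈ K
    rw [h3]
    refine mul_mem (mem_sup_left (mem_goodSub_of_mul_self ⟨⟨sg_mem_wsub i0 ha, trivial⟩, ?_⟩ ?_))
      (h2 a ha)
    · change ψ _ = 1
      rw [show ((sg i0 a, r) : Wr D I × R) = (sg i0 a, 1) * (1, r) by simp, map_mul, hδ, ← h,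
        ← map_mul, a2, map_one]
    · rw [Prod.mk_mul_mk, ← map_mul, a2, r2, map_one]; rfl

theorem wr_ker_cyc (ψ : Wr A I →* A) {D0 : Subgroup A} {T : Subgroup (Perm I)} (i0 : I)
    (hδ : ∀ d, ψ (sg i0 d) = d) (hT : ∀ t ∈ T, ∃ c ∈ D0, ψ (inr t) = c ^ 2) (hT2 : GenP 2 T)
    (htr : ∀ i, ∃ t ∈ T, t i0 = i) :
    wsub D0 T ⊓ ψ.ker ≤ goodSub 2 (wsub D0 T ⊓ ψ.ker) := by
  have he : ∀ i d, ψ (sg i d) = d := fun i d => (map_sg_eq ψ i i0 d).trans (hδ d)
  have hcomm : ∀ (i j : I) (d d' : A), Commute (sg i d) (sg j d') := fun i j d d' =>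
    (Commute.all (Pi.mulSingle i d : I → A) (Pi.mulSingle j d')).map inl
  have hl : ∀ t ∈ T, sg i0 (ψ (inr t))⁻¹ * inr t ∈ wsub D0 T ⊓ ψ.ker := fun t ht => by
    obtain ⟨c, hc, h⟩ := hT t ht
    refine ⟨mul_mem (sg_mem_wsub i0 (h ▸ inv_mem (pow_mem hc 2))) (inr_mem_wsub ht), ?_⟩
    change ψ _ = 1
    rw [map_mul, he, inv_mul_cancel]
  have h1 : ∀ t ∈ T, ∀ d ∈ D0, ∀ i, sg (t i) d * sg i d⁻¹ ∈ goodSub 2 (wsub D0 T ⊓ ψ.ker) := by
    intro t ht d hd
    refine closure_induction (p := fun t _ => ∀ i,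
      sg (t i) d * sg i d⁻¹ ∈ goodSub 2 (wsub D0 T ⊓ ψ.ker)) ?_ ?_ ?_ ?_ (hT2 ht)
    · rintro t ⟨ht, t2⟩ i
      refine mem_goodSub_of_inv ⟨mul_mem (sg_mem_wsub _ hd) (sg_mem_wsub _ (inv_mem hd)), ?_⟩
        (hl t ht) ?_
      · change ψ _ = 1
        rw [map_mul, he, he, mul_inv_cancel]
      · have h2 : t (t i) = i := by rw [← Perm.mul_apply, ← sq, t2, Perm.one_apply]
        have h3 : inr t * (sg (t i) d * sg i d⁻¹) * (inr t)⁻¹ =
            (sg i d * sg (t i) d⁻¹ : Wr A I) := by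
          rw [← conj_mul, inr_conj_sg, inr_conj_sg, h2]
        rw [mul_inv_rev, mul_assoc (sg i0 _), mul_assoc, ← mul_assoc (inr t * _), h3,
          ← mul_assoc, ((hcomm i0 i _ _).mul_right (hcomm i0 (t i) _ _)).eq, mul_inv_cancel_right,
          mul_inv_rev, ← map_inv, ← map_inv, inv_inv]
    · intro i
      rw [Perm.one_apply, ← map_mul, mul_inv_cancel, map_one]
      exact one_mem _
    · intro s t _ _ hs ht i
      have := mul_mem (hs (t i)) (ht i)
      rwa [mul_assoc, ← mul_assoc (sg (t i) d⁻¹), ← map_mul, inv_mul_cancel, map_one,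
        one_mul] at this
    · intro t _ ht i
      have := inv_mem (ht (t⁻¹ i))
      rwa [mul_inv_rev, ← map_inv, ← map_inv, inv_inv, Perm.inv_def, apply_symm_apply] at this
  refine inf_ker_le_goodSub ψ (E := D0.map (sg i0))
    (map_le_iff_le_comap.2 fun _ => sg_mem_wsub i0) (wsub_le (fun i d hd => ?_) fun t ht => ?_) ?_
  · obtain ⟨t, ht, rfl⟩ := htr i
    have := mul_mem (mem_sup_left (T := D0.map (sg i0)) (h1 t ht d hd i0))
      (mem_sup_right ⟨d, hd, rfl⟩)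
    rwa [mul_assoc, ← map_mul, inv_mul_cancel, map_one, mul_one] at this
  · refine (closure_le (comap (inr : Perm I →* Wr A I)
      (goodSub 2 (wsub D0 T ⊓ ψ.ker) ⊔ D0.map (sg i0)))).2 ?_ (hT2 ht)
    rintro t ⟨ht, t2⟩
    obtain ⟨c, hc, h⟩ := hT t ht
    have h4 : (c ^ 2)⁻¹ = c ^ 2 := by
      rw [inv_eq_iff_mul_eq_one, ← h, ← map_mul, ← map_mul, ← sq, t2, map_one, map_one]
    have h2 : sg i0 (ψ (inr t))⁻¹ * inr t ∈ goodSub 2 (wsub D0 T ⊓ ψ.ker) := by
      refine mem_goodSub.2 ⟨hl t ht, ?_⟩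
      have h3 : (sg i0 (ψ (inr t))⁻¹ * inr t) ^ 2 = (sg (t i0) c * sg i0 c⁻¹) ^ 2 := by
        rw [(hcomm _ _ _ _).mul_pow, ← map_pow, ← map_pow, inv_pow, ← (hcomm _ _ _ _).eq,
          ← inr_conj_sg, h, h4, sq, ← map_inv, show t⁻¹ = t from
            inv_eq_of_mul_eq_one_right (by rw [← sq, t2])]
        group
      rw [h3]
      exact (mem_goodSub.1 (h1 t ht c hc i0)).2
    have h5 : sg i0 (ψ (inr t)) ∈ D0.map (sg i0) := mem_map_of_mem _ (h ▸ pow_mem hc 2)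
    have := mul_mem (mem_sup_right (S := goodSub 2 (wsub D0 T ⊓ ψ.ker)) h5) (mem_sup_left h2)
    rwa [← mul_assoc, ← map_mul, mul_inv_cancel, map_one, one_mul] at this
  · rintro _ ⟨⟨d, hd, rfl⟩, h⟩
    rw [show d = 1 from (he i0 d).symm.trans h, map_one]
    exact one_mem _

end wrker

end Cfsg.Agent.H8
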