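import Cfsg.Agent.H8.Wr

/-! Sylow subgroups of symmetric and alternating groups via wreath products. -/

set_option autoImplicit false

namespace Cfsg.Agent.H8

open Subgroup Equiv SemidirectProduct Function

section perm

variable {D I J : Type*} [Group D]

/-- The imprimitive action of a wreath product. -/
def wrPerm (ρ : D →* Perm J) : Wr D I →* Perm (I × J) where
  toFun w :=
    { toFun := fun x => (w.right x.1, ρ (w.left (w.right x.1)) x.2)
      invFun := fun x => (w.right⁻¹ x.1, (ρ (w.left x.1))⁻¹ x.2)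
      left_inv := fun x => by simp
      right_inv := fun x => by simp }
  map_one' := by ext x <;> simp
  map_mul' a b := by ext x <;> simp [wr_mul_left]

theorem wrPerm_injective [Nonempty J] {ρ : D →* Perm J} (hρ : Injective ρ) :
    Injective (wrPerm ρ : Wr D I →* _) := by
  rw [injective_iff_map_eq_one]
  intro w hw
  have h1 : ∀ i j, (w.right i, ρ (w.left (w.right i)) j) = (i, j) := fun i j =>
    DFunLike.congr_fun hw (i, j)
  obtain ⟨j0⟩ := ‹Nonempty J›
  have h2 : w.right = 1 := Equiv.ext fun i => congrArg Prod.fst (h1 i j0)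
  refine SemidirectProduct.ext (funext fun i => hρ ?_) h2
  ext j
  simpa [h2] using congrArg Prod.snd (h1 i j)

theorem wrPerm_inr (ρ : D →* Perm J) (t : Perm I) :
    wrPerm ρ (inr t : Wr D I) = prodCongrLeft fun _ : J => t := by
  ext x <;> simp [wrPerm]

theorem map_eq_one_of_sign {α A : Type*} [Fintype α] [DecidableEq α] [CommGroup A]
    (φ : Perm α →* A) {σ : Perm α} (h : Perm.sign σ = 1) : φ σ = 1 := by
  have hs : ∀ x y z w : α, x ≠ y → z ≠ w → φ (swap x y) = φ (swap z w) := fun x y z w h1 h2 =>
    isConj_iff_eq.1 (φ.map_isConj (Perm.isConj_swap h1 h2))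
  suffices H : (Perm.sign σ = 1 → φ σ = 1) ∧
      (Perm.sign σ = -1 → ∀ x y, x ≠ y → φ σ = φ (swap x y)) from H.1 h
  clear h
  induction σ using Perm.swap_induction_on with
  | one => exact ⟨fun _ => map_one φ, fun h => absurd h (by simp)⟩
  | swap_mul f x y hxy ih =>
    rw [Perm.sign_mul, Perm.sign_swap hxy, map_mul]
    refine ⟨fun h => ?_, fun h z w hzw => ?_⟩
    · rw [ih.2 (by simpa [neg_eq_iff_eq_neg] using h) x y hxy, ← map_mul, swap_mul_self, map_one]
    · rw [ih.1 (by simpa using h), mul_one, hs x y z w hxy hzw]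

theorem sign_prodCongrLeft_two [Fintype I] [DecidableEq I] [Fintype J] [DecidableEq J]
    (hJ : Fintype.card J = 2) (t : Perm I) : Perm.sign (prodCongrLeft fun _ : J => t) = 1 := by
  rw [Perm.sign_prodCongrLeft, Finset.prod_const, Finset.card_univ, hJ, Int.units_sq]

theorem factorization_factorial_div (p : ℕ) [hp : Fact p.Prime] (n : ℕ) :
    n.factorial.factorization p = n / p + (n / p).factorial.factorization p := by
  rw [Nat.factorization_def _ hp.out, Nat.factorization_def _ hp.out]
  conv_lhs => rw [← Nat.div_add_mod n p, padicValNat_factorial_mul_add _ (Nat.mod_lt n hp.out.pos),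
    padicValNat_factorial_mul, add_comm]

theorem factorization_card_sylow {G : Type*} [Group G] [Finite G] {p : ℕ} [hp : Fact p.Prime]
    (S : Sylow p G) : (Nat.card S).factorization p = (Nat.card G).factorization p := by
  rw [S.card_eq_multiplicity, Nat.factorization_pow_self hp.out]

theorem factorization_card_sylow_perm [Fintype I] {p : ℕ} [hp : Fact p.Prime]
    (S : Sylow p (Perm I)) :
    (Nat.card S).factorization p = (Fintype.card I).factorial.factorization p := by
  rw [factorization_card_sylow, Nat.card_perm, Nat.card_eq_fintype_card]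

theorem sign_viaEmbeddingHom {α β : Type*} [Fintype α] [DecidableEq α] [Fintype β] [DecidableEq β]
    (ι : α ↪ β) (σ : Perm α) : Perm.sign (Perm.viaEmbeddingHom ι σ) = Perm.sign σ :=
  @Perm.sign_extendDomain _ _ _ _ _ _ σ _ (fun _ => Classical.propDecidable _) _

theorem zmod_two_mul_self : ∀ d : Multiplicative (ZMod 2), d * d = 1 := by decide

/-- The standard embedding of `C_p ≀ S_m` into `S_n`, `m = ⌊n / p⌋`. -/
theorem exists_wr_perm (p : ℕ) [hp : Fact p.Prime] (α : Type*) [Fintype α] [DecidableEq α] :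
    ∃ f : Wr (Multiplicative (ZMod p)) (Fin (Fintype.card α / p)) →* Perm α, Injective f ∧
      (∀ t, Perm.sign (f (inr t)) = Perm.sign t ^ p) ∧ ∀ T : Sylow p (Perm (Fin (Fintype.card α / p))),
        IsPGroup p (wsub (⊤ : Subgroup (Multiplicative (ZMod p))) T.1) ∧
        (Nat.card (Perm α)).factorization p ≤
          (Nat.card (wsub (⊤ : Subgroup (Multiplicative (ZMod p))) T.1)).factorization p := by
  classical
  obtain ⟨ι⟩ : Nonempty (Fin (Fintype.card α / p) × Multiplicative (ZMod p) ↪ α) :=
    Embedding.nonempty_of_card_le (by simpa using Nat.div_mul_le_self _ _)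
  have hc : Nat.card (⊤ : Subgroup (Multiplicative (ZMod p))) = p := by simp
  refine ⟨(Perm.viaEmbeddingHom ι).comp (wrPerm (MulAction.toPermHom _ _)),
    (Perm.viaEmbeddingHom_injective ι).comp (wrPerm_injective MulAction.toPerm_injective),
    fun t => ?_, fun T => ⟨isPGroup_wsub (.of_card (n := 1) (by rw [hc, pow_one])) T.isPGroup', ?_⟩⟩
  · rw [MonoidHom.comp_apply, wrPerm_inr, sign_viaEmbeddingHom, Perm.sign_prodCongrLeft]
    simp
  · rw [factorization_card_wsub, hc, hp.out.factorization_self, factorization_card_sylow_perm,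
      Nat.card_perm, Nat.card_eq_fintype_card, factorization_factorial_div]
    simp

theorem genP_top_zmod (p : ℕ) : GenP p (⊤ : Subgroup (Multiplicative (ZMod p))) := fun x _ =>
  subset_closure ⟨trivial, by
    rw [← ofAdd_toAdd x, ← ofAdd_nsmul, nsmul_eq_mul, ZMod.natCast_self, zero_mul, ofAdd_zero]⟩

theorem genP_sylow_perm_step (p : ℕ) [hp : Fact p.Prime] (α : Type*) [Fintype α]
    (h : ∀ T : Sylow p (Perm (Fin (Fintype.card α / p))), GenP p T.1) (S : Sylow p (Perm α)) :
    GenP p S.1 := by
  classical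
  obtain ⟨f, hf, -, h2⟩ := exists_wr_perm p α
  obtain ⟨T⟩ : Nonempty (Sylow p (Perm (Fin (Fintype.card α / p)))) := inferInstance
  obtain ⟨g, hg⟩ := exists_map_eq_sylow f hf (h2 T).1 (h2 T).2 S
  rw [← hg]
  exact ((genP_top_zmod p).wsub (h T)).map _

theorem genP_sylow_perm (p : ℕ) [hp : Fact p.Prime] {α : Type*} [Finite α]
    (S : Sylow p (Perm α)) : GenP p S.1 := by
  have key : ∀ n, ∀ T : Sylow p (Perm (Fin n)), GenP p T.1 := fun n => by
    induction n using Nat.strong_induction_on with
    | _ n ih =>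
      rcases n.eq_zero_or_pos with rfl | hn
      · intro T x _
        rw [Subsingleton.elim x 1]
        exact one_mem _
      · exact genP_sylow_perm_step p _ (ih _ (by simpa using Nat.div_lt_self hn hp.out.one_lt))
  cases nonempty_fintype α
  exact genP_sylow_perm_step p α (key _) S

theorem sylow_perm_pow_mem (p : ℕ) [hp : Fact p.Prime] {α : Type*} [Finite α]
    (S : Sylow p (Perm α)) (x : (S : Subgroup (Perm α))) :
    x ^ p ∈ commutator (S : Subgroup (Perm α)) :=
  pow_mem_of_map_le (MonoidHom.id _) injective_id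
    (by rw [Subgroup.map_id]; exact (genP_sylow_perm p S).le_goodSub) x

theorem sylow_alt_pow_mem (p : ℕ) [hp : Fact p.Prime] {α : Type*} [Fintype α] [DecidableEq α]
    (S : Sylow p (alternatingGroup α)) (x : (S : Subgroup (alternatingGroup α))) :
    x ^ p ∈ commutator (S : Subgroup (alternatingGroup α)) := by
  rcases hp.out.eq_two_or_odd' with rfl | hodd
  · rcases (Fintype.card α / 2).eq_zero_or_pos with h0 | h0
    · haveI : Subsingleton α := Fintype.card_le_one_iff_subsingleton.1 (by omega)
      rw [Subsingleton.elim (x ^ 2) 1]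
      exact one_mem _
    obtain ⟨f, hf, h1, h2⟩ := exists_wr_perm 2 α
    obtain ⟨T⟩ : Nonempty (Sylow 2 (Perm (Fin (Fintype.card α / 2)))) := inferInstance
    have h3 := zmod_two_mul_self
    refine sylow_ker_pow_mem (f.comp (MonoidHom.fst _ Unit))
      (hf.comp fun a b h => Prod.ext h rfl) Perm.sign
      (P := (wsub ⊤ T.1).prod ⊤) ?_ ?_ ?_ S x
    · exact (h2 T).1.of_equiv ((MulEquiv.prodUnique).symm.trans
        ((MulEquiv.prodCongr (.refl _) topEquiv.symm).trans (prodEquiv _ _).symm))
    · rw [Nat.card_congr (prodEquiv _ _).toEquiv, Nat.card_prod]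
      simpa using (h2 T).2
    · refine wr_ker _ ⟨0, h0⟩ (Perm.sign.comp (f.comp (sg ⟨0, h0⟩))) (fun _ => rfl)
        (fun t _ => (h1 t).trans (Int.units_sq _)) (genP_sylow_perm 2 T).le_goodSub
        (fun d hd => subset_closure ⟨hd, Or.inr (h3 d)⟩)
        (fun d hd h => Or.inl (mem_goodSub_of_mul_self ⟨hd, h⟩ (h3 d)))
        (fun r _ => subset_closure ⟨rfl, 1, trivial, one_mul 1, ?_⟩)
      rw [map_one]
      exact (map_one _).symm
  · obtain ⟨P⟩ : Nonempty (Sylow p (Perm α)) := inferInstance
    refine sylow_ker_pow_mem (MonoidHom.id _) injective_id Perm.sign P.isPGroup'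
      (factorization_card_sylow P).ge ?_ S x
    rw [inf_eq_left.2]
    · exact (genP_sylow_perm p P).le_goodSub
    · intro y hy
      obtain ⟨k, hk⟩ := P.isPGroup' ⟨y, hy⟩
      have h1 : Perm.sign y ^ p ^ k = 1 := by
        rw [← map_pow, show y ^ p ^ k = 1 from congrArg Subtype.val hk, map_one]
      rcases Int.units_eq_one_or (Perm.sign y) with h | h
      · exact h
      · rw [h, hodd.pow.neg_one_pow] at h1
        exact absurd h1 (by decide)

end perm

end Cfsg.Agent.H8
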