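import Cfsg.Agent.H8.Wr2

/-! `2`-adic valuations of group orders, and linear wreath products. -/

set_option autoImplicit false

namespace Cfsg.Agent.H8

open Subgroup Equiv SemidirectProduct Function Module
open scoped Pointwise

section arith

variable {q : ℕ}

theorem pow_sub_one_ne_zero (hq : 1 < q) {k : ℕ} (hk : k ≠ 0) : q ^ k - 1 ≠ 0 :=
  (Nat.sub_pos_of_lt (Nat.one_lt_pow hk hq)).ne'

theorem fac2_odd {n : ℕ} (h : Odd n) : n.factorization 2 = 0 :=
  Nat.factorization_eq_zero_of_not_dvd (by rw [← even_iff_two_dvd]; simpa using h)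

theorem fac2_pos {n : ℕ} (h0 : n ≠ 0) (h : Even n) : 1 ≤ n.factorization 2 :=
  Nat.prime_two.factorization_pos_of_dvd h0 h.two_dvd

theorem fac2_mul {a b : ℕ} (ha : a ≠ 0) (hb : b ≠ 0) :
    (a * b).factorization 2 = a.factorization 2 + b.factorization 2 := by
  rw [Nat.factorization_mul ha hb]; rfl

theorem fac2_eq_one {n : ℕ} (h : n % 4 = 2) : n.factorization 2 = 1 := by
  obtain ⟨k, rfl⟩ : ∃ k, n = 2 * (2 * k + 1) := ⟨n / 4, by omega⟩
  rw [fac2_mul two_ne_zero (by omega), fac2_odd (odd_two_mul_add_one k),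
    Nat.prime_two.factorization_self]

theorem fac2_two_mul_pow (hq : Odd q) (h1 : 1 < q) (a : ℕ) {b : ℕ} (hb : b ≠ 0) :
    (2 * q ^ a * b).factorization 2 = 1 + b.factorization 2 := by
  rw [fac2_mul (by positivity) hb, fac2_mul two_ne_zero (by positivity), fac2_odd hq.pow,
    Nat.prime_two.factorization_self]

theorem fac2_pow_two_mul (h1 : 1 < q) {m : ℕ} (hm : m ≠ 0) :
    (q ^ (2 * m) - 1).factorization 2 =
      (q ^ m - 1).factorization 2 + (q ^ m + 1).factorization 2 := by
  rw [← fac2_mul (pow_sub_one_ne_zero h1 hm) (by omega), mul_comm 2, pow_mul, mul_comm,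
    ← Nat.sq_sub_sq, one_pow]

theorem fac2_sq_sub_one (h1 : 1 < q) :
    (q ^ 2 - 1).factorization 2 = (q - 1).factorization 2 + (q + 1).factorization 2 := by
  simpa using fac2_pow_two_mul h1 one_ne_zero

theorem fac2_even_pow (hq : Odd q) (h1 : 1 < q) {m : ℕ} (hm : m ≠ 0) :
    (q ^ (2 * m) - 1).factorization 2 = (q ^ 2 - 1).factorization 2 + m.factorization 2 := by
  have h2 : ¬ 2 ∣ q := by rw [← even_iff_two_dvd]; simpa using hq
  have h3 := padicValNat.pow_two_sub_one h1 h2 (n := 2 * m) (by omega) (even_two_mul m)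
  rw [padicValNat.mul two_ne_zero hm, padicValNat_self] at h3
  rw [fac2_sq_sub_one h1]
  simp only [Nat.factorization_def _ Nat.prime_two]
  omega

theorem fac2_odd_pow (hq : Odd q) (h1 : 1 < q) (m : ℕ) :
    (q ^ (2 * m + 1) - 1).factorization 2 = (q - 1).factorization 2 := by
  have h2 : Odd (∑ i ∈ Finset.range (2 * m + 1), q ^ i) := by
    rw [Finset.odd_sum_iff_odd_card_odd, Finset.filter_true_of_mem fun i _ => hq.pow,
      Finset.card_range]
    exact odd_two_mul_add_one m
  have h3 := Nat.geomSum_eq (show 2 ≤ q from h1) (2 * m + 1)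
  rw [← Nat.div_mul_cancel (Nat.sub_one_dvd_pow_sub_one q (2 * m + 1)), ← h3,
    fac2_mul h2.pos.ne' (by omega), fac2_odd h2, zero_add]

theorem prod_even_pow_ne_zero (h1 : 1 < q) (m : ℕ) :
    ∏ i ∈ Finset.range m, (q ^ (2 * (i + 1)) - 1) ≠ 0 :=
  Finset.prod_ne_zero_iff.2 fun _ _ => pow_sub_one_ne_zero h1 (by omega)

theorem fac2_prod_even_pow (hq : Odd q) (h1 : 1 < q) (m : ℕ) :
    (∏ i ∈ Finset.range m, (q ^ (2 * (i + 1)) - 1)).factorization 2 =
      m * (q ^ 2 - 1).factorization 2 + m.factorial.factorization 2 := by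
  induction m with
  | zero => simp
  | succ m ih =>
    rw [Finset.prod_range_succ, fac2_mul (prod_even_pow_ne_zero h1 m)
      (pow_sub_one_ne_zero h1 (by omega)), ih, fac2_even_pow hq h1 m.succ_ne_zero,
      Nat.factorial_succ, fac2_mul m.succ_ne_zero m.factorial_ne_zero]
    ring

theorem fac2_gl_prod (hq : Odd q) (h1 : 1 < q) (n : ℕ) :
    (∏ i : Fin n, (q ^ n - q ^ (i : ℕ))).factorization 2 =
      ∑ i ∈ Finset.range n, (q ^ (i + 1) - 1).factorization 2 := by
  have h2 : ∀ i < n, q ^ n - q ^ i = q ^ i * (q ^ (n - 1 - i + 1) - 1) := fun i hi => by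
    rw [Nat.mul_sub_one, ← pow_add]; congr 2; omega
  rw [Nat.factorization_prod fun i _ => by
    rw [h2 i i.2]; exact mul_ne_zero (by positivity) (pow_sub_one_ne_zero h1 (by omega)),
    Finsupp.finset_sum_apply, ← Finset.sum_range_reflect, Finset.sum_range]
  refine Finset.sum_congr rfl fun i _ => ?_
  rw [h2 i i.2, fac2_mul (by positivity) (pow_sub_one_ne_zero h1 (by omega)), fac2_odd hq.pow,
    zero_add]

theorem fac2_gl_even (hq : Odd q) (h1 : 1 < q) (m : ℕ) :
    ∑ i ∈ Finset.range (2 * m), (q ^ (i + 1) - 1).factorization 2 =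
      m * ((q - 1).factorization 2 + (q ^ 2 - 1).factorization 2) +
        m.factorial.factorization 2 := by
  induction m with
  | zero => simp
  | succ m ih =>
    rw [show 2 * (m + 1) = 2 * m + 1 + 1 by ring, Finset.sum_range_succ, Finset.sum_range_succ, ih,
      fac2_odd_pow hq h1, show 2 * m + 1 + 1 = 2 * (m + 1) by ring,
      fac2_even_pow hq h1 m.succ_ne_zero, Nat.factorial_succ,
      fac2_mul m.succ_ne_zero m.factorial_ne_zero]
    ring

end arith

section groups

variable {G A : Type*} [Group G] [Finite G] [Group A] {p : ℕ} [Fact p.Prime]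

theorem inf_ker_le_goodSub_of_sylow (ψ : G →* A)
    (h : ∀ (S : Sylow p ψ.ker) (x : (S : Subgroup ψ.ker)), x ^ p ∈ commutator (S : Subgroup ψ.ker))
    (P : Sylow p G) : (P : Subgroup G) ⊓ ψ.ker ≤ goodSub p ((P : Subgroup G) ⊓ ψ.ker) := by
  obtain ⟨S, hS⟩ := (P.isPGroup'.comap_subtype (K := ψ.ker)).exists_le_sylow
  obtain ⟨S', hS'⟩ := S.exists_comap_subtype_eq
  obtain ⟨g, hg⟩ := MulAction.exists_smul_eq G S' P
  have h1 : (P : Subgroup G) ⊓ ψ.ker =
      (S : Subgroup ψ.ker).map ((MulAut.conj g).toMonoidHom.comp ψ.ker.subtype) := by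
    rw [← hS', ← hg]
    ext y
    constructor
    · rintro ⟨⟨z, hz, rfl⟩, hy⟩
      refine ⟨⟨z, ?_⟩, hz, rfl⟩
      have h3 : ψ (g * z * g⁻¹) = 1 := hy
      rwa [map_mul, map_mul, map_inv, conj_eq_one_iff] at h3
    · rintro ⟨z, hz, rfl⟩
      exact ⟨⟨z, hz, rfl⟩, ψ.normal_ker.conj_mem _ z.2 g⟩
  rw [h1]
  exact map_le_goodSub _ (le_goodSub_of_pow_mem (h S))

theorem exists_mem_sylow_map_eq (φ : G →* A) (hA : IsPGroup p A) (S : Sylow p G) (g : G) :
    ∃ a ∈ S, φ a = φ g := by
  have h1 : ((S.mapSurjective φ.rangeRestrict_surjective : Sylow p φ.range) :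
      Subgroup φ.range) = ⊤ :=
    ((S.mapSurjective φ.rangeRestrict_surjective).is_maximal'
      ((hA.to_subgroup _).to_subgroup ⊤) le_top).symm
  rw [Sylow.coe_mapSurjective] at h1
  obtain ⟨a, ha, h⟩ : φ.rangeRestrict g ∈ (S : Subgroup G).map φ.rangeRestrict := h1 ▸ mem_top _
  exact ⟨a, ha, congrArg Subtype.val h⟩

theorem quaternion_le_goodSub {n : ℕ} (hn : Even n) :
    (⊤ : Subgroup (QuaternionGroup n)) ≤ goodSub 2 ⊤ := by
  have h1 : ∀ i, QuaternionGroup.a i ∈ goodSub 2 (⊤ : Subgroup (QuaternionGroup n)) := fun i =>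
    mem_goodSub_of_inv trivial (g := QuaternionGroup.xa 0) trivial (by
      rw [mul_inv_eq_iff_eq_mul, eq_inv_mul_iff_mul_eq]; simp)
  rintro (i | i) -
  · exact h1 i
  · obtain ⟨k, hk⟩ := hn
    refine mem_goodSub.2 ⟨trivial, ?_⟩
    have := (mem_goodSub.1 (h1 k)).2
    rw [QuaternionGroup.xa_sq]
    convert this using 1
    rw [sq, QuaternionGroup.a_mul_a, ← Nat.cast_add, ← hk]

theorem pow_mem_of_equiv {X Y : Type*} [Group X] [Group Y] {p : ℕ} (e : X ≃* Y)
    (h : (⊤ : Subgroup Y) ≤ goodSub p ⊤) (x : X) : x ^ p ∈ commutator X := by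
  have h1 := (mem_goodSub.1 (mem_goodSub_map e.symm.toMonoidHom (H := ⊤) le_top
    (h (mem_top (e x))))).2
  simpa [← commutator_def] using h1

theorem isPGroup_prod_top {X R : Type*} [Group X] [Group R] [Finite X] [Finite R] {P : Subgroup X}
    (h1 : IsPGroup p P) (h2 : IsPGroup p R) : IsPGroup p (P.prod (⊤ : Subgroup R)) := by
  obtain ⟨a, ha⟩ := h1.exists_card_eq
  obtain ⟨b, hb⟩ := h2.exists_card_eq
  exact .of_card (by
    rw [Nat.card_congr (prodEquiv _ _).toEquiv, Nat.card_prod, card_top, ha, hb, ← pow_add])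

theorem factorization_card_prod_top {X R : Type*} [Group X] [Group R] [Finite X] [Finite R]
    (P : Subgroup X) (p : ℕ) : (Nat.card (P.prod (⊤ : Subgroup R))).factorization p =
      (Nat.card P).factorization p + (Nat.card R).factorization p := by
  rw [Nat.card_congr (prodEquiv _ _).toEquiv, Nat.card_prod, card_top,
    Nat.factorization_mul Nat.card_pos.ne' Nat.card_pos.ne']
  rfl

theorem card_signs (κ : Type*) [Fintype κ] : Nat.card (κ → ℤˣ) = 2 ^ Fintype.card κ := by
  rw [Nat.card_fun, Nat.card_eq_fintype_card, Fintype.card_units_int, Nat.card_eq_fintype_card]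

theorem isPGroup_signs (κ : Type*) [Fintype κ] : IsPGroup 2 (κ → ℤˣ) := .of_card (card_signs κ)

end groups

section linear

variable {F W U D I R : Type*} [Field F] [AddCommGroup W] [Module F W] [AddCommGroup U]
  [Module F U] [Group D] [Group R]

/-- The imprimitive linear action of a wreath product. -/
def wrL (ρ : D →* (W ≃ₗ[F] W)) (τ : R →* (U ≃ₗ[F] U)) :
    Wr D I × R →* (((I → W) × U) ≃ₗ[F] ((I → W) × U)) where
  toFun x :=
    { toFun := fun v => (fun i => ρ (x.1.left i) (v.1 (x.1.right⁻¹ i)), τ x.2 v.2)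
      invFun := fun v => (fun i => (ρ (x.1.left (x.1.right i))).symm (v.1 (x.1.right i)),
        (τ x.2).symm v.2)
      map_add' := fun v w => by ext <;> simp
      map_smul' := fun c v => by ext <;> simp
      left_inv := fun v => by ext <;> simp
      right_inv := fun v => by ext <;> simp }
  map_one' := by ext v <;> simp
  map_mul' a b := by ext v <;> simp [wr_mul_left]

variable {ρ : D →* (W ≃ₗ[F] W)} {τ : R →* (U ≃ₗ[F] U)}

theorem wrL_apply (x : Wr D I × R) (v : (I → W) × U) :
    wrL ρ τ x v = (fun i => ρ (x.1.left i) (v.1 (x.1.right⁻¹ i)), τ x.2 v.2) := rfl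

theorem wrL_injective [Nontrivial W] (hρ : Injective ρ) (hτ : Injective τ) :
    Injective (wrL ρ τ : Wr D I × R →* _) := by
  classical
  rw [injective_iff_map_eq_one]
  rintro ⟨w, r⟩ hw
  have h1 : ∀ v : (I → W) × U, wrL ρ τ (w, r) v = v := fun v => by rw [hw]; rfl
  obtain ⟨x, hx⟩ := exists_ne (0 : W)
  have h2 : w.right = 1 := by
    refine inv_eq_one.1 (Equiv.ext fun i => by_contra fun h => hx ?_)
    have := congrFun (congrArg Prod.fst (h1 (Pi.single i x, 0))) i
    rw [wrL_apply] at this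
    dsimp only at this
    rwa [Pi.single_eq_of_ne (show w.right⁻¹ i ≠ i from h), map_zero, Pi.single_eq_same,
      eq_comm] at this
  refine Prod.ext (SemidirectProduct.ext (funext fun i => hρ ?_) h2) (hτ ?_)
  · ext y
    have := congrFun (congrArg Prod.fst (h1 (Pi.single i y, 0))) i
    rw [wrL_apply] at this
    dsimp only at this
    rw [h2, inv_one, Perm.one_apply, Pi.single_eq_same] at this
    simpa using this
  · ext u
    simpa [wrL_apply] using congrArg Prod.snd (h1 (0, u))

theorem det_wrL [Fintype I] [FiniteDimensional F W] [FiniteDimensional F U] (g : I → D) (r : R) :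
    LinearEquiv.det (wrL ρ τ ((inl g : Wr D I), r)) =
      (∏ i, LinearEquiv.det (ρ (g i))) * LinearEquiv.det (τ r) := by
  ext
  have h1 : (wrL ρ τ ((inl g : Wr D I), r) : (I → W) × U →ₗ[F] (I → W) × U) =
      LinearMap.prodMap (LinearMap.pi fun i => (ρ (g i) : W →ₗ[F] W).comp (LinearMap.proj i))
        (τ r : U →ₗ[F] U) := LinearMap.ext fun _ => rfl
  simp only [LinearEquiv.coe_det, Units.val_mul, Units.coe_prod]
  rw [h1, LinearMap.det_prodMap, LinearMap.det_pi]

theorem det_wrL_sg [Fintype I] [DecidableEq I] [FiniteDimensional F W] [FiniteDimensional F U]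
    (i : I) (d : D) (r : R) :
    LinearEquiv.det (wrL ρ τ (sg i d, r)) = LinearEquiv.det (ρ d) * LinearEquiv.det (τ r) := by
  refine (det_wrL (Pi.mulSingle i d) r).trans ?_
  rw [Finset.prod_eq_single i (fun j _ h => by rw [Pi.mulSingle_eq_of_ne h, map_one, map_one])
    (by simp), Pi.mulSingle_eq_same]

/-- Permuting the coordinates. -/
def pmL (F I J U : Type*) [Field F] [AddCommGroup U] [Module F U] :
    Perm (I × J) →* (((I → J → F) × U) ≃ₗ[F] ((I → J → F) × U)) where
  toFun σ :=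
    { toFun := fun v => (fun i j => v.1 (σ⁻¹ (i, j)).1 (σ⁻¹ (i, j)).2, v.2)
      invFun := fun v => (fun i j => v.1 (σ (i, j)).1 (σ (i, j)).2, v.2)
      map_add' := fun _ _ => rfl
      map_smul' := fun _ _ => rfl
      left_inv := fun v => by ext <;> simp
      right_inv := fun v => by ext <;> simp }
  map_one' := rfl
  map_mul' _ _ := rfl

theorem pmL_apply {J : Type*} (σ : Perm (I × J)) (v : (I → J → F) × U) :
    pmL F I J U σ v = (fun i j => v.1 (σ⁻¹ (i, j)).1 (σ⁻¹ (i, j)).2, v.2) := rfl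

theorem wrL_inr {J : Type*} (ρ : D →* ((J → F) ≃ₗ[F] (J → F))) (t : Perm I) :
    wrL ρ τ ((inr t : Wr D I), 1) = pmL F I J U (prodCongrLeft fun _ : J => t) := by
  ext v <;> simp [wrL_apply, pmL_apply, Perm.inv_def, prodCongrLeft]

/-- Sign changes of the coordinates. -/
def sgnL (F κ : Type*) [Field F] : (κ → ℤˣ) →* ((κ → F) ≃ₗ[F] (κ → F)) where
  toFun ε :=
    { toFun := fun v k => ε k • v k
      invFun := fun v k => ε k • v k
      map_add' := fun _ _ => funext fun _ => smul_add _ _ _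
      map_smul' := fun c v => funext fun k => smul_comm (ε k) c (v k)
      left_inv := fun v => funext fun k => by simp [smul_smul]
      right_inv := fun v => funext fun k => by simp [smul_smul] }
  map_one' := by ext; simp
  map_mul' _ _ := by ext; simp [smul_smul]

theorem sgnL_apply {κ : Type*} (ε : κ → ℤˣ) (v : κ → F) (k : κ) : sgnL F κ ε v k = ε k • v k := rfl

theorem sgnL_injective {κ : Type*} (h2 : (2 : F) ≠ 0) : Injective (sgnL F κ) := by
  rw [injective_iff_map_eq_one]
  intro ε h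
  funext k
  rcases Int.units_eq_one_or (ε k) with h1 | h1
  · exact h1
  · have h3 : sgnL F κ ε 1 k = 1 := by rw [h]; rfl
    rw [sgnL_apply, h1] at h3
    refine absurd ?_ h2
    simp only [Pi.one_apply, Units.neg_smul, one_smul] at h3
    linear_combination -h3

theorem signs_le {κ : Type*} [Finite κ] [DecidableEq κ] {K : Subgroup (κ → ℤˣ)}
    (h : ∀ k, Pi.mulSingle k (-1) ∈ K) : ⊤ ≤ K := fun ε _ =>
  pi_mem_of_mulSingle_mem ε fun k => by
    rcases Int.units_eq_one_or (ε k) with h1 | h1 <;> rw [h1]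
    · rw [Pi.mulSingle_one]; exact one_mem _
    · exact h k

end linear

end Cfsg.Agent.H8
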