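import Cfsg.Agent.H8.Wr3
import Cfsg.Agent.H12.SBridge
import Cfsg.Agent.H12.DicksonSL

/-! Sylow `2`-subgroups of symplectic and special linear groups in odd characteristic. -/

set_option autoImplicit false

namespace Cfsg.Agent.H8

open Subgroup Equiv SemidirectProduct Function Module
open scoped MatrixGroups

variable {F : Type*} [Field F]

theorem exists_sylow_mem {G : Type*} [Group G] {p k : ℕ} {x : G} (h : x ^ p ^ k = 1) :
    ∃ S : Sylow p G, x ∈ S := by
  have : IsPGroup p (zpowers x) := by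
    rintro ⟨_, n, rfl⟩
    exact ⟨k, Subtype.ext (by
      simp only [SubgroupClass.coe_pow, coe_one]
      rw [← zpow_natCast, ← zpow_mul, mul_comm, zpow_mul, zpow_natCast, h, one_zpow])⟩
  obtain ⟨S, hS⟩ := this.exists_le_sylow
  exact ⟨S, hS (mem_zpowers x)⟩

instance finite_wr {D I : Type*} [Group D] [Finite D] [Finite I] : Finite (Wr D I) :=
  .of_equiv _ SemidirectProduct.equivProd.symm

/-- `SL_n(F)` as the kernel of the determinant on an abstract space. -/
noncomputable def slKer {n V : Type*} [Fintype n] [DecidableEq n] [AddCommGroup V] [Module F V]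
    (b : Basis n F V) :
    Matrix.SpecialLinearGroup n F ≃* (LinearEquiv.det : (V ≃ₗ[F] V) →* Fˣ).ker :=
  (Matrix.SpecialLinearGroup.toLin_equiv b).trans
    { toFun := fun u => ⟨u.1, u.2⟩
      invFun := fun u => ⟨u.1, u.2⟩
      left_inv := fun _ => rfl
      right_inv := fun _ => rfl
      map_mul' := fun _ _ => rfl }

theorem det_sgnL {κ : Type*} [Fintype κ] [DecidableEq κ] (k : κ) :
    LinearEquiv.det (sgnL F κ (Pi.mulSingle k (-1))) = -1 := by
  ext
  have h1 : (sgnL F κ (Pi.mulSingle k (-1)) : (κ → F) →ₗ[F] (κ → F)) = LinearMap.pi fun i =>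
      ((Pi.mulSingle k (-1) : κ → ℤˣ) i • (LinearMap.id : F →ₗ[F] F)).comp (LinearMap.proj i) :=
    LinearMap.ext fun _ => rfl
  rw [LinearEquiv.coe_det, h1, LinearMap.det_pi, Finset.prod_eq_single k
    (fun j _ h => by rw [Pi.mulSingle_eq_of_ne h, one_smul, LinearMap.det_id]) (by simp),
    Pi.mulSingle_eq_same, LinearMap.det_ring]
  simp

theorem sgnL_mul_self {κ : Type*} (ε : κ → ℤˣ) : sgnL F κ ε * sgnL F κ ε = 1 := by
  rw [← map_mul, show ε * ε = 1 from funext fun k => Int.units_mul_self _, map_one]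

variable [Fintype F]

theorem sylow_sl2_pow_mem (hF : Odd (Fintype.card F)) (P : Sylow 2 SL(2, F))
    (x : (P : Subgroup SL(2, F))) : x ^ 2 ∈ commutator (P : Subgroup SL(2, F)) := by
  obtain h | ⟨k, hk, ⟨e⟩⟩ := H12.isCyclic_or_quaternion_sl2 (H12.two_ne_zero_of_odd_card hF)
    (P : Subgroup SL(2, F)).subtype (subtype_injective _) P.isPGroup'
  · exact absurd h (H12.not_isCyclic_sylow_two_sl2 hF P)
  · exact pow_mem_of_equiv e (quaternion_le_goodSub (even_two.pow_of_ne_zero (by omega))) x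

theorem fac2_card_sl2 (hF : Odd (Fintype.card F)) : (Nat.card SL(2, F)).factorization 2 =
    (Fintype.card F ^ 2 - 1).factorization 2 := by
  rw [H12.card_SL2 rfl, fac2_mul Fintype.card_ne_zero
    (pow_sub_one_ne_zero Fintype.one_lt_card two_ne_zero), fac2_odd hF, zero_add]

theorem sylow_sp_pow_mem (hF : Odd (Fintype.card F)) (n : ℕ)
    (P : Sylow 2 (Matrix.symplecticGroup (Fin n) F))
    (x : (P : Subgroup (Matrix.symplecticGroup (Fin n) F))) :
    x ^ 2 ∈ commutator (P : Subgroup (Matrix.symplecticGroup (Fin n) F)) := by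
  let V := (Fin n → Fin 2 → F) × PUnit.{1}
  let B : V →ₛₗ[RingHom.id F] V →ₗ[F] F := LinearMap.mk₂ F
    (fun v w => ∑ i, (v.1 i 0 * w.1 i 1 - v.1 i 1 * w.1 i 0))
    (fun _ _ _ => by
      rw [← Finset.sum_add_distrib]; exact Finset.sum_congr rfl fun _ _ => by simp [V]; ring)
    (fun _ _ _ => by
      rw [smul_eq_mul, Finset.mul_sum]; exact Finset.sum_congr rfl fun _ _ => by simp [V]; ring)
    (fun _ _ _ => by
      rw [← Finset.sum_add_distrib]; exact Finset.sum_congr rfl fun _ _ => by simp [V]; ring)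
    (fun _ _ _ => by
      rw [smul_eq_mul, Finset.mul_sum]; exact Finset.sum_congr rfl fun _ _ => by simp [V]; ring)
  have hB : ∀ v w, B v w = ∑ i, (v.1 i 0 * w.1 i 1 - v.1 i 1 * w.1 i 0) := fun _ _ => rfl
  have hSD : H12.SD B := by
    refine ⟨fun _ => rfl, fun v w => ?_, fun v h => ?_, fun v => ⟨0, ?_⟩⟩
    · rw [RingHom.id_apply, hB, hB, ← Finset.sum_neg_distrib]
      exact Finset.sum_congr rfl fun _ _ => by ring
    · refine Prod.ext (funext fun i => ?_) rfl
      have h0 := h (Pi.single i ![0, 1], 0)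
      have h1 := h (Pi.single i ![1, 0], 0)
      rw [hB, Finset.sum_eq_single i (fun j _ hj => by simp [Pi.single_eq_of_ne hj])
        (by simp)] at h0 h1
      funext j
      fin_cases j
      · simpa using h0
      · simpa using h1
    · rw [hB, Finset.sum_eq_zero fun _ _ => by ring]; simp
  have hV : finrank F V = 2 * n := by
    simp [V, finrank_pi_fintype, mul_comm, finrank_zero_of_subsingleton]
  obtain ⟨e⟩ := hSD.nonempty_UG_equiv_sp hV
  let f : Wr SL(2, F) (Fin n) →* (V ≃ₗ[F] V) :=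
    (wrL Matrix.SpecialLinearGroup.toLin' (1 : Unit →* _)).comp (MonoidHom.inl _ _)
  have hf : Injective f := (wrL_injective Matrix.SpecialLinearGroup.toLin'_injective
    (injective_of_subsingleton _)).comp (Prod.mk_left_injective _)
  have hfB : ∀ w, f w ∈ H12.UG B := fun w u v => by
    rw [hB, hB, ← Equiv.sum_comp w.right⁻¹ fun i => u.1 i 0 * v.1 i 1 - u.1 i 1 * v.1 i 0]
    refine Finset.sum_congr rfl fun i _ => ?_
    have h1 := (w.left i).det_coe
    rw [Matrix.det_fin_two] at h1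
    have h2 : ∀ (u : V) (j : Fin 2), (f w u).1 i j =
        ∑ k, (w.left i).1 j k * u.1 (w.right⁻¹ i) k := fun _ _ => rfl
    simp only [h2, Fin.sum_univ_two]
    linear_combination (u.1 (w.right⁻¹ i) 0 * v.1 (w.right⁻¹ i) 1 -
      u.1 (w.right⁻¹ i) 1 * v.1 (w.right⁻¹ i) 0) * h1
  obtain ⟨D0⟩ : Nonempty (Sylow 2 SL(2, F)) := inferInstance
  obtain ⟨T⟩ : Nonempty (Sylow 2 (Perm (Fin n))) := inferInstance
  refine sylow_pow_mem (e.toMonoidHom.comp (f.codRestrict _ hfB))
    (e.injective.comp fun a b h => hf (congrArg Subtype.val h))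
    (isPGroup_wsub D0.isPGroup' T.isPGroup') ?_
    (wsub_le_goodSub (le_goodSub_of_pow_mem (sylow_sl2_pow_mem hF D0))
      (genP_sylow_perm 2 T).le_goodSub) P x
  rw [factorization_card_wsub, factorization_card_sylow, factorization_card_sylow_perm,
    fac2_card_sl2 hF, H12.card_sp, H12.spOrd, Nat.card_eq_fintype_card,
    fac2_mul (pow_ne_zero _ Fintype.card_ne_zero) (prod_even_pow_ne_zero Fintype.one_lt_card _),
    fac2_odd hF.pow, fac2_prod_even_pow hF Fintype.one_lt_card]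
  simp

theorem fac2_card_gl (hF : Odd (Fintype.card F)) {V : Type*} [AddCommGroup V] [Module F V]
    [FiniteDimensional F V] {n : ℕ} (hV : finrank F V = n) :
    (Nat.card (V ≃ₗ[F] V)).factorization 2 =
      ∑ i ∈ Finset.range n, (Fintype.card F ^ (i + 1) - 1).factorization 2 := by
  rw [← fac2_gl_prod hF Fintype.one_lt_card, ← H12.card_GL_fin rfl]
  exact congrArg (fun k : ℕ => k.factorization 2) (Nat.card_congr
    ((Matrix.GeneralLinearGroup.toLin' (finBasisOfFinrankEq F V hV)).trans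
      (LinearMap.GeneralLinearGroup.generalLinearEquiv F V)).toEquiv).symm

theorem units_eq_of_three (hq : Fintype.card F % 4 = 3) {u : Fˣ} {k : ℕ} (h : u ^ 2 ^ k = 1) :
    u = 1 ∨ u = -1 := by
  classical
  have h1 : (u ^ 2) ^ 2 ^ k = 1 := by rw [← pow_mul, mul_comm, pow_mul, h, one_pow]
  have h2 : (u ^ 2) ^ (2 * (Fintype.card F / 4) + 1) = 1 := by
    rw [← pow_mul, show 2 * (2 * (Fintype.card F / 4) + 1) = Fintype.card Fˣ by
      rw [Fintype.card_units]; omega, pow_card_eq_one]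
  have h3 : u ^ 2 = 1 := orderOf_eq_one_iff.1 (Nat.eq_one_of_dvd_coprimes
    ((Nat.coprime_two_left.2 (odd_two_mul_add_one _)).pow_left k) (orderOf_dvd_of_pow_eq_one h1)
    (orderOf_dvd_of_pow_eq_one h2))
  have h4 : (u : F) ^ 2 = 1 := by rw [← Units.val_pow_eq_pow_val, h3, Units.val_one]
  rcases sq_eq_one_iff.1 h4 with h | h
  · exact Or.inl (Units.ext h)
  · exact Or.inr (Units.ext h)

theorem sl_three_aux (hq : Fintype.card F % 4 = 3) {I κ : Type} [Fintype I] [DecidableEq I]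
    [Fintype κ] [DecidableEq κ] (i0 : I) (D0 : Sylow 2 ((Fin 2 → F) ≃ₗ[F] (Fin 2 → F)))
    (haD : sgnL F (Fin 2) (Pi.mulSingle 0 (-1)) ∈ D0) (T : Sylow 2 (Perm I))
    (ψ : Wr ((Fin 2 → F) ≃ₗ[F] (Fin 2 → F)) I × (κ → ℤˣ) →* Fˣ)
    (hψ : ∀ x, ψ x = LinearEquiv.det (wrL (MonoidHom.id _) (sgnL F κ) x)) :
    (wsub D0.1 T.1).prod ⊤ ⊓ ψ.ker ≤ goodSub 2 ((wsub D0.1 T.1).prod ⊤ ⊓ ψ.ker) := by
  have hF : Odd (Fintype.card F) := Nat.odd_iff.2 (by omega)
  haveI : Finite ((Fin 2 → F) ≃ₗ[F] (Fin 2 → F)) := DFunLike.finite _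
  set a := sgnL F (Fin 2) (Pi.mulSingle 0 (-1))
  have a2 : a * a = 1 := sgnL_mul_self _
  have ha : LinearEquiv.det a = -1 := det_sgnL 0
  refine wr_ker ψ i0 LinearEquiv.det (fun d => ?_) (fun t _ => ?_)
      (genP_sylow_perm 2 T).le_goodSub (fun d hd => ?_) (fun d hd h => Or.inl ?_)
      (signs_le fun k => subset_closure ⟨?_, a, haD, a2, ?_⟩)
  · rw [hψ, det_wrL_sg, map_one, map_one, mul_one, MonoidHom.id_apply]
  · rw [hψ, wrL_inr]
    exact map_eq_one_of_sign (A := Fˣ) (LinearEquiv.det.comp (pmL F I (Fin 2) (κ → F)))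
      (sign_prodCongrLeft_two (Fintype.card_fin 2) t)
  · obtain ⟨k, hk⟩ := D0.isPGroup' ⟨d, hd⟩
    have h1 : LinearEquiv.det d ^ 2 ^ k = 1 := by
      rw [← map_pow, show d ^ 2 ^ k = 1 from congrArg Subtype.val hk, map_one]
    rcases units_eq_of_three hq h1 with h | h
    · exact subset_closure ⟨hd, Or.inl h⟩
    · rw [show d = d * a * a by rw [mul_assoc, a2, mul_one]]
      exact mul_mem (subset_closure ⟨mul_mem hd haD, Or.inl (by rw [map_mul, h, ha]; simp)⟩)
        (subset_closure ⟨haD, Or.inr a2⟩)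
  · exact inf_ker_le_goodSub_of_sylow _ (sylow_pow_mem_congr (slKer (Pi.basisFun F (Fin 2)))
      (sylow_sl2_pow_mem hF)) D0 ⟨hd, h⟩
  · exact funext fun _ => Int.units_mul_self _
  · rw [hψ, ← map_one (sg i0), det_wrL_sg, map_one, map_one, one_mul, ha, det_sgnL]

theorem sylow_sl_three (hq : Fintype.card F % 4 = 3) {m r : ℕ} (hm : 1 ≤ m) (hr : r ≤ 1)
    (P : Sylow 2 (Matrix.SpecialLinearGroup (Fin (2 * m + r)) F))
    (x : (P : Subgroup (Matrix.SpecialLinearGroup (Fin (2 * m + r)) F))) :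
    x ^ 2 ∈ commutator (P : Subgroup (Matrix.SpecialLinearGroup (Fin (2 * m + r)) F)) := by
  have hF : Odd (Fintype.card F) := Nat.odd_iff.2 (by omega)
  have hV : finrank F ((Fin m → Fin 2 → F) × (Fin r → F)) = 2 * m + r := by
    simp [finrank_pi_fintype, mul_comm]
  haveI : Finite (((Fin m → Fin 2 → F) × (Fin r → F)) ≃ₗ[F]
    ((Fin m → Fin 2 → F) × (Fin r → F))) := DFunLike.finite _
  haveI : Finite ((Fin 2 → F) ≃ₗ[F] (Fin 2 → F)) := DFunLike.finite _
  refine sylow_pow_mem_congr (slKer (finBasisOfFinrankEq F _ hV)).symm (fun S y => ?_) P x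
  obtain ⟨D0, haD⟩ := exists_sylow_mem (p := 2) (k := 1)
    (x := sgnL F (Fin 2) (Pi.mulSingle 0 (-1))) (by rw [pow_one, sq, sgnL_mul_self])
  obtain ⟨T⟩ : Nonempty (Sylow 2 (Perm (Fin m))) := inferInstance
  have h1 : IsPGroup 2 ((wsub D0.1 T.1).prod (⊤ : Subgroup (Fin r → ℤˣ))) :=
    isPGroup_prod_top (isPGroup_wsub D0.isPGroup' T.isPGroup') (isPGroup_signs _)
  have h2 : Injective (wrL (I := Fin m) (MonoidHom.id ((Fin 2 → F) ≃ₗ[F] (Fin 2 → F)))
      (sgnL F (Fin r))) :=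
    wrL_injective injective_id (sgnL_injective (H12.two_ne_zero_of_odd_card hF))
  have h3 := sl_three_aux hq ⟨0, hm⟩ D0 haD T (LinearEquiv.det.comp
    (wrL (MonoidHom.id _) (sgnL F (Fin r)))) fun _ => rfl
  refine sylow_ker_pow_mem _ h2 LinearEquiv.det h1 ?_ h3 S y
  rw [factorization_card_prod_top, factorization_card_wsub, factorization_card_sylow,
    factorization_card_sylow_perm, card_signs, fac2_card_gl hF hV,
    fac2_card_gl hF (n := 2 * 1) (by simp), fac2_gl_even hF Fintype.one_lt_card,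
    Nat.factorization_pow_self Nat.prime_two]
  have h4 := fac2_gl_even hF Fintype.one_lt_card m
  clear h1 h2 h3
  interval_cases r
  · simp [h4]
  · rw [Finset.sum_range_succ, h4, fac2_odd_pow hF Fintype.one_lt_card,
      fac2_eq_one (n := Fintype.card F - 1) (by omega)]
    simp

omit [Fintype F] in
theorem det_toModuleAut (d : Fˣ) : LinearEquiv.det (DistribMulAction.toModuleAut F F d) = d := by
  ext
  rw [LinearEquiv.coe_det, LinearMap.det_ring]
  simp [Units.smul_def]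

omit [Fintype F] in
theorem sl_one_aux {I : Type} [Fintype I] [DecidableEq I] (i0 : I) (D0 : Subgroup Fˣ) {c : Fˣ}
    (hc : c ∈ D0) (hc2 : c ^ 2 = -1) (T : Sylow 2 (Perm I)) (hT : ∀ i, ∃ t ∈ T.1, t i0 = i)
    (ψ : Wr Fˣ I →* Fˣ) (hψ : ∀ x, ψ x = LinearEquiv.det (wrL (DistribMulAction.toModuleAut F F)
      (1 : Unit →* (PUnit.{1} ≃ₗ[F] PUnit.{1})) (x, 1))) :
    wsub D0 T.1 ⊓ ψ.ker ≤ goodSub 2 (wsub D0 T.1 ⊓ ψ.ker) := by
  refine wr_ker_cyc ψ i0 (fun d => ?_) (fun t _ => ?_) (genP_sylow_perm 2 T) hT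
  · rw [hψ, det_wrL_sg, det_toModuleAut, map_one, map_one, mul_one]
  · have h1 : ψ (inr t) ^ 2 = 1 := by
      rw [← map_pow, ← map_pow]
      exact map_eq_one_of_sign (ψ.comp inr) (by rw [map_pow, Int.units_sq])
    have h4 : (ψ (inr t) : F) ^ 2 = 1 := by rw [← Units.val_pow_eq_pow_val, h1, Units.val_one]
    rcases sq_eq_one_iff.1 h4 with h | h
    · exact ⟨1, one_mem _, Units.ext (by simpa using h)⟩
    · exact ⟨_, hc, by rw [hc2]; exact Units.ext h⟩

theorem sylow_sl_one (hq : Fintype.card F % 4 = 1) (j : ℕ)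
    (P : Sylow 2 (Matrix.SpecialLinearGroup (Fin (2 * 2 ^ j)) F))
    (x : (P : Subgroup (Matrix.SpecialLinearGroup (Fin (2 * 2 ^ j)) F))) :
    x ^ 2 ∈ commutator (P : Subgroup (Matrix.SpecialLinearGroup (Fin (2 * 2 ^ j)) F)) := by
  classical
  have hF : Odd (Fintype.card F) := Nat.odd_iff.2 (by omega)
  obtain ⟨I, _, _, hI⟩ : ∃ (I : Type) (_ : Group I) (_ : Fintype I), Fintype.card I = 2 * 2 ^ j :=
    ⟨Multiplicative (ZMod (2 * 2 ^ j)), inferInstance, inferInstance, by simp⟩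
  have hV : finrank F ((I → F) × PUnit.{1}) = 2 * 2 ^ j := by
    simp [hI, finrank_zero_of_subsingleton]
  haveI : Finite (((I → F) × PUnit.{1}) ≃ₗ[F] ((I → F) × PUnit.{1})) := DFunLike.finite _
  refine sylow_pow_mem_congr (slKer (finBasisOfFinrankEq F _ hV)).symm (fun S y => ?_) P x
  obtain ⟨c, hc⟩ := FiniteField.isSquare_neg_one_iff.2 (show Fintype.card F % 4 ≠ 3 by omega)
  have hc0 : c ≠ 0 := by rintro rfl; simp at hc
  have hc2 : Units.mk0 c hc0 ^ 2 = -1 := Units.ext (by simp [sq, ← hc])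
  obtain ⟨D0, hcD⟩ := exists_sylow_mem (p := 2) (k := 2) (x := Units.mk0 c hc0)
    (by rw [sq 2, pow_mul, hc2]; simp)
  obtain ⟨T, hT⟩ := ((IsPGroup.of_card (p := 2) (G := I) (n := j + 1) (by
    rw [Nat.card_eq_fintype_card, hI, pow_succ'])).of_surjective _
    (MulAction.toPermHom I I).rangeRestrict_surjective).exists_le_sylow
  have h1 : IsPGroup 2 (wsub D0.1 T.1) := isPGroup_wsub D0.isPGroup' T.isPGroup'
  refine sylow_ker_pow_mem
    ((wrL (DistribMulAction.toModuleAut F F) (1 : Unit →* (PUnit.{1} ≃ₗ[F] PUnit.{1}))).comp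
      (MonoidHom.inl (Wr Fˣ I) _))
    ((wrL_injective (fun a b h => by rw [← det_toModuleAut a, h, det_toModuleAut])
      (injective_of_subsingleton _)).comp (Prod.mk_left_injective _)) LinearEquiv.det h1 ?_
    (sl_one_aux 1 _ hcD hc2 T (fun i => ⟨_, hT ⟨i, rfl⟩, mul_one i⟩) _ fun _ => rfl) S y
  rw [factorization_card_wsub, factorization_card_sylow, factorization_card_sylow_perm,
    fac2_card_gl hF hV, fac2_gl_even hF Fintype.one_lt_card, Nat.card_eq_fintype_card,
    Nat.card_eq_fintype_card, hI, factorization_factorial_div 2 (2 * _), Fintype.card_units,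
    fac2_sq_sub_one Fintype.one_lt_card, fac2_eq_one (n := Fintype.card F + 1) (by omega),
    Nat.mul_div_cancel_left _ two_pos]
  exact le_of_eq (by ring)

end Cfsg.Agent.H8
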